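import Cfsg.Agent.Lib.Bender.FromB1.NC.Base
import Cfsg.Agent.Lib.Bender.NCTools.Vanish
import Cfsg.Agent.Lib.Bender.NCTools.Congruence

/-!
The end of the non-commuting case with a special prime `q`.

Blueprint: `blueprint/bender/A5c_audit.md`, section 5 (END (R)); `blueprint/bender/A5b.md`, section 7.
-/

set_option autoImplicit false
set_option linter.unusedSectionVars false
set_option linter.style.haveILetI false

namespace CfsgLib.Bender.NC

open MulAction Cfsg CfsgLib.Bender CfsgLib.Bender.OneFix CfsgLib.Bender.TwoClosed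
open CfsgLib.Bender.B1 (FourIn)

universe u

namespace Frame

variable {G Ω : Type u} [Group G] [MulAction G Ω] [Finite G] [FaithfulSMul G Ω] (hF : OneFix G Ω)
  (hNB : NoBad G Ω) {a b : Ω} {u : G} {F C : Subgroup G} (hFr : Frame a b u F C)
include hF hNB hFr

/-- Powers of an element of `F C`. -/
theorem pow_mul_mem {f c : G} (hf : f ∈ F) (hc : c ∈ C) (n : ℕ) : ∃ f' ∈ F, (f * c) ^ n = f' * c ^ n := by
  induction n with
  | zero => exact ⟨1, one_mem F, by simp⟩
  | succ n ih =>
    obtain ⟨f', hf', he⟩ := ih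
    refine ⟨f' * (c ^ n * f * (c ^ n)⁻¹), mul_mem hf' (conj_F_of_C hF hNB hFr (pow_mem hc n) hf), ?_⟩
    rw [pow_succ, he, pow_succ]
    group

/-- The component in `C` of an element of `F C` of order dividing `n`. -/
theorem pow_eq_one_of_mul {f c : G} (hf : f ∈ F) (hc : c ∈ C) {n : ℕ} (h : (f * c) ^ n = 1) : c ^ n = 1 := by
  obtain ⟨f', hf', he⟩ := pow_mul_mem hF hNB hFr hf hc n
  rw [h] at he
  refine eq_one_of_mem hF hNB hFr ?_ (pow_mem hc n)
  rw [eq_inv_of_mul_eq_one_right he.symm]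
  exact inv_mem hf'

variable (hBel : B1.Below.{u} (Nat.card G)) (hnc : ¬ CommAt G a)
include hBel hnc

/-- No prime `q` has the special properties: the elements of `C` generated by the involutions at `a` and `F` have no
order divisible by the other primes `r` of `F`, those centralising one non-trivial `q'`-element of `F` centralise all
of them, as do those of `q`-power order, and the automiser of the `q'`-part is small against each `r`. -/
theorem false_of_special {q : ℕ} (hq : q.Prime)
    (hqr : ∀ r : ℕ, r.Prime → r ≠ q → r ∣ Nat.card (InvAt G a) → ∀ c ∈ C, c ∈ invs (G := G) a ⊔ F → ¬ r ∣ orderOf c)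
    (hT : ∀ c ∈ C, c ∈ invs (G := G) a ⊔ F → ∀ f ∈ F, f ≠ 1 → ¬ q ∣ orderOf f → c * f = f * c →
      ∀ f' ∈ F, ¬ q ∣ orderOf f' → c * f' = f' * c)
    (hQ : ∀ c ∈ C, c ∈ invs (G := G) a ⊔ F → ∀ j : ℕ, c ^ q ^ j = 1 → ∀ f' ∈ F, ¬ q ∣ orderOf f' → c * f' = f' * c)
    (he : ∀ r : ℕ, r.Prime → r ≠ q → r ∣ Nat.card (InvAt G a) →
      ((C ⊓ (invs (G := G) a ⊔ F)) ⊓ Subgroup.centralizer {f : G | f ∈ F ∧ ¬ q ∣ orderOf f}).relIndex
        (C ⊓ (invs (G := G) a ⊔ F)) + 2 ≤ r) : False := by
  classical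
  obtain ⟨i, hi, hia⟩ := exists_inv_at hF a
  set N := invs (G := G) a with hN
  set X1 := N ⊔ F with hX1
  have hNH : N ≤ stabilizer G a := invs_le
  have hNn : ∀ h ∈ stabilizer G a, ∀ y ∈ N, h * y * h⁻¹ ∈ N := fun h hh y hy =>
    (Subgroup.mem_normalizer_iff.mp (stab_le_normalizer_invs hh) y).mp hy
  letI := Fintype.ofFinite N
  set z : N := ⟨i, inv_mem_invs hi hia⟩ with hz
  have hcentz : (Subgroup.centralizer ({z} : Set N)) = (Subgroup.centralizer ({i} : Set G)).subgroupOf N := by
    ext g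
    rw [Subgroup.mem_subgroupOf, Subgroup.mem_centralizer_singleton_iff, Subgroup.mem_centralizer_singleton_iff,
      Subtype.ext_iff]
    rfl
  obtain ⟨hm, hmN⟩ := relIndex_cent_dvd hF hNB hFr hNH hNn hi hia
  set m0 := (Subgroup.centralizer ({i} : Set G)).relIndex N with hm0
  have hindex : (Subgroup.centralizer ({z} : Set N)).index = m0 := by rw [hcentz]; rfl
  have hgen : ∀ M : Subgroup N, M.Normal → (∀ g, g * z * g⁻¹ * z⁻¹ ∈ M) → M = ⊤ := fun M hMn hM => by
    have h := eq_invs_of_comm_mem hF hNB hFr hBel hnc (M := M.map N.subtype) (Subgroup.map_subtype_le M)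
      (by rintro g hg _ ⟨y, hy, rfl⟩; exact ⟨_, hMn.conj_mem y hy ⟨g, hg⟩, rfl⟩) hi hia
      (fun g hg => ⟨_, hM ⟨g, hg⟩, by simp [hz, hi.inv]⟩)
    exact Subgroup.map_injective N.subtype_injective (by rw [h, ← MonoidHom.range_eq_map, Subgroup.range_subtype])
  have hoddF : ∀ {f : G}, f ∈ F → Odd (orderOf f) := fun hf =>
    odd_orderOf (odd_two hF hFr.hab.symm) (le_two hF hNB hFr hf)
  have hzord : orderOf z = 2 :=
    orderOf_eq_prime (by rw [pow_two]; exact Subtype.ext hi.2) fun e => hi.1 (congrArg Subtype.val e)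
  -- the components in `C` of elements of `N` fixing `b`
  have hcomp : ∀ y ∈ N, y ∈ two a b → ∃ f ∈ F, ∃ c ∈ C, c ∈ X1 ∧ y = f * c := fun y hy hyD => by
    obtain ⟨f, hf, c, hc, rfl⟩ := exists_mul hF hNB hFr hyD
    refine ⟨f, hf, c, hc, ?_, rfl⟩
    have h : f⁻¹ * (f * c) ∈ X1 :=
      mul_mem (inv_mem ((le_sup_right : F ≤ X1) hf)) ((le_sup_left : N ≤ X1) hy)
    rwa [inv_mul_cancel_left] at h
  -- the `q'`-elements of `F` in `N`
  let A : Subgroup G :=
    { carrier := {f | f ∈ F ∧ f ∈ N ∧ ¬ q ∣ orderOf f}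
      one_mem' := ⟨one_mem F, one_mem N, by rw [orderOf_one]; exact hq.not_dvd_one⟩
      mul_mem' := fun {s t} ⟨hs, hsN, hsq⟩ ⟨ht, htN, htq⟩ => ⟨mul_mem hs ht, mul_mem hsN htN, fun h =>
        ((hq.dvd_mul).mp (h.trans (show Commute s t from hFr.comm_F s hs t ht).orderOf_mul_dvd_mul_orderOf)).elim
          hsq htq⟩
      inv_mem' := fun {s} ⟨hs, hsN, hsq⟩ => ⟨inv_mem hs, inv_mem hsN, by rwa [orderOf_inv]⟩ }
  -- `r`-elements of `N` fixing `b`
  have hrF : ∀ r : ℕ, r.Prime → r ≠ q → r ∣ Nat.card (InvAt G a) → ∀ y ∈ N, y ∈ two a b → ∀ j : ℕ,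
      y ^ r ^ j = 1 → y ∈ A := fun r hr hrq hrm y hyN hyD j hyj => by
    obtain ⟨f, hf, c, hc, hcX, rfl⟩ := hcomp y hyN hyD
    have hc1 : c = 1 := by
      by_contra hne
      obtain ⟨t, -, ht⟩ := (Nat.dvd_prime_pow hr).mp (orderOf_dvd_of_pow_eq_one (pow_eq_one_of_mul hF hNB hFr hf hc hyj))
      refine hqr r hr hrq hrm c hc hcX (ht ▸ dvd_pow_self r fun e => hne ?_)
      rw [e, pow_zero, orderOf_eq_one_iff] at ht
      exact ht
    rw [hc1, mul_one] at hyN hyj ⊢
    exact ⟨hf, hyN, fun h => hrq ((Nat.prime_dvd_prime_iff_eq hq hr).mp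
      (hq.dvd_of_dvd_pow (h.trans (orderOf_dvd_of_pow_eq_one hyj)))).symm⟩
  have hq' : ∀ {y : G}, y ∈ A → y ∈ {f : G | f ∈ F ∧ ¬ q ∣ orderOf f} := fun hy => ⟨hy.1, hy.2.2⟩
  by_cases hP : ∃ r : ℕ, r.Prime ∧ r ≠ q ∧ r ∣ m0
  · -- an element of maximal order among the `q'`-elements
    haveI : IsMulCommutative A := ⟨⟨fun s t => Subtype.ext (hFr.comm_F s s.2.1 t t.2.1)⟩⟩
    letI : CommGroup A := { (inferInstance : Group A) with mul_comm := fun s t => IsMulCommutative.is_comm.comm s t }
    obtain ⟨k, hk⟩ := Monoid.exists_orderOf_eq_exponent (G := A) (Monoid.ExponentExists.of_finite)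
    have hkr : ∀ r : ℕ, r.Prime → r ≠ q → r ∣ m0 → r ∣ orderOf (k : G) := fun r hr hrq hrm => by
      haveI := Fact.mk hr
      have h1 := not_dvd_relIndex_two hF hNB hFr hNH hNn (hrm.trans hm)
      have h2 := Subgroup.card_mul_index ((N ⊓ two a b).subgroupOf N)
      rw [Nat.card_congr (Subgroup.subgroupOfEquivOfLe (inf_le_left : N ⊓ two a b ≤ N)).toEquiv] at h2
      have h3 : r ∣ Nat.card ↥(N ⊓ two a b) :=
        ((hr.dvd_mul).mp (h2 ▸ hrm.trans hmN)).resolve_right h1
      obtain ⟨y, hy⟩ := exists_prime_orderOf_dvd_card' r h3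
      rw [← Subgroup.orderOf_coe] at hy
      have hyA := hrF r hr hrq (hrm.trans hm) y y.2.1 y.2.2 1 (by rw [pow_one, ← hy, pow_orderOf_eq_one])
      rw [Subgroup.orderOf_coe, hk]
      rw [show orderOf ((y : G)) = orderOf (⟨y, hyA⟩ : A) from (Subgroup.orderOf_mk _ _).symm] at hy
      exact hy ▸ Monoid.order_dvd_exponent _
    refine NCTools.false_of_column (L := N) (z := z) (k := ⟨k, k.2.2.1⟩) hq hgen ?_ ?_ ?_
    · intro hconj
      obtain ⟨g, hg⟩ := isConj_iff.mp hconj
      have h := congrArg orderOf hg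
      rw [← MulAut.conj_apply, MulEquiv.orderOf_eq (MulAut.conj g), hzord, Subgroup.orderOf_mk] at h
      exact absurd (h ▸ hoddF k.2.1) (by decide)
    · intro hqm
      rw [hindex] at hqm
      haveI := Fact.mk hq
      intro hqi
      obtain ⟨S, -, hS⟩ := exists_maxP (p := q) IsPGroup.of_bot (bot_le : ⊥ ≤ N ⊓ two a b)
      have hle : S.subgroupOf N ≤ Subgroup.centralizer ({⟨k, k.2.2.1⟩} : Set N) := fun y hy => by
        obtain ⟨f, hf, c, hc, hcX, hfc⟩ := hcomp y y.2 (hS.le hy).2
        obtain ⟨j, hj⟩ := hS.isPGroup ⟨y, hy⟩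
        have hck : c * k = k * c := hQ c hc hcX j (pow_eq_one_of_mul hF hNB hFr hf hc
          (by rw [← hfc]; exact congrArg Subtype.val hj)) k k.2.1 k.2.2.2
        refine Subgroup.mem_centralizer_singleton_iff.mpr (Subtype.ext ?_)
        show (y : G) * k = k * y
        rw [hfc]
        exact ((show Commute f k from hFr.comm_F f hf k k.2.1).mul_left hck).eq
      have hc := Subgroup.card_dvd_of_le hle
      rw [Nat.card_congr (Subgroup.subgroupOfEquivOfLe (hS.le.trans inf_le_left)).toEquiv, hS.card] at hc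
      have hfac : (Nat.card N).factorization q = (Nat.card ↥(N ⊓ two a b)).factorization q := by
        have h2 := Subgroup.card_mul_index ((N ⊓ two a b).subgroupOf N)
        rw [Nat.card_congr (Subgroup.subgroupOfEquivOfLe (inf_le_left : N ⊓ two a b ≤ N)).toEquiv] at h2
        conv_lhs => rw [← h2]
        rw [Nat.factorization_mul Nat.card_pos.ne' Subgroup.index_ne_zero_of_finite, Finsupp.add_apply,
          Nat.factorization_eq_zero_of_not_dvd
            (show ¬ q ∣ ((N ⊓ two a b).subgroupOf N).index from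
              not_dvd_relIndex_two hF hNB hFr hNH hNn (hqm.trans hm)), add_zero]
      refine Nat.pow_succ_factorization_not_dvd (n := Nat.card N) Nat.card_pos.ne' hq ?_
      rw [pow_succ]
      conv_rhs => rw [← Subgroup.card_mul_index (Subgroup.centralizer ({⟨k, k.2.2.1⟩} : Set N))]
      exact Nat.mul_dvd_mul (hfac ▸ hc) hqi
    · intro r hr hrq hri χ hχ deg hdeg hrd
      rw [hindex] at hri
      haveI := Fact.mk hr
      have hrm := hri.trans hm
      let R : Subgroup N :=
        { carrier := {y | (y : G) ∈ A ∧ ∃ j : ℕ, (y : G) ^ r ^ j = 1}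
          one_mem' := ⟨one_mem A, 0, by simp⟩
          mul_mem' := fun {s t} ⟨hs, e1, h1⟩ ⟨ht, e2, h2⟩ => ⟨mul_mem hs ht, e1 + e2, by
            rw [Subgroup.coe_mul, (show Commute (s : G) t from hFr.comm_F _ hs.1 _ ht.1).mul_pow, pow_add, pow_mul,
              h1, one_pow, one_mul, mul_comm, pow_mul, h2, one_pow]⟩
          inv_mem' := fun {s} ⟨hs, e1, h1⟩ => ⟨inv_mem hs, e1, by rw [Subgroup.coe_inv, inv_pow, h1, inv_one]⟩ }
      have hRp : IsPGroup r R := fun y => by
        obtain ⟨j, hj⟩ := y.2.2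
        exact ⟨j, Subtype.ext (Subtype.ext hj)⟩
      have hRidx : ¬ r ∣ R.index := by
        intro hdvd
        obtain ⟨S, -, hS⟩ := exists_maxP (p := r) IsPGroup.of_bot (bot_le : ⊥ ≤ N ⊓ two a b)
        have hle : S.subgroupOf N ≤ R := fun y hy => by
          obtain ⟨j, hj⟩ := hS.isPGroup ⟨y, hy⟩
          exact ⟨hrF r hr hrq hrm y y.2 (hS.le hy).2 j (congrArg Subtype.val hj), j, congrArg Subtype.val hj⟩
        have hc := Subgroup.card_dvd_of_le hle
        rw [Nat.card_congr (Subgroup.subgroupOfEquivOfLe (hS.le.trans inf_le_left)).toEquiv, hS.card] at hc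
        have h2 := Subgroup.card_mul_index ((N ⊓ two a b).subgroupOf N)
        rw [Nat.card_congr (Subgroup.subgroupOfEquivOfLe (inf_le_left : N ⊓ two a b ≤ N)).toEquiv] at h2
        refine Nat.pow_succ_factorization_not_dvd (n := Nat.card N) Nat.card_pos.ne' hr ?_
        rw [pow_succ]
        conv_rhs => rw [← Subgroup.card_mul_index R]
        refine Nat.mul_dvd_mul ((dvd_of_eq (congrArg (r ^ ·) ?_)).trans hc) hdvd
        conv_lhs => rw [← h2]
        rw [Nat.factorization_mul Nat.card_pos.ne' Subgroup.index_ne_zero_of_finite, Finsupp.add_apply,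
          Nat.factorization_eq_zero_of_not_dvd
            (show ¬ r ∣ ((N ⊓ two a b).subgroupOf N).index from not_dvd_relIndex_two hF hNB hFr hNH hNn hrm),
          add_zero]
      have hfR : ∀ {f : G} {y : N}, f ∈ F → y ∈ R → Commute f y := fun hf hy => hFr.comm_F _ hf _ hy.1.1
      have hC : ∀ y ∈ R, y ≠ 1 →
          Subgroup.centralizer ({y} : Set N) ≤ Subgroup.centralizer (R : Set N) := fun y hy hy1 x hx => by
        have hy1' : (y : G) ≠ 1 := fun e => hy1 (Subtype.ext e)
        have hxy : (x : G) * y = y * x := congrArg Subtype.val (Subgroup.mem_centralizer_singleton_iff.mp hx)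
        obtain ⟨f, hf, c, hc, hcX, hfc⟩ :=
          hcomp x x.2 (cent_le hF hNB hFr hy.1.1 hy1' (mem_stabilizer_iff.mp (hNH x.2)) hxy)
        have hcy : Commute c y := by
          have h1 : Commute (f⁻¹ * (x : G)) y := (hfR hf hy).inv_left.mul_left hxy
          rwa [hfc, inv_mul_cancel_left] at h1
        refine Subgroup.mem_centralizer_iff.mpr fun w hw => Subtype.ext ?_
        show (w : G) * x = x * w
        rw [hfc]
        exact ((hfR hf hw).mul_left (hT c hc hcX y hy.1.1 hy1' hy.1.2.2 hcy.eq w hw.1.1 hw.1.2.2)).eq.symm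
      refine NCTools.vanish_of_semiregular hRp hRidx
        (fun y hy y' hy' => Subtype.ext (hFr.comm_F _ hy.1.1 _ hy'.1.1)) hC ?_ hχ hdeg hrd
        (c := (⟨k, k.2.2.1⟩ : N))
        (Subgroup.mem_centralizer_iff.mpr fun w hw => Subtype.ext (hFr.comm_F _ hw.1.1 _ k.2.1))
        (by rw [Subgroup.orderOf_mk]; exact hkr r hr hrq hri)
      refine le_trans (Nat.add_le_add_right ?_ 2) (he r hr hrq hrm)
      -- the automiser of `R` embeds in that of the `q'`-part
      have hRne : ∃ y ∈ R, y ≠ 1 := by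
        by_contra h
        push Not at h
        have hbot : R = ⊥ := (Subgroup.eq_bot_iff_forall _).mpr h
        exact hRidx (by rw [hbot, Subgroup.index_bot]; exact hri.trans hmN)
      obtain ⟨y0, hy0, hy01⟩ := hRne
      set NR := Subgroup.normalizer (R : Set N)
      set W0 := C ⊓ X1
      set T0 := W0 ⊓ Subgroup.centralizer {f : G | f ∈ F ∧ ¬ q ∣ orderOf f}
      have hsel : ∀ x : NR, ∃ c : W0, ∃ f ∈ F, ((x : N) : G) = f * c := fun x => by
        have hxa := mem_stabilizer_iff.mp (hNH (x : N).2)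
        have h1 := (Subgroup.mem_normalizer_iff.mp x.2 y0).mp hy0
        have hb : ((x : N) : G) • b = b := by
          rcases fix_pair hF hNB hFr h1.1.1
            (fun e => hy01 (Subtype.ext (conj_eq_one_iff.mp e)))
            (smul_conj (mem_two.mp (le_two hF hNB hFr hy0.1.1)).2) with e | e
          · exact absurd (smul_left_cancel ((x : N) : G) (e.trans hxa.symm)) hFr.hab
          · exact e
        obtain ⟨f, hf, c, hc, hcX, hfc⟩ := hcomp (x : N) (x : N).2 (mem_two.mpr ⟨hxa, hb⟩)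
        exact ⟨⟨c, hc, hcX⟩, f, hf, hfc⟩
      choose cx fx hfx hxc using hsel
      refine Nat.card_le_card_of_injective
        (fun s : NR ⧸ (Subgroup.centralizer (R : Set N)).subgroupOf NR => ((cx s.out : W0) : W0 ⧸ T0.subgroupOf W0))
        fun s s' h => ?_
      rw [← QuotientGroup.out_eq' s, ← QuotientGroup.out_eq' s', QuotientGroup.eq]
      have h' := (Subgroup.mem_inf.mp (Subgroup.mem_subgroupOf.mp (QuotientGroup.eq.mp h))).2
      refine Subgroup.mem_subgroupOf.mpr (Subgroup.mem_centralizer_iff.mpr fun w hw => Subtype.ext ?_)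
      set c := ((cx s.out : W0) : G)
      set c' := ((cx s'.out : W0) : G)
      have hf'' : c⁻¹ * ((fx s.out)⁻¹ * fx s'.out) * c ∈ F := by
        have := conj_F_of_C hF hNB hFr (inv_mem (cx s.out).2.1) (mul_mem (inv_mem (hfx s.out)) (hfx s'.out))
        rwa [inv_inv] at this
      have hcw : Commute (c⁻¹ * c') (w : G) := by
        have := Subgroup.mem_centralizer_iff.mp h' (w : G) (hq' hw.1)
        exact this.symm
      show (w : G) * ((((s.out : NR) : N) : G)⁻¹ * (((s'.out : NR) : N) : G)) =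
        (((s.out : NR) : N) : G)⁻¹ * (((s'.out : NR) : N) : G) * w
      rw [hxc, hxc, show (fx s.out * c)⁻¹ * (fx s'.out * c') =
        c⁻¹ * ((fx s.out)⁻¹ * fx s'.out) * c * (c⁻¹ * c') by group]
      exact ((hfR hf'' hw).mul_left hcw).eq.symm
  · -- `q` is the only prime of the class size
    push Not at hP
    have hm1 : m0 ≠ 1 := fun e => by
      obtain ⟨j, hj, hja, hij⟩ := not_central hF hNB hFr hBel hnc hi hia
      exact hij (Subgroup.mem_centralizer_singleton_iff.mp
        (Subgroup.relIndex_eq_one.mp e (inv_mem_invs hj hja))).symm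
    obtain ⟨r, hr, hrm⟩ := Nat.exists_prime_and_dvd hm1
    obtain rfl : r = q := by
      by_contra hne
      exact hP r hr hne hrm
    haveI := Fact.mk hr
    obtain ⟨S⟩ : Nonempty (Sylow r N) := inferInstance
    haveI : Nontrivial (S : Subgroup N) := by
      refine (Subgroup.nontrivial_iff_ne_bot _).mpr fun h => ?_
      have h1 := S.not_dvd_index
      rw [h, Subgroup.index_bot] at h1
      exact h1 (hrm.trans hmN)
    haveI := S.isPGroup'.center_nontrivial
    obtain ⟨w, hw⟩ := _root_.exists_ne (1 : Subgroup.center (S : Subgroup N))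
    set k : N := ((w : (S : Subgroup N)) : N) with hkdef
    refine NCTools.false_of_column (L := N) (z := z) (k := k) hq hgen ?_ ?_ ?_
    · intro hconj
      obtain ⟨g, hg⟩ := isConj_iff.mp hconj
      have h := congrArg orderOf hg
      rw [← MulAut.conj_apply, MulEquiv.orderOf_eq (MulAut.conj g), hzord, hkdef, Subgroup.orderOf_coe] at h
      obtain ⟨j, hj⟩ := S.isPGroup' (w : (S : Subgroup N))
      have h2 := orderOf_dvd_of_pow_eq_one hj
      rw [h] at h2
      have := (Nat.prime_dvd_prime_iff_eq Nat.prime_two hr).mp (Nat.prime_two.dvd_of_dvd_pow h2)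
      exact absurd ((odd_invAt hF a).of_dvd_nat (this ▸ hrm.trans hm)) (by decide)
    · intro _ hqi
      have hle : (S : Subgroup N) ≤ Subgroup.centralizer ({k} : Set N) := fun y hy =>
        Subgroup.mem_centralizer_singleton_iff.mpr
          (congrArg Subtype.val (Subgroup.mem_center_iff.mp w.2 ⟨y, hy⟩))
      exact S.not_dvd_index (hqi.trans (Subgroup.index_dvd_of_le hle))
    · intro r' hr' hne hr'm
      rw [hindex] at hr'm
      exact absurd hr'm (hP r' hr' hne)

end Frame

end CfsgLib.Bender.NC
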