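import Cfsg.Agent.Lib.Bender.FromB1.NC.CaseCores
import Cfsg.Agent.Lib.Bender.FromB1.NC.EndSpecial
import Mathlib.RingTheory.ZMod.UnitsCyclic
import Mathlib.FieldTheory.Finite.Basic

/-!
The non-commuting case when a core of `C` is not faithful on the part of `F` of order prime to it.

Blueprint: `blueprint/bender/A5c_audit.md`, section 5.
-/

set_option autoImplicit false
set_option linter.unusedSectionVars false
set_option linter.style.haveILetI false

namespace CfsgLib.Bender.NC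

open MulAction Cfsg CfsgLib.Bender CfsgLib.Bender.OneFix CfsgLib.Bender.TwoClosed
open CfsgLib.Bender.B1 (FourIn)
open scoped commutatorElement

universe u

/-- An element of order `p` of a cyclic subgroup generates its elements with `p`-th power one. -/
theorem mem_zpowers_of_cyclic {G : Type u} [Group G] [Finite G] {S : Subgroup G} [IsCyclic S] {p : ℕ} (hp : p.Prime)
    {y k : G} (hy : y ∈ S) (hyo : orderOf y = p) (hk : k ∈ S) (hkp : k ^ p = 1) : k ∈ Subgroup.zpowers y := by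
  classical
  letI := Fintype.ofFinite S
  set T := (Finset.univ : Finset S).filter fun s => s ^ p = 1
  have hT := IsCyclic.card_pow_eq_one_le (α := S) hp.pos
  have hsub : (Finset.range p).image (fun n => (⟨y, hy⟩ : S) ^ n) ⊆ T := fun s hs => by
    obtain ⟨n, -, rfl⟩ := Finset.mem_image.mp hs
    refine Finset.mem_filter.mpr ⟨Finset.mem_univ _, Subtype.ext ?_⟩
    push_cast
    rw [← pow_mul, mul_comm, pow_mul, ← hyo, pow_orderOf_eq_one, one_pow]
  have hcard : ((Finset.range p).image fun n => (⟨y, hy⟩ : S) ^ n).card = p := by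
    rw [Finset.card_image_of_injOn, Finset.card_range]
    intro m hm n hn h
    simp only [Finset.coe_range, Set.mem_Iio] at hm hn
    exact pow_injOn_Iio_orderOf (x := (⟨y, hy⟩ : S)) (by rw [Set.mem_Iio, Subgroup.orderOf_mk, hyo]; exact hm)
      (by rw [Set.mem_Iio, Subgroup.orderOf_mk, hyo]; exact hn) h
  have h2 : (⟨k, hk⟩ : S) ∈ T := Finset.mem_filter.mpr ⟨Finset.mem_univ _, Subtype.ext hkp⟩
  rw [← Finset.eq_of_subset_of_card_le hsub (hT.trans hcard.ge)] at h2
  obtain ⟨n, -, hn⟩ := Finset.mem_image.mp h2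
  exact Subgroup.mem_zpowers_iff.mpr ⟨n, by rw [zpow_natCast]; exact congrArg Subtype.val hn⟩

/-- A `p`-group acting on a `p`-group fixes a coset of an invariant proper normal subgroup. -/
theorem exists_fixed_coset {G : Type u} [Group G] [Finite G] {p : ℕ} [Fact p.Prime] {A U V : Subgroup G}
    (hA : IsPGroup p A) (hV : IsPGroup p V) (hUV : U ≤ V) (hVU : V ≤ Subgroup.normalizer (U : Set G))
    (hAV : A ≤ Subgroup.normalizer (V : Set G)) (hAU : A ≤ Subgroup.normalizer (U : Set G)) (hne : ¬ V ≤ U) :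
    ∃ v ∈ V, v ∉ U ∧ ∀ s ∈ A, s * v * s⁻¹ * v⁻¹ ∈ U := by
  classical
  let U' := U.subgroupOf V
  have hmap : ∀ (s : A) (v w : V), QuotientGroup.leftRel U' v w →
      QuotientGroup.leftRel U' (⟨(s : G) * v * (s : G)⁻¹, (Subgroup.mem_normalizer_iff.mp (hAV s.2) v).mp v.2⟩ : V)
        ⟨(s : G) * w * (s : G)⁻¹, (Subgroup.mem_normalizer_iff.mp (hAV s.2) w).mp w.2⟩ := fun s v w h => by
    rw [QuotientGroup.leftRel_apply, Subgroup.mem_subgroupOf] at h ⊢
    have h1 := (Subgroup.mem_normalizer_iff.mp (hAU s.2) _).mp h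
    push_cast at h1 ⊢
    rw [show ((s : G) * v * (s : G)⁻¹)⁻¹ * ((s : G) * w * (s : G)⁻¹) = (s : G) * ((v : G)⁻¹ * w) * (s : G)⁻¹ by group]
    exact h1
  let f : A → V → V := fun s v => ⟨(s : G) * v * (s : G)⁻¹, (Subgroup.mem_normalizer_iff.mp (hAV s.2) v).mp v.2⟩
  letI act : MulAction A (V ⧸ U') :=
    { smul := fun s => Quotient.map' (f s) fun v w h => hmap s v w h
      one_smul := fun q => by
        induction q using Quotient.inductionOn'
        exact congrArg Quotient.mk'' (Subtype.ext (by simp [f]))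
      mul_smul := fun s t q => by
        induction q using Quotient.inductionOn'
        exact congrArg Quotient.mk'' (Subtype.ext (by simp [f, mul_assoc])) }
  have hcard : p ∣ Nat.card (V ⧸ U') := by
    obtain ⟨k, hk⟩ := IsPGroup.iff_card.mp hV
    obtain ⟨j, -, hj⟩ := (Nat.dvd_prime_pow (Fact.out : p.Prime)).mp (hk ▸ Subgroup.index_dvd_card U')
    rcases j with _ | j
    · rw [pow_zero, Subgroup.index_eq_one] at hj
      exact absurd (Subgroup.subgroupOf_eq_top.mp hj) hne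
    · show p ∣ U'.index
      rw [hj]; exact dvd_pow_self p j.succ_ne_zero
  obtain ⟨q, hq, hq1⟩ := hA.exists_fixed_point_of_prime_dvd_card_of_fixed_point (V ⧸ U') hcard
    (a := ((1 : V) : V ⧸ U')) (fun s => congrArg Quotient.mk'' (Subtype.ext (by simp [f])))
  obtain ⟨v, rfl⟩ := QuotientGroup.mk_surjective q
  refine ⟨v, v.2, fun hv => hq1 (QuotientGroup.eq.mpr (by simpa [U', Subgroup.mem_subgroupOf] using hv)), fun s hs => ?_⟩
  have h := QuotientGroup.eq.mp (hq ⟨s, hs⟩)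
  rw [Subgroup.mem_subgroupOf] at h
  push_cast at h
  have h1 := (Subgroup.mem_normalizer_iff.mp (hVU v.2) _).mp (inv_mem h)
  rw [show (v : G) * (((f ⟨s, hs⟩ v : V) : G)⁻¹ * v)⁻¹ * (v : G)⁻¹ = s * v * s⁻¹ * (v : G)⁻¹ by
    show (v : G) * ((s * v * s⁻¹)⁻¹ * v)⁻¹ * (v : G)⁻¹ = s * v * s⁻¹ * (v : G)⁻¹
    group] at h1
  exact h1

/-- Automorphisms of a cyclic group of odd prime power order form a cyclic group. -/
theorem isCyclic_mulAut {P : Type u} [Group P] [Finite P] [IsCyclic P] {p k : ℕ} (hp : p.Prime) (hp2 : p ≠ 2)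
    (hk : Nat.card P = p ^ k) : IsCyclic (MulAut P) := by
  haveI : IsCyclic (ZMod (Nat.card P))ˣ := by
    rw [hk]
    exact ZMod.isCyclic_units_of_prime_pow p hp hp2 k
  exact isCyclic_of_surjective (IsCyclic.mulAutMulEquiv P).symm (IsCyclic.mulAutMulEquiv P).symm.surjective

variable {G Ω : Type u} [Group G] [MulAction G Ω] [Finite G] [FaithfulSMul G Ω] (hF : OneFix G Ω)
  (hNB : NoBad G Ω) (hBel : B1.Below.{u} (Nat.card G)) {a b : Ω} {u : G} {F C : Subgroup G}
  (hFr : Frame a b u F C) (hnc : ¬ CommAt G a)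
include hF hNB hBel hFr hnc

/-- An element of `C` centralising both parts of `F` at a prime centralises `F`, so is trivial. -/
theorem eq_one_of_parts {q : ℕ} (hq : q.Prime) {c : G} (hc : c ∈ C)
    (h1 : ∀ f ∈ F, ¬ q ∣ orderOf f → c * f = f * c) (h2 : ∀ f ∈ F, ∀ j : ℕ, f ^ q ^ j = 1 → c * f = f * c) : c = 1 := by
  by_contra hne
  refine hnc (Frame.commAt_of_cent hF hNB hFr hBel hc hne fun f hf => ?_)
  obtain ⟨e, m, hm, heq⟩ := Nat.exists_eq_pow_mul_and_not_dvd (orderOf_pos f).ne' q hq.ne_one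
  have hA : c * f ^ q ^ e = f ^ q ^ e * c := h1 _ (pow_mem hf _) (by
    rw [orderOf_pow_of_dvd (pow_ne_zero _ hq.ne_zero) (heq ▸ dvd_mul_right _ _), heq,
      Nat.mul_div_cancel_left _ (pow_pos hq.pos e)]
    exact hm)
  have hB : c * f ^ m = f ^ m * c := h2 _ (pow_mem hf _) e (by
    rw [← pow_mul, mul_comm, ← heq, pow_orderOf_eq_one])
  have hbez := Nat.gcd_eq_gcd_ab (q ^ e) m
  rw [((hq.coprime_iff_not_dvd.mpr hm).pow_left e).gcd_eq_one] at hbez
  have hC : Commute c ((f ^ q ^ e) ^ Nat.gcdA (q ^ e) m * (f ^ m) ^ Nat.gcdB (q ^ e) m) :=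
    ((show Commute c (f ^ q ^ e) from hA).zpow_right _).mul_right ((show Commute c (f ^ m) from hB).zpow_right _)
  have hfe : (f ^ q ^ e) ^ Nat.gcdA (q ^ e) m * (f ^ m) ^ Nat.gcdB (q ^ e) m = f := by
    rw [← zpow_natCast f (q ^ e), ← zpow_natCast f m, ← zpow_mul, ← zpow_mul, ← zpow_add, ← hbez, Nat.cast_one,
      zpow_one]
  rw [hfe] at hC
  exact hC.eq

variable (hAb : AbRankOne a b u F C)
include hAb

/-- The case of a core which is not faithful. -/
theorem false_of_not_faithCores (hCores : ¬ FaithCores F C) : False := by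
  classical
  simp only [FaithCores, not_forall] at hCores
  obtain ⟨q, hq, P, hPC, hPn, hP, y0, hy0, hy0F, hy01⟩ := hCores
  haveI := Fact.mk hq
  -- `q` divides the number of involutions
  have hqm : q ∣ Nat.card (InvAt G a) := by
    by_contra hnd
    rw [← Frame.card_F hF hNB hFr] at hnd
    exact hy01 (eq_one_of_parts hF hNB hBel hFr hnc hq (hPC hy0) hy0F fun f hf j hj => by
      obtain ⟨i, -, hi⟩ := (Nat.dvd_prime_pow hq).mp (orderOf_dvd_of_pow_eq_one hj)
      rcases i with _ | i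
      · rw [pow_zero, orderOf_eq_one_iff] at hi
        rw [hi, mul_one, one_mul]
      · exact absurd ((hi ▸ dvd_pow_self q i.succ_ne_zero).trans (Subgroup.orderOf_dvd_natCard _ hf)) hnd)
  have hq2 : q ≠ 2 := fun e => (odd_invAt hF a).not_two_dvd_nat (e ▸ hqm)
  obtain ⟨Φ, hΦ⟩ := exists_primePart hF hNB hBel hFr hq
  have hCΦ : ∀ c ∈ C, ∀ f ∈ Φ, c * f * c⁻¹ ∈ Φ := fun c hc f hf => by
    rw [hΦ] at hf ⊢
    rw [show orderOf (c * f * c⁻¹) = orderOf f by rw [← MulAut.conj_apply, MulEquiv.orderOf_eq]]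
    exact ⟨Frame.conj_F_of_C hF hNB hFr hc hf.1, hf.2⟩
  -- the part of `P` centralising the `q'`-part
  set K0 := P ⊓ Subgroup.centralizer (Φ : Set G) with hK0
  have hK0C : K0 ≤ C := inf_le_left.trans hPC
  have hK0n : ∀ c ∈ C, ∀ k ∈ K0, c * k * c⁻¹ ∈ K0 := fun c hc k hk => by
    refine ⟨(Subgroup.mem_normalizer_iff.mp (hPn hc) k).mp hk.1, Subgroup.mem_centralizer_iff.mpr fun f hf => ?_⟩
    have h := Subgroup.mem_centralizer_iff.mp hk.2 (c⁻¹ * f * c) (by simpa using hCΦ c⁻¹ (inv_mem hc) f hf)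
    calc f * (c * k * c⁻¹) = c * ((c⁻¹ * f * c) * k) * c⁻¹ := by group
      _ = c * k * c⁻¹ * f := by rw [h]; group
  haveI : Nontrivial K0 := ⟨⟨⟨y0, hy0, Subgroup.mem_centralizer_iff.mpr fun f hf =>
    (hy0F f ((hΦ f).mp hf).1 ((hΦ f).mp hf).2).symm⟩, 1, fun e => hy01 (congrArg Subtype.val e)⟩⟩
  have hK0p : IsPGroup q K0 := hP.to_le inf_le_left
  haveI := hK0p.center_nontrivial
  let E : Subgroup G :=
    { carrier := {e | e ∈ K0 ∧ e ^ q = 1 ∧ ∀ k ∈ K0, e * k = k * e}
      one_mem' := ⟨one_mem K0, one_pow q, fun k _ => by rw [one_mul, mul_one]⟩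
      mul_mem' := fun {s t} ⟨hs, hsq, hsc⟩ ⟨ht, htq, htc⟩ => ⟨mul_mem hs ht, by
        rw [(show Commute s t from hsc t ht).mul_pow, hsq, htq, one_mul], fun k hk =>
        ((show Commute s k from hsc k hk).mul_left (htc k hk)).eq⟩
      inv_mem' := fun {s} ⟨hs, hsq, hsc⟩ => ⟨inv_mem hs, by rw [inv_pow, hsq, inv_one], fun k hk =>
        (show Commute s k from hsc k hk).inv_left.eq⟩ }
  obtain ⟨a0, ha0E, ha0o⟩ : ∃ a0 ∈ E, orderOf a0 = q := by
    obtain ⟨m, hm⟩ := (hK0p.to_subgroup (Subgroup.center K0)).exists_card_eq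
    obtain ⟨c, hc⟩ : ∃ c : Subgroup.center K0, orderOf c = q := by
      refine exists_prime_orderOf_dvd_card' q (hm ▸ dvd_pow_self q fun e => ?_)
      rw [e, pow_zero] at hm
      exact (Finite.one_lt_card (α := Subgroup.center K0)).ne' hm
    rw [← Subgroup.orderOf_coe, ← Subgroup.orderOf_coe] at hc
    refine ⟨((c : K0) : G), ⟨(c : K0).2, by rw [← hc, pow_orderOf_eq_one], fun k hk => ?_⟩, hc⟩
    exact (congrArg Subtype.val (Subgroup.mem_center_iff.mp c.2 ⟨k, hk⟩)).symm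
  have hEC : E ≤ C := fun e he => hK0C he.1
  have hEn : ∀ c ∈ C, ∀ e ∈ E, c * e * c⁻¹ ∈ E := fun c hc e he => by
    refine ⟨hK0n c hc e he.1, by rw [conj_pow, he.2.1, mul_one, mul_inv_cancel], fun k hk => ?_⟩
    have h := he.2.2 (c⁻¹ * k * c) (by simpa using hK0n c⁻¹ (inv_mem hc) k hk)
    calc c * e * c⁻¹ * k = c * (e * (c⁻¹ * k * c)) * c⁻¹ := by group
      _ = k * (c * e * c⁻¹) := by rw [h]; group
  have hEord : ∀ e ∈ E, e ≠ 1 → orderOf e = q := fun e he he1 => orderOf_eq_prime he.2.1 he1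
  have hgood : ∀ e ∈ E, e ≠ 1 → FourIn (Subgroup.centralizer (Subgroup.zpowers e : Set G)) := fun e he he1 => by
    have hC' := (Frame.mem_C hF hNB hFr).mp (hEC he)
    exact four_of_dvd hF hNB hFr.hab hFr.inv_u hFr.swap hC'.1 hC'.2 (by rw [hEord e he he1]; exact hq)
      (by rw [hEord e he he1]; exact hqm)
  have hEab : ∀ s ∈ E, ∀ t ∈ E, s * t = t * s := fun s hs t ht => hs.2.2 t ht.1
  have hEp : IsPGroup q E := fun e => ⟨1, Subtype.ext (by rw [pow_one]; exact e.2.2.1)⟩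
  -- the `q`-part of `F` and its elements of order `q`
  let Fq : Subgroup G :=
    { carrier := {f | f ∈ F ∧ ∃ j : ℕ, f ^ q ^ j = 1}
      one_mem' := ⟨one_mem F, 0, by simp⟩
      mul_mem' := fun {s t} ⟨hs, i, hi⟩ ⟨ht, j, hj⟩ => ⟨mul_mem hs ht, i + j, by
        rw [(show Commute s t from hFr.comm_F s hs t ht).mul_pow, pow_add, pow_mul, hi, one_pow, one_mul, mul_comm,
          pow_mul, hj, one_pow]⟩
      inv_mem' := fun {s} ⟨hs, i, hi⟩ => ⟨inv_mem hs, i, by rw [inv_pow, hi, inv_one]⟩ }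
  let V : Subgroup G :=
    { carrier := {f | f ∈ F ∧ f ^ q = 1}
      one_mem' := ⟨one_mem F, one_pow _⟩
      mul_mem' := fun {s t} ⟨hs, hi⟩ ⟨ht, hj⟩ => ⟨mul_mem hs ht, by
        rw [(show Commute s t from hFr.comm_F s hs t ht).mul_pow, hi, hj, one_mul]⟩
      inv_mem' := fun {s} ⟨hs, hi⟩ => ⟨inv_mem hs, by rw [inv_pow, hi, inv_one]⟩ }
  have hFqp : IsPGroup q Fq := fun f => by
    obtain ⟨j, hj⟩ := f.2.2
    exact ⟨j, Subtype.ext hj⟩
  have hVp : IsPGroup q V := fun f => ⟨1, Subtype.ext (by rw [pow_one]; exact f.2.2)⟩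
  have hconjV : ∀ c ∈ C, ∀ f ∈ V, c * f * c⁻¹ ∈ V := fun c hc f hf =>
    ⟨Frame.conj_F_of_C hF hNB hFr hc hf.1, by rw [conj_pow, hf.2, mul_one, mul_inv_cancel]⟩
  have hconjFq : ∀ c ∈ C, ∀ f ∈ Fq, c * f * c⁻¹ ∈ Fq := fun c hc f hf =>
    ⟨Frame.conj_F_of_C hF hNB hFr hc hf.1, hf.2.imp fun j hj => by rw [conj_pow, hj, mul_one, mul_inv_cancel]⟩
  have hnormal : ∀ (S : Subgroup G), (∀ c ∈ C, ∀ f ∈ S, c * f * c⁻¹ ∈ S) → C ≤ Subgroup.normalizer (S : Set G) :=
    fun S hS c hc => Subgroup.mem_normalizer_iff.mpr fun f => ⟨hS c hc f, fun h => by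
      simpa [mul_assoc] using hS c⁻¹ (inv_mem hc) _ h⟩
  -- `C` normalises `a0`
  have ha01 : a0 ≠ 1 := fun e => by rw [e, orderOf_one] at ha0o; exact hq.ne_one ha0o.symm
  have hEgen : ∀ e ∈ E, e ∈ Subgroup.zpowers a0 := by
    intro e he
    by_contra hnot
    have he1 : e ≠ 1 := fun h => hnot (h ▸ one_mem _)
    set L0 := V ⊓ Subgroup.centralizer (E : Set G) with hL0
    have hEnV : E ≤ Subgroup.normalizer (V : Set G) := hEC.trans (hnormal V hconjV)
    have hEnL : E ≤ Subgroup.normalizer (L0 : Set G) := fun s hs => Subgroup.mem_normalizer_iff.mpr fun f => by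
      constructor
      · intro hf
        rw [(Subgroup.mem_centralizer_iff.mp (Subgroup.mem_inf.mp hf).2 s hs), mul_inv_cancel_right]
        exact hf
      · intro hf
        have h := Subgroup.mem_centralizer_iff.mp (Subgroup.mem_inf.mp hf).2 s hs
        have h2 : s * f * s⁻¹ = f := by
          calc s * f * s⁻¹ = s⁻¹ * (s * (s * f * s⁻¹)) := by group
            _ = s⁻¹ * (s * f * s⁻¹ * s) := by rw [h]
            _ = f := by group
        rwa [h2] at hf
    have hcyc : ∀ s ∈ E, s ≠ 1 → ∀ v ∈ V, v * s = s * v → ∀ w ∈ V, w * s = s * w → w ≠ 1 → v ∈ Subgroup.zpowers w :=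
      fun s hs hs1 v hv hvs w hw hws hw1 => by
      obtain ⟨j0, hj0, -, hgen⟩ := cent_cyclic hF hNB hBel hFr (hEC hs) (by rw [hEord s hs hs1]; exact hq)
        (hgood s hs hs1)
      exact mem_zpowers_of_cyclic (S := Subgroup.zpowers j0) hq (hgen w hw.1 hws) (orderOf_eq_prime hw.2 hw1)
        (hgen v hv.1 hvs) hv.2
    obtain ⟨w, hwV, hw1, hwE⟩ : ∃ w ∈ V, w ∉ (⊥ : Subgroup G) ∧ ∀ s ∈ E, s * w * s⁻¹ * w⁻¹ ∈ (⊥ : Subgroup G) := by
      refine exists_fixed_coset hEp hVp bot_le (fun v _ => ?_) hEnV (fun v _ => ?_) fun hle => ?_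
      · rw [Subgroup.mem_normalizer_iff]; intro h; simp
      · rw [Subgroup.mem_normalizer_iff]; intro h; simp
      · rw [← Frame.card_F hF hNB hFr] at hqm
        obtain ⟨f, hf⟩ := exists_prime_orderOf_dvd_card' q hqm
        have h1 : (f : G) ∈ V := ⟨f.2, by rw [← Subgroup.orderOf_coe] at hf; rw [← hf, pow_orderOf_eq_one]⟩
        have h2 := Subgroup.mem_bot.mp (hle h1)
        rw [← Subgroup.orderOf_coe, h2, orderOf_one] at hf
        exact hq.ne_one hf.symm
    rw [Subgroup.mem_bot] at hw1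
    have hwc : ∀ s ∈ E, w * s = s * w := fun s hs => by
      have h := Subgroup.mem_bot.mp (hwE s hs)
      rw [mul_inv_eq_one, mul_inv_eq_iff_eq_mul] at h
      exact h.symm
    have hwL : w ∈ L0 := ⟨hwV, Subgroup.mem_centralizer_iff.mpr fun s hs => (hwc s hs).symm⟩
    by_cases hVL : V ≤ L0
    · -- then the `q`-part is cyclic
      haveI hFqc : IsCyclic Fq := pgroup_isCyclic hq2 hFqp fun e1 h1 e2 h2 ho1 ho2 _ => by
        have hv1 : e1 ∈ V := ⟨h1.1, by rw [← ho1, pow_orderOf_eq_one]⟩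
        have hv2 : e2 ∈ V := ⟨h2.1, by rw [← ho2, pow_orderOf_eq_one]⟩
        refine hcyc a0 ha0E ha01 e2 hv2 ?_ e1 hv1 ?_ fun h => by rw [h, orderOf_one] at ho1; exact hq.ne_one ho1.symm
        · exact (Subgroup.mem_centralizer_iff.mp (hVL hv2).2 a0 ha0E).symm
        · exact (Subgroup.mem_centralizer_iff.mp (hVL hv1).2 a0 ha0E).symm
      obtain ⟨k, hk⟩ := IsPGroup.iff_card.mp hFqp
      haveI := isCyclic_mulAut (P := Fq) hq hq2 hk
      have hEF : E ≤ Subgroup.normalizer (Fq : Set G) := hEC.trans (hnormal Fq hconjFq)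
      haveI : IsCyclic E := isCyclic_of_injective (Fq.normalizerMonoidHom.comp (Subgroup.inclusion hEF))
        ((injective_iff_map_eq_one _).mpr fun s hs => Subtype.ext (eq_one_of_parts hF hNB hBel hFr hnc hq (hEC s.2)
          (fun f hf hfq => (Subgroup.mem_centralizer_iff.mp s.2.1.2 f ((hΦ f).mpr ⟨hf, hfq⟩)).symm)
          fun f hf j hj => mul_inv_eq_iff_eq_mul.mp
            (congrArg Subtype.val (DFunLike.congr_fun hs (⟨f, hf, j, hj⟩ : Fq)))))
      exact hnot (mem_zpowers_of_cyclic hq ha0E ha0o he he.2.1)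
    · obtain ⟨v, hvV, hvL, hvE⟩ := exists_fixed_coset hEp hVp inf_le_left (fun s hs =>
        Subgroup.mem_normalizer_iff.mpr fun f => by
          constructor
          · intro hf
            rw [hFr.comm_F s hs.1 f (Subgroup.mem_inf.mp hf).1.1, mul_inv_cancel_right]
            exact hf
          · intro hf
            have h1 : f ∈ F := by
              have := mul_mem (mul_mem (inv_mem hs.1) (Subgroup.mem_inf.mp hf).1.1) hs.1
              simpa [mul_assoc] using this
            rwa [hFr.comm_F s hs.1 f h1, mul_inv_cancel_right] at hf) hEnV hEnL hVL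
      have hLpow : ∀ d ∈ L0, d ∈ Subgroup.zpowers w := fun d hd =>
        hcyc a0 ha0E ha01 d hd.1 (Subgroup.mem_centralizer_iff.mp hd.2 a0 ha0E).symm w hwV (hwc a0 ha0E) hw1
      have hvfix : ∀ s ∈ E, s ≠ 1 → s * v ≠ v * s := fun s hs hs1 hcv => hvL ⟨hvV,
        Subgroup.mem_centralizer_iff.mpr fun t ht => by
          obtain ⟨n, hn⟩ := Subgroup.mem_zpowers_iff.mp (hcyc s hs hs1 v hvV hcv.symm w hwV (hwc s hs) hw1)
          rw [← hn]
          exact ((show Commute t w from (hwc t ht).symm).zpow_right n).eq⟩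
      set d := a0 * v * a0⁻¹ * v⁻¹ with hd
      have hd1 : d ≠ 1 := fun h => hvfix a0 ha0E ha01 (by
        rw [hd, mul_inv_eq_one, mul_inv_eq_iff_eq_mul] at h
        exact h)
      have hdw : w ∈ Subgroup.zpowers d :=
        hcyc a0 ha0E ha01 w hwV (hwc a0 ha0E) d (hvE a0 ha0E).1
          (Subgroup.mem_centralizer_iff.mp (hvE a0 ha0E).2 a0 ha0E).symm hd1
      obtain ⟨n, hn⟩ := mem_powers_iff_mem_zpowers.mpr
        ((Subgroup.zpowers_le.mpr hdw) (hLpow _ (hvE e he)) : e * v * e⁻¹ * v⁻¹ ∈ Subgroup.zpowers d)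
      simp only at hn
      have hiter : ∀ k : ℕ, a0 ^ k * v * (a0 ^ k)⁻¹ = d ^ k * v := fun k => by
        induction k with
        | zero => simp
        | succ k ih =>
          have hda : Commute a0 (d ^ k) :=
            (show Commute a0 d from Subgroup.mem_centralizer_iff.mp (hvE a0 ha0E).2 a0 ha0E).pow_right k
          calc a0 ^ (k + 1) * v * (a0 ^ (k + 1))⁻¹ = a0 * (a0 ^ k * v * (a0 ^ k)⁻¹) * a0⁻¹ := by rw [pow_succ']; group
            _ = a0 * d ^ k * v * a0⁻¹ := by rw [ih]; group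
            _ = d ^ k * (a0 * v * a0⁻¹) := by rw [hda.eq]; group
            _ = d ^ k * (d * v) := by congr 1; rw [hd]; group
            _ = d ^ (k + 1) * v := by rw [pow_succ, mul_assoc (d ^ k) d v]
      have he' : (a0 ^ n)⁻¹ * e ∈ E := mul_mem (inv_mem (pow_mem ha0E n)) he
      refine hvfix _ he' (fun h => hnot ?_) ?_
      · rw [inv_mul_eq_one] at h
        rw [← h]
        exact Subgroup.mem_zpowers_iff.mpr ⟨n, zpow_natCast a0 n⟩
      · have h1 : e * v * e⁻¹ = a0 ^ n * v * (a0 ^ n)⁻¹ := by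
          rw [hiter, hn]; group
        calc (a0 ^ n)⁻¹ * e * v = (a0 ^ n)⁻¹ * (e * v * e⁻¹) * e := by group
          _ = v * ((a0 ^ n)⁻¹ * e) := by rw [h1]; group
  have hnorm : ∀ c ∈ C, c ∈ Subgroup.normalizer (Subgroup.zpowers a0 : Set G) := fun c hc =>
    Subgroup.mem_normalizer_fintype fun k hk => by
      obtain ⟨n, rfl⟩ := Subgroup.mem_zpowers_iff.mp hk
      exact hEgen _ (hEn c hc _ (zpow_mem ha0E n))
  -- the torus of `a0`
  have ha0C := hEC ha0E
  have ha0p : (orderOf a0).Prime := by rw [ha0o]; exact hq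
  have h4 := hgood a0 ha0E ha01
  obtain ⟨x, hx⟩ := hFr.exists_elt
  have hxC := Frame.elt_mem hF hNB hFr hx
  set l := orderOf x with hldef
  have hlm : ¬ l ∣ Nat.card (InvAt G a) := RankOneElt.not_dvd_invAt hF hNB hx
  have hlq : l ≠ q := fun e => hlm (e ▸ hqm)
  obtain ⟨j0, hj0, hj0a, hTgen⟩ := cent_cyclic hF hNB hBel hFr ha0C ha0p h4
  have hΦT : ∀ f ∈ F, ¬ q ∣ orderOf f → f * a0 = a0 * f := fun f hf hfq =>
    Subgroup.mem_centralizer_iff.mp ha0E.1.2 f ((hΦ f).mpr ⟨hf, hfq⟩)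
  have hcn := fun {c : G} (hc : c ∈ C) =>
    cent_of_normalises hF hNB hBel hFr ha0C ha0p h4 hx (hnorm x hxC) hc (hnorm c hc)
  -- elements centralising the torus and `a0` have `q`-power order
  have hV0 : ∀ v ∈ C, (orderOf v).Prime → v * a0 = a0 * v →
      (∀ f ∈ F, f * a0 = a0 * f → v * f = f * v) → orderOf v = q := by
    intro v hv hvp hva hvT
    by_contra hne
    let U : Subgroup G := Fq ⊓ Subgroup.centralizer ({v} : Set G)
    have hnot : ¬ Fq ≤ U := fun hle => by
      have := eq_one_of_parts hF hNB hBel hFr hnc hq hv (fun f hf hfq => hvT f hf (hΦT f hf hfq))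
        fun f hf j hj =>
          (Subgroup.mem_centralizer_singleton_iff.mp (Subgroup.mem_inf.mp (hle (⟨hf, j, hj⟩ : f ∈ Fq))).2).symm
      rw [this, orderOf_one] at hvp
      exact Nat.not_prime_one hvp
    have hUn : ∀ c : G, (∀ f ∈ Fq, c * f * c⁻¹ ∈ Fq) → (∀ f ∈ Fq, c⁻¹ * f * c ∈ Fq) → c * v = v * c →
        c ∈ Subgroup.normalizer (U : Set G) := fun c h1 h2 hcv => Subgroup.mem_normalizer_iff.mpr fun f => by
      simp only [U, Subgroup.mem_inf, Subgroup.mem_centralizer_singleton_iff]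
      constructor
      · rintro ⟨hf, hfv⟩
        exact ⟨h1 f hf, (((show Commute c v from hcv).mul_left hfv).mul_left
          (show Commute c v from hcv).inv_left).eq⟩
      · rintro ⟨hf, hfv⟩
        refine ⟨by simpa [mul_assoc] using h2 _ hf, ?_⟩
        have h := ((show Commute c v from hcv).inv_left.mul_left hfv).mul_left (show Commute c v from hcv)
        simpa [mul_assoc] using h.eq
    obtain ⟨f, hf, hfU, hfA⟩ := exists_fixed_coset (A := Subgroup.zpowers a0)
      (IsPGroup.of_card (n := 1) (by rw [Nat.card_zpowers, pow_one, ha0o])) hFqp (inf_le_left : U ≤ Fq)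
      (fun s hs => Subgroup.mem_normalizer_iff.mpr fun t => by
        constructor
        · intro ht
          rw [hFr.comm_F s hs.1 t (Subgroup.mem_inf.mp ht).1.1, mul_inv_cancel_right]
          exact ht
        · intro ht
          have h1 : t ∈ F := by
            have := mul_mem (mul_mem (inv_mem hs.1) (Subgroup.mem_inf.mp ht).1.1) hs.1
            simpa [mul_assoc] using this
          rwa [hFr.comm_F s hs.1 t h1, mul_inv_cancel_right] at ht)
      (Subgroup.zpowers_le.mpr (hnormal Fq hconjFq ha0C))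
      (Subgroup.zpowers_le.mpr (hUn a0 (hconjFq a0 ha0C)
        (fun g hg => by simpa using hconjFq a0⁻¹ (inv_mem ha0C) g hg) hva.symm)) hnot
    set d := a0 * f * a0⁻¹ * f⁻¹ with hd
    have hdU := Subgroup.mem_inf.mp (hfA a0 (Subgroup.mem_zpowers a0))
    rw [Subgroup.mem_centralizer_singleton_iff] at hdU
    have hdv : v * d = d * v := hdU.2.symm
    have hcFq : v * f * v⁻¹ * f⁻¹ ∈ Fq := mul_mem (hconjFq v hv f hf) (inv_mem hf)
    set c := v * f * v⁻¹ * f⁻¹ with hc
    have hac : c * a0 = a0 * c := by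
      have hcd : Commute d c := hFr.comm_F d hdU.1.1 c hcFq.1
      have h1 : a0 * c * a0⁻¹ = c := by
        calc a0 * c * a0⁻¹ = (a0 * v) * f * ((v⁻¹ * a0⁻¹) * (a0 * f⁻¹ * a0⁻¹)) := by rw [hc]; group
          _ = (v * a0) * f * ((a0⁻¹ * v⁻¹) * (a0 * f⁻¹ * a0⁻¹)) := by
            rw [← hva, ((show Commute v a0 from hva).inv_inv).eq]
          _ = v * (d * f) * v⁻¹ * (d * f)⁻¹ := by rw [hd]; group
          _ = d * c * d⁻¹ := by
            rw [show v * (d * f) * v⁻¹ = d * (v * f * v⁻¹) by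
              rw [← mul_assoc v d f, hdv]; group, hc]
            group
          _ = c := by rw [hcd.eq, mul_inv_cancel_right]
      exact (mul_inv_eq_iff_eq_mul.mp h1).symm
    have hvc : Commute v c := hvT c hcFq.1 hac
    have hiter : ∀ n : ℕ, v ^ n * f * (v ^ n)⁻¹ = c ^ n * f := fun n => by
      induction n with
      | zero => simp
      | succ n ih =>
        calc v ^ (n + 1) * f * (v ^ (n + 1))⁻¹ = v * (v ^ n * f * (v ^ n)⁻¹) * v⁻¹ := by rw [pow_succ']; group
          _ = v * c ^ n * f * v⁻¹ := by rw [ih]; group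
          _ = c ^ n * (v * f * v⁻¹) := by rw [(hvc.pow_right n).eq]; group
          _ = c ^ n * (c * f) := by congr 1; rw [hc]; group
          _ = c ^ (n + 1) * f := by rw [pow_succ, mul_assoc (c ^ n) c f]
    have h := hiter (orderOf v)
    rw [pow_orderOf_eq_one, one_mul, inv_one, mul_one] at h
    have hcp : c ^ orderOf v = 1 := mul_eq_right.mp h.symm
    obtain ⟨j, hj⟩ := hcFq.2
    have hc1 : c = 1 := orderOf_eq_one_iff.mp (Nat.eq_one_of_dvd_coprimes
      (((Nat.coprime_primes hq hvp).mpr (Ne.symm hne)).pow_left j)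
      (orderOf_dvd_of_pow_eq_one hj) (orderOf_dvd_of_pow_eq_one hcp))
    rw [hc, mul_inv_eq_one, mul_inv_eq_iff_eq_mul] at hc1
    exact hfU (Subgroup.mem_inf.mpr ⟨hf, Subgroup.mem_centralizer_singleton_iff.mpr hc1.symm⟩)
  set W := wSub a F C with hW
  set K := ⁅W, W⁆ with hK
  have hKW : K ≤ W := derived_le hF hNB hBel hFr
  -- the derived group of `W` is a `q`-group
  have hKq : IsPGroup q K := by
    let T : Subgroup G := F ⊓ Subgroup.centralizer ({a0} : Set G)
    have hTle : T ≤ Subgroup.zpowers j0 := fun t ht =>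
      hTgen t ht.1 (Subgroup.mem_centralizer_singleton_iff.mp ht.2)
    haveI : IsCyclic T := Subgroup.isCyclic_of_le hTle
    have hCT : C ≤ Subgroup.normalizer (T : Set G) := hnormal T fun c hc t ht => by
      have h := conj_cent hF hNB hFr hc (hnorm c hc) ht.1 (Subgroup.mem_centralizer_singleton_iff.mp ht.2)
      exact ⟨h.1, Subgroup.mem_centralizer_singleton_iff.mpr h.2⟩
    have hKT : K ≤ Subgroup.centralizer (T : Set G) := Subgroup.commutator_le.mpr fun s hs t ht =>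
      commutator_centralizes_cyclic (hCT hs.1) (hCT ht.1)
    have hKa : K ≤ Subgroup.centralizer (Subgroup.zpowers a0 : Set G) := Subgroup.commutator_le.mpr fun s hs t ht =>
      commutator_centralizes_cyclic (hnorm s hs.1) (hnorm t ht.1)
    obtain ⟨n, hn⟩ : ∃ n, Nat.card K = q ^ n := by
      refine ⟨(Nat.card K).primeFactorsList.length, Nat.eq_prime_pow_of_unique_prime_dvd Nat.card_pos.ne' ?_⟩
      intro p hp hpd
      haveI := Fact.mk hp
      obtain ⟨v, hv⟩ := exists_prime_orderOf_dvd_card' p hpd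
      rw [← Subgroup.orderOf_coe] at hv
      rw [← hv]
      refine hV0 v (hKW v.2).1 (by rw [hv]; exact hp) ?_ fun f hf hfa => ?_
      · exact (Subgroup.mem_centralizer_iff.mp (hKa v.2) a0 (Subgroup.mem_zpowers a0)).symm
      · exact (Subgroup.mem_centralizer_iff.mp (hKT v.2) f
          ⟨hf, Subgroup.mem_centralizer_singleton_iff.mpr hfa⟩).symm
    exact IsPGroup.of_card hn
  by_cases hKbot : K = ⊥
  · refine false_of_no_good hF hNB hBel hFr hnc fun w hw hwp hw4 => ?_
    refine (rankOne_of_order hF hNB hBel hFr hAb hwp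
      (dvd_relIndex_of_not_mem hF hNB hBel hFr hw hwp fun h => ?_) hw rfl).no_four hw4
    rw [← hW, ← hK, hKbot, Subgroup.mem_bot] at h
    rw [h, orderOf_one] at hwp
    exact Nat.not_prime_one hwp
  set idx := K.relIndex W with hidx
  -- the primes of the abelianisation
  have hidxl : ∀ p : ℕ, p.Prime → p ∣ idx → p = l := fun p hp hpd => by
    haveI := Fact.mk hp
    obtain ⟨x', hx'o⟩ := exists_prime_orderOf_dvd_card' p (hpd.trans (Subgroup.relIndex_dvd_card K W))
    rw [← Subgroup.orderOf_coe] at hx'o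
    have hx' := rankOne_of_order hF hNB hBel hFr hAb hp hpd x'.2 hx'o
    have h1 := (galois hF hNB hBel hFr ha0C ha0p h4 hx' (hnorm x' x'.2.1)).1
    rw [(galois hF hNB hBel hFr ha0C ha0p h4 hx (hnorm x hxC)).1, hx'o] at h1
    exact (Nat.pow_right_injective le_rfl h1).symm
  have hqidx : ¬ q ∣ idx := fun hd => not_dvd_card_derived hF hNB hBel hFr hAb hq hd (by
    obtain ⟨n, hn⟩ := IsPGroup.iff_card.mp hKq
    refine hn ▸ dvd_pow_self q fun h0 => hKbot (Subgroup.card_eq_one.mp ?_)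
    rw [hn, h0, pow_zero])
  have hWcard : Nat.card W = Nat.card K * idx := by
    rw [← Nat.card_congr (Subgroup.subgroupOfEquivOfLe hKW).toEquiv, hidx, Subgroup.relIndex]
    exact (Subgroup.card_mul_index _).symm
  have hprimes : ∀ r : ℕ, r.Prime → r ∣ Nat.card W → r = q ∨ r = l := fun r hr hd => by
    rw [hWcard, hr.dvd_mul] at hd
    rcases hd with hd | hd
    · obtain ⟨n, hn⟩ := IsPGroup.iff_card.mp hKq
      exact Or.inl ((Nat.prime_dvd_prime_iff_eq hr hq).mp (hr.dvd_of_dvd_pow (hn ▸ hd)))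
    · exact Or.inr (hidxl r hr hd)
  have hcoprime : ∀ c ∈ C, (orderOf c).Coprime l → ∀ f ∈ F, f * a0 = a0 * f → c * f = f * c :=
    fun c hc hcop f hf hfa => by
      obtain ⟨n, hn⟩ := exists_pow_eq_self_of_coprime hcop.symm
      have h := ((show Commute (c ^ l) f from (hcn hc).2 f hf hfa).pow_left n).eq
      rwa [hn] at h
  refine Frame.false_of_special hF hNB hFr hBel hnc hq ?_ ?_ ?_ ?_
  · intro r hr hrq hrm c hc hcX hrd
    rcases hprimes r hr (hrd.trans
      (Subgroup.orderOf_dvd_natCard _ (mem_wSub_of_invs hF hNB hBel hFr hc hcX))) with h | h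
    · exact hrq h
    · exact hlm (h ▸ hrm)
  · intro c hc _ f hf hf1 hfq hcf f' hf' hf'q
    exact (hcn hc).1 ⟨f, hf, hf1, hΦT f hf hfq, hcf⟩ f' hf' (hΦT f' hf' hf'q)
  · intro c hc _ j hj f' hf' hf'q
    exact hcoprime c hc (Nat.Coprime.coprime_dvd_left (orderOf_dvd_of_pow_eq_one hj)
      (((Nat.coprime_primes hq hx.prime).mpr (Ne.symm hlq)).pow_left j)) f' hf' (hΦT f' hf' hf'q)
  intro r hr hrq hrm
  haveI := Fact.mk hr
  set W0 := C ⊓ (invs (G := G) a ⊔ F) with hW0
  set T0 := W0 ⊓ Subgroup.centralizer {f : G | f ∈ F ∧ ¬ q ∣ orderOf f}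
  have hW0W : ∀ {c : G}, c ∈ W0 → c ∈ W := fun hc => mem_wSub_of_invs hF hNB hBel hFr hc.1 hc.2
  have hdvd : Nat.card W0 ∣ l * Nat.card T0 := by
    rw [Nat.dvd_iff_prime_pow_dvd_dvd]
    intro p n hp hpn
    haveI := Fact.mk hp
    obtain ⟨S, -, hS⟩ := exists_maxP (p := p) IsPGroup.of_bot (bot_le : ⊥ ≤ W0)
    refine Nat.dvd_trans (pow_dvd_pow p ((hp.pow_dvd_iff_le_factorization Nat.card_pos.ne').mp hpn)) ?_
    rw [← hS.card]
    by_cases hpl : p = l
    · refine Nat.dvd_trans ?_ (dvd_mul_right l _)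
      obtain ⟨R, hSR, hR⟩ := exists_maxP hS.isPGroup (fun s hs => hW0W (hS.le hs) : S ≤ W)
      by_cases hlidx : l ∣ idx
      · haveI := (hAb p hp (hpl ▸ hlidx) R hR).1
        haveI : IsCyclic S := Subgroup.isCyclic_of_le hSR
        obtain ⟨g, hg⟩ := IsCyclic.exists_generator (α := S)
        rw [← orderOf_eq_card_of_forall_mem_zpowers hg, ← Subgroup.orderOf_coe]
        obtain ⟨j, hj⟩ := hS.isPGroup g
        refine orderOf_dvd_of_pow_eq_one (pow_eq_one_of_normalises hF hNB hBel hFr hAb ha0C ha0p h4 hx.prime hlidx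
          (hW0W (hS.le g.2)) (hnorm _ (hS.le g.2).1) (j := j) ?_)
        show (g : G) ^ l ^ j = 1
        rw [← hpl]
        exact congrArg Subtype.val hj
      · have hSbot : Nat.card S ∣ Nat.card W :=
          Subgroup.card_dvd_of_le (fun s hs => hW0W (hS.le hs) : S ≤ W)
        obtain ⟨k, hk⟩ := IsPGroup.iff_card.mp hS.isPGroup
        rcases k with _ | k
        · rw [hk, pow_zero]; exact one_dvd _
        · exfalso
          rw [hk, hWcard, hpl] at hSbot
          rcases hx.prime.dvd_mul.mp ((dvd_pow_self l k.succ_ne_zero).trans hSbot) with h | h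
          · obtain ⟨n, hn⟩ := IsPGroup.iff_card.mp hKq
            exact hlq ((Nat.prime_dvd_prime_iff_eq hx.prime hq).mp (hx.prime.dvd_of_dvd_pow (hn ▸ h)))
          · exact hlidx h
    · refine Nat.dvd_trans (Subgroup.card_dvd_of_le (K := T0) fun c hc => Subgroup.mem_inf.mpr ⟨hS.le hc, ?_⟩) (dvd_mul_left _ l)
      obtain ⟨j, hj⟩ := hS.isPGroup ⟨c, hc⟩
      refine Subgroup.mem_centralizer_iff.mpr fun f hf => (hcoprime c (hS.le hc).1 ?_ f hf.1 (hΦT f hf.1 hf.2)).symm
      exact Nat.Coprime.coprime_dvd_left (orderOf_dvd_of_pow_eq_one (congrArg Subtype.val hj : c ^ p ^ j = 1))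
        (((Nat.coprime_primes hp hx.prime).mpr hpl).pow_left j)
  have hrel : T0.relIndex W0 ∣ l := by
    have h := Subgroup.card_mul_index (T0.subgroupOf W0)
    rw [Nat.card_congr (Subgroup.subgroupOfEquivOfLe (inf_le_left : T0 ≤ W0)).toEquiv] at h
    rw [← h, mul_comm l] at hdvd
    exact Nat.dvd_of_mul_dvd_mul_left Nat.card_pos hdvd
  -- `l` divides `r - 1`
  obtain ⟨f0, hf0⟩ := exists_prime_orderOf_dvd_card' r ((Frame.card_F hF hNB hFr).symm ▸ hrm)
  rw [← Subgroup.orderOf_coe] at hf0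
  have hf0q : ¬ q ∣ orderOf (f0 : G) := fun hd => hrq
    ((Nat.prime_dvd_prime_iff_eq hq hr).mp (hf0 ▸ hd)).symm
  have hxf := conj_cent hF hNB hFr hxC (hnorm x hxC) f0.2 (hΦT f0 f0.2 hf0q)
  obtain ⟨n, hn⟩ := Subgroup.mem_zpowers_iff.mp (mem_zpowers_of_cyclic (S := Subgroup.zpowers j0) hr
    (hTgen f0 f0.2 (hΦT f0 f0.2 hf0q)) hf0 (hTgen _ hxf.1 hxf.2)
    (by rw [conj_pow, ← hf0, pow_orderOf_eq_one, mul_one, mul_inv_cancel]))
  have hiter : ∀ k : ℕ, x ^ k * f0 * (x ^ k)⁻¹ = (f0 : G) ^ (n ^ k) := fun k => by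
    induction k with
    | zero => simp
    | succ k ih =>
      calc x ^ (k + 1) * f0 * (x ^ (k + 1))⁻¹ = x * (x ^ k * f0 * (x ^ k)⁻¹) * x⁻¹ := by rw [pow_succ']; group
        _ = (x * f0 * x⁻¹) ^ (n ^ k) := by rw [ih, conj_zpow]
        _ = (f0 : G) ^ (n ^ (k + 1)) := by rw [← hn, ← zpow_mul, pow_succ']
  have hnl : ((n : ZMod r)) ^ l = 1 := by
    have h := hiter l
    rw [hldef, pow_orderOf_eq_one, one_mul, inv_one, mul_one, ← hldef] at h
    have h2 : ((orderOf (f0 : G) : ℤ)) ∣ 1 - n ^ l := by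
      rw [orderOf_dvd_iff_zpow_eq_one, zpow_sub, zpow_one, ← h, mul_inv_cancel]
    rw [hf0] at h2
    have h3 := (ZMod.intCast_zmod_eq_zero_iff_dvd _ r).mpr h2
    push_cast at h3
    exact (sub_eq_zero.mp h3).symm
  have hn1 : (n : ZMod r) ≠ 1 := fun e => by
    have h2 : ((orderOf (f0 : G) : ℤ)) ∣ n - 1 := by
      rw [hf0]
      refine (ZMod.intCast_zmod_eq_zero_iff_dvd _ r).mp ?_
      push_cast
      rw [e, sub_self]
    rw [orderOf_dvd_iff_zpow_eq_one, zpow_sub, zpow_one, mul_inv_eq_one] at h2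
    rw [h2] at hn
    have h3 := Frame.cent_elt hF hNB hFr hx f0.2 (mul_inv_eq_iff_eq_mul.mp hn.symm).symm
    rw [h3, orderOf_one] at hf0
    exact hr.ne_one hf0.symm
  haveI := Fact.mk hx.prime
  have hord : orderOf (n : ZMod r) = l := orderOf_eq_prime hnl hn1
  have hn0 : (n : ZMod r) ≠ 0 := fun e => by
    rw [e, zero_pow hx.prime.ne_zero] at hnl
    exact zero_ne_one hnl
  obtain ⟨k, hk⟩ : l ∣ r - 1 := hord ▸ ZMod.orderOf_dvd_card_sub_one hn0
  have hl2 := prime_ne_two hF hNB hFr.hab hx.mem hx.prime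
  have hr2 : r ≠ 2 := fun e => (odd_invAt hF a).not_two_dvd_nat (e ▸ hrm)
  have := Nat.le_of_dvd hx.prime.pos hrel
  have hlodd := hx.prime.eq_two_or_odd.resolve_left hl2
  have hrodd := hr.eq_two_or_odd.resolve_left hr2
  have := hr.two_le
  rcases k with _ | _ | k
  · omega
  · rw [zero_add, mul_one] at hk; rw [← hldef] at *; omega
  · rw [show k + 1 + 1 = k + 2 from rfl] at hk
    have : l * 2 ≤ l * (k + 2) := Nat.mul_le_mul_left l (by omega)
    have := hx.prime.two_le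
    rw [← hldef] at *
    omega

end CfsgLib.Bender.NC
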