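import Cfsg.Agent.Lib.YoshidaTransfer

/-!
Elementary facts on `p`-groups for the non-commuting case: the largest elementary abelian quotient, eigenvectors
of an operator of prime order, a class two quotient.

Blueprint: `blueprint/bender/A5b.md`, section 2a.
-/

set_option autoImplicit false
set_option linter.unusedSectionVars false
set_option linter.style.haveILetI false
set_option linter.unusedVariables false

namespace CfsgLib.Bender.NC

open scoped commutatorElement

/-- Powers of an element of exponent `p` depend only on the exponent modulo `p`. -/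
theorem pow_congr_zmod {G : Type*} [Group G] {p : ℕ} {a : G} (hap : a ^ p = 1) {m n : ℕ}
    (h : (m : ZMod p) = n) : a ^ m = a ^ n := by
  rw [pow_eq_pow_mod m hap, pow_eq_pow_mod n hap, (ZMod.natCast_eq_natCast_iff' m n p).mp h]

/-- The exponent of a power of an element of order `p` is determined modulo `p`. -/
theorem zmod_of_pow_eq {G : Type*} [Group G] {p : ℕ} [hp : Fact p.Prime] {a : G} (hap : a ^ p = 1) (ha : a ≠ 1)
    {m n : ℕ} (h : a ^ m = a ^ n) : (m : ZMod p) = n := by
  have ho := orderOf_eq_prime hap ha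
  have hfin : IsOfFinOrder a := isOfFinOrder_iff_pow_eq_one.mpr ⟨p, hp.out.pos, hap⟩
  rw [hfin.pow_eq_pow_iff_modEq, ho] at h
  exact (ZMod.natCast_eq_natCast_iff m n p).mpr h

/-- In a cyclic group the elements of exponent `p` are the powers of any element of order `p`. -/
theorem mem_zpowers_of_prime {G : Type*} [Group G] [Finite G] {p : ℕ} [hp : Fact p.Prime] {g z e : G}
    (hz : z ∈ Subgroup.zpowers g) (he : e ∈ Subgroup.zpowers g) (hzo : orderOf z = p) (hep : e ^ p = 1) :
    e ∈ Subgroup.zpowers z := by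
  classical
  set H := Subgroup.zpowers g
  haveI := Fintype.ofFinite H
  have hcard := IsCyclic.card_pow_eq_one_le (α := H) hp.out.pos
  let F : Finset H := (Finset.univ : Finset H).filter fun v => v.1 ∈ Subgroup.zpowers z
  have hF : F.card = p := by
    rw [← hzo, ← Nat.card_zpowers, ← Fintype.card_coe, ← Nat.card_eq_fintype_card]
    exact Nat.card_congr
      { toFun := fun v => ⟨v.1.1, (Finset.mem_filter.mp v.2).2⟩
        invFun := fun v => ⟨⟨v.1, Subgroup.zpowers_le.mpr hz v.2⟩, Finset.mem_filter.mpr ⟨Finset.mem_univ _, v.2⟩⟩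
        left_inv := fun v => Subtype.ext (Subtype.ext rfl)
        right_inv := fun v => Subtype.ext rfl }
  have hsub : F ⊆ Finset.univ.filter fun v : H => v ^ p = 1 := fun v hv => by
    obtain ⟨n, hn⟩ := Subgroup.mem_zpowers_iff.mp (Finset.mem_filter.mp hv).2
    refine Finset.mem_filter.mpr ⟨Finset.mem_univ _, Subtype.ext ?_⟩
    show v.1 ^ p = 1
    rw [← hn, ← zpow_natCast, ← zpow_mul, mul_comm, zpow_mul, zpow_natCast, ← hzo, pow_orderOf_eq_one, one_zpow]
  have hmem : (⟨e, he⟩ : H) ∈ Finset.univ.filter fun v : H => v ^ p = 1 :=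
    Finset.mem_filter.mpr ⟨Finset.mem_univ _, Subtype.ext hep⟩
  rw [← Finset.eq_of_subset_of_card_le hsub (hcard.trans hF.ge)] at hmem
  exact (Finset.mem_filter.mp hmem).2

/-- An operator of prime order prime to `p` has an eigenvector outside any given subgroup of an abelian group of
exponent `p`, if the field has the roots. -/
theorem exists_eigen {A : Type*} [CommGroup A] {p l : ℕ} [hp : Fact p.Prime] (hA : ∀ a : A, a ^ p = 1) (f : A →* A)
    (hf : ∀ a, (f^[l]) a = a) {ω : ZMod p} (hω : ω ^ l = 1) (hω1 : ω ≠ 1) (hl : l.Prime) (hlp : (l : ZMod p) ≠ 0)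
    (K : Subgroup A) {v : A} (hv : v ∉ K) : ∃ w, w ∉ K ∧ ∃ i : ℕ, f w = w ^ i := by
  have hmul : ∀ (w : A) (x y : ZMod p), w ^ (x * y).val = (w ^ y.val) ^ x.val := fun w x y => by
    rw [← pow_mul]
    exact pow_congr_zmod (hA w) (by simp [mul_comm])
  have hsum : ∀ (w : A) (F : ℕ → ZMod p) (n : ℕ),
      ∏ s ∈ Finset.range n, w ^ (F s).val = w ^ (∑ s ∈ Finset.range n, F s).val := fun w F n => by
    induction n with
    | zero => simp
    | succ n ih =>
      rw [Finset.prod_range_succ, ih, Finset.sum_range_succ, ← pow_add]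
      exact pow_congr_zmod (hA w) (by simp)
  let g : ℕ → ℕ → A := fun s j => ((f^[j]) v) ^ (ω ^ (s * (l - j))).val
  have heig : ∀ s, f (∏ j ∈ Finset.range l, g s j) = (∏ j ∈ Finset.range l, g s j) ^ (ω ^ s).val := by
    intro s
    have hend : g s l = g s 0 := by
      simp only [g, hf, Function.iterate_zero_apply, Nat.sub_self, Nat.sub_zero, mul_zero, pow_zero]
      rw [mul_comm, pow_mul, hω, one_pow]
    have hshift : ∏ j ∈ Finset.range l, g s (j + 1) = ∏ j ∈ Finset.range l, g s j := by
      have h1 := Finset.prod_range_succ (g s) l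
      rw [Finset.prod_range_succ', hend] at h1
      exact mul_right_cancel h1
    rw [map_prod]
    conv_rhs => rw [← hshift, ← Finset.prod_pow]
    refine Finset.prod_congr rfl fun j hj => ?_
    show f (((f^[j]) v) ^ _) = (g s (j + 1)) ^ (ω ^ s).val
    rw [map_pow, ← Function.iterate_succ_apply' f]
    show _ = (((f^[j + 1]) v) ^ _) ^ (ω ^ s).val
    rw [← hmul, ← pow_add]
    have hjl : j < l := Finset.mem_range.mp hj
    rw [show s + s * (l - (j + 1)) = s * (l - j) by
      rw [show l - j = (l - (j + 1)) + 1 by omega, mul_add, mul_one, add_comm]]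
  by_contra hno
  push Not at hno
  have hall : ∀ s, ∏ j ∈ Finset.range l, g s j ∈ K := fun s => by
    by_contra h
    exact hno _ h (ω ^ s).val (heig s)
  have hprod : ∏ s ∈ Finset.range l, ∏ j ∈ Finset.range l, g s j = v ^ (l : ZMod p).val := by
    rw [Finset.prod_comm, Finset.prod_eq_single 0]
    · simp only [g, Function.iterate_zero_apply, Nat.sub_zero]
      rw [hsum]
      congr 2
      simp [mul_comm _ l, pow_mul, hω]
    · intro j hj hj0
      simp only [g]
      rw [hsum]
      have hjl : j < l := Finset.mem_range.mp hj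
      have hne : ω ^ (l - j) ≠ 1 := fun e => hω1 (orderOf_eq_one_iff.mp (Nat.eq_one_of_dvd_coprimes
        (hl.coprime_iff_not_dvd.mpr fun h => absurd (Nat.le_of_dvd (by omega) h) (by omega))
        (orderOf_dvd_of_pow_eq_one hω) (orderOf_dvd_of_pow_eq_one e)))
      have h0 : (ω ^ (l - j) - 1) * ∑ s ∈ Finset.range l, (ω ^ (l - j)) ^ s = 0 := by
        rw [mul_geom_sum, ← pow_mul, mul_comm, pow_mul, hω, one_pow, sub_self]
      rw [show (∑ s ∈ Finset.range l, ω ^ (s * (l - j))) = ∑ s ∈ Finset.range l, (ω ^ (l - j)) ^ s from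
        Finset.sum_congr rfl fun s _ => by rw [← pow_mul, mul_comm]]
      rw [(mul_eq_zero.mp h0).resolve_left (sub_ne_zero.mpr hne)]
      simp
    · intro h
      exact absurd (Finset.mem_range.mpr hl.pos) h
  have hvK : v ^ (l : ZMod p).val ∈ K := hprod ▸ Subgroup.prod_mem K fun s _ => hall s
  refine hv ?_
  have h2 := pow_mem hvK ((l : ZMod p)⁻¹).val
  rwa [← hmul, inv_mul_cancel₀ hlp, ZMod.val_one, pow_one] at h2

variable {H : Type*} [Group H]

/-- The largest elementary abelian quotient. -/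
abbrev PQuot (p : ℕ) (H : Type*) [Group H] :=
  Abelianization H ⧸ (powMonoidHom p : Abelianization H →* Abelianization H).range

/-- The projection to the largest elementary abelian quotient. -/
def pq (p : ℕ) : H →* PQuot p H := (QuotientGroup.mk' _).comp Abelianization.of

theorem pq_surjective (p : ℕ) : Function.Surjective (pq p (H := H)) :=
  (QuotientGroup.mk'_surjective _).comp QuotientGroup.mk_surjective

theorem pq_pow (p : ℕ) (q : PQuot p H) : q ^ p = 1 := by
  obtain ⟨w, rfl⟩ := QuotientGroup.mk'_surjective _ q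
  rw [← map_pow]
  exact (QuotientGroup.eq_one_iff _).mpr ⟨w, rfl⟩

/-- A map to commuting elements of exponent `p` kills the kernel of the projection. -/
theorem pq_ker_le {p : ℕ} {g : H} (hg : pq p g = 1) {K : Type*} [Group K] (ψ : H →* K)
    (hcomm : ∀ a c : H, Commute (ψ a) (ψ c)) (hexp : ∀ a : H, ψ a ^ p = 1) : ψ g = 1 := by
  obtain ⟨w, hw⟩ := (QuotientGroup.eq_one_iff _).mp hg
  obtain ⟨h, rfl⟩ := QuotientGroup.mk_surjective w
  have hc : (h ^ p)⁻¹ * g ∈ commutator H := by
    rw [← Abelianization.ker_of, MonoidHom.mem_ker, map_mul, map_inv, map_pow, inv_mul_eq_one]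
    exact hw
  have hle : commutator H ≤ ψ.ker := by
    rw [commutator_def, Subgroup.commutator_le]
    intro a _ c _
    rw [MonoidHom.mem_ker, map_commutatorElement]
    exact commutatorElement_eq_one_iff_commute.mpr (hcomm a c)
  have h1 := MonoidHom.mem_ker.mp (hle hc)
  rwa [map_mul, map_inv, map_pow, hexp, inv_one, one_mul] at h1

/-- An endomorphism on the largest elementary abelian quotient. -/
noncomputable def pqMap (p : ℕ) (f : H →* H) : PQuot p H →* PQuot p H :=
  QuotientGroup.map _ _ (Abelianization.map f) (by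
    rintro _ ⟨w, rfl⟩
    exact ⟨Abelianization.map f w, by simp⟩)

theorem pqMap_pq (p : ℕ) (f : H →* H) (g : H) : pqMap p f (pq p g) = pq p (f g) := rfl

variable [Finite H] {p : ℕ} [hp : Fact p.Prime]

/-- A subgroup of a `p`-group covering the elementary abelian quotient is everything. -/
theorem eq_top_of_pq (hH : IsPGroup p H) {L : Subgroup H} (hL : L.map (pq p) = ⊤) : L = ⊤ := by
  rcases eq_top_or_exists_le_coatom L with h | ⟨M, hM, hLM⟩
  · exact h
  obtain ⟨hn, hi⟩ := YoshidaTransfer.coatom_data hH hM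
  haveI := hn
  have hcard : Nat.card (H ⧸ M) = p := by rw [← Subgroup.index_eq_card, hi]
  haveI : IsCyclic (H ⧸ M) := isCyclic_of_prime_card hcard
  refine absurd (eq_top_iff.mpr fun g _ => ?_) hM.1
  obtain ⟨m, hm, hmg⟩ := Subgroup.mem_map.mp (hL ▸ Subgroup.mem_top (pq p g))
  have hker : pq p (m⁻¹ * g) = 1 := by rw [map_mul, map_inv, hmg, inv_mul_cancel]
  have h1 := pq_ker_le hker (QuotientGroup.mk' M) (fun a c => IsCyclic.commGroup.mul_comm _ _)
    (fun a => by rw [← hcard]; exact pow_card_eq_one')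
  have h2 := mul_mem (hLM hm) ((QuotientGroup.eq_one_iff _).mp h1)
  rwa [mul_inv_cancel_left] at h2

/-- A non-abelian `p`-group has a quotient with derived subgroup central of exponent `p` and non-trivial. -/
theorem exists_class_two (hH : IsPGroup p H) (hnc : commutator H ≠ ⊥) :
    ∃ (L : Subgroup H) (_ : L.Normal), ¬ commutator H ≤ L ∧ (∀ a c : H, ⁅QuotientGroup.mk' L a, QuotientGroup.mk' L c⁆ ∈
      Subgroup.center (H ⧸ L)) ∧ ∀ a c : H, ⁅QuotientGroup.mk' L a, QuotientGroup.mk' L c⁆ ^ p = 1 := by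
  obtain ⟨L, ⟨hLn, hL⟩, hmax⟩ := (Set.toFinite {L : Subgroup H | L.Normal ∧ ¬ commutator H ≤ L}).exists_maximal
    ⟨⊥, inferInstance, fun h => hnc (le_bot_iff.mp h)⟩
  haveI := hLn
  refine ⟨L, hLn, hL, ?_⟩
  haveI : Nontrivial (H ⧸ L) := QuotientGroup.nontrivial_iff.mpr fun e => hL (e ▸ le_top)
  have hq := hH.to_quotient L
  haveI := hq.center_nontrivial
  obtain ⟨a0, ha0⟩ := exists_ne (1 : Subgroup.center (H ⧸ L))
  obtain ⟨n, hn0, hn⟩ := (hq.to_subgroup (Subgroup.center (H ⧸ L))).nontrivial_iff_card.mp inferInstance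
  obtain ⟨z, hz⟩ := exists_prime_orderOf_dvd_card' (G := Subgroup.center (H ⧸ L)) p
    (hn ▸ dvd_pow_self p (by omega))
  haveI : (Subgroup.zpowers (z : H ⧸ L)).Normal := ⟨fun v hv g => by
    have : v ∈ Subgroup.center (H ⧸ L) := Subgroup.zpowers_le.mpr z.2 hv
    rwa [Subgroup.mem_center_iff.mp this g, mul_inv_cancel_right]⟩
  set M := (Subgroup.zpowers (z : H ⧸ L)).comap (QuotientGroup.mk' L) with hM
  have hCM : commutator H ≤ M := by
    by_contra hn'
    have hLM : L ≤ M := fun v hv => by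
      rw [hM, Subgroup.mem_comap, show QuotientGroup.mk' L v = 1 from (QuotientGroup.eq_one_iff v).mpr hv]
      exact one_mem _
    have hML : M ≤ L := hmax ⟨Subgroup.Normal.comap inferInstance _, hn'⟩ hLM
    obtain ⟨g, hg⟩ := QuotientGroup.mk'_surjective L (z : H ⧸ L)
    have hz1 : (z : H ⧸ L) = 1 := by
      rw [← hg]
      exact (QuotientGroup.eq_one_iff g).mpr (hML (by rw [hM, Subgroup.mem_comap, hg]; exact Subgroup.mem_zpowers _))
    rw [← Subgroup.orderOf_coe, hz1, orderOf_one] at hz
    exact hp.out.one_lt.ne hz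
  have hmem : ∀ a c : H, ⁅QuotientGroup.mk' L a, QuotientGroup.mk' L c⁆ ∈ Subgroup.zpowers (z : H ⧸ L) := fun a c => by
    rw [← map_commutatorElement]
    exact hCM (Subgroup.commutator_mem_commutator (Subgroup.mem_top a) (Subgroup.mem_top c))
  refine ⟨fun a c => Subgroup.zpowers_le.mpr z.2 (hmem a c), fun a c => ?_⟩
  obtain ⟨m, hm⟩ := Subgroup.mem_zpowers_iff.mp (hmem a c)
  rw [← hm, ← zpow_natCast, ← zpow_mul, mul_comm, zpow_mul, zpow_natCast, ← hz, ← Subgroup.orderOf_coe,
    pow_orderOf_eq_one, one_zpow]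

/-- In a group with central commutators the commutator is multiplicative in each variable. -/
theorem comm_mul_left {K : Type*} [Group K] {a a' c : K} (h : ⁅a', c⁆ ∈ Subgroup.center K) :
    ⁅a * a', c⁆ = ⁅a, c⁆ * ⁅a', c⁆ := by
  calc ⁅a * a', c⁆ = a * ⁅a', c⁆ * a⁻¹ * ⁅a, c⁆ := by simp only [commutatorElement_def]; group
    _ = ⁅a', c⁆ * ⁅a, c⁆ := by rw [Subgroup.mem_center_iff.mp h a, mul_inv_cancel_right]
    _ = _ := (Subgroup.mem_center_iff.mp h _).symm

theorem comm_pow_left {K : Type*} [Group K] {a c : K} (h : ⁅a, c⁆ ∈ Subgroup.center K) (n : ℕ) :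
    ⁅a ^ n, c⁆ = ⁅a, c⁆ ^ n := by
  induction n with
  | zero => simp [commutatorElement_def]
  | succ n ih => rw [pow_succ, comm_mul_left h, ih, pow_succ]

theorem comm_mul_right {K : Type*} [Group K] {a c c' : K} (h : ⁅a, c'⁆ ∈ Subgroup.center K) :
    ⁅a, c * c'⁆ = ⁅a, c⁆ * ⁅a, c'⁆ := by
  calc ⁅a, c * c'⁆ = ⁅a, c⁆ * (c * ⁅a, c'⁆ * c⁻¹) := by simp only [commutatorElement_def]; group
    _ = _ := by rw [Subgroup.mem_center_iff.mp h c, mul_inv_cancel_right]

theorem comm_pow_right {K : Type*} [Group K] {a c : K} (h : ⁅a, c⁆ ∈ Subgroup.center K) (n : ℕ) :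
    ⁅a, c ^ n⁆ = ⁅a, c⁆ ^ n := by
  induction n with
  | zero => simp [commutatorElement_def]
  | succ n ih => rw [pow_succ, comm_mul_right h, ih, pow_succ]

end CfsgLib.Bender.NC
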