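import Cfsg.Agent.Lib.Bender.FromB1.NC.Lines
import Cfsg.Agent.Lib.PGroup.CyclicMax
import Cfsg.Agent.Lib.Elementary
import Cfsg.Agent.Lib.Bender.FromB1.NC.PGroupAux

/-!
The odd abelian quotient of `W` has cyclic Sylow subgroups generated over rank one elements: a non-cyclic
maximal `l`-subgroup of `W` lies in the derived group.

Blueprint: `blueprint/bender/A5c_audit.md`, section 3.
-/

set_option autoImplicit false
set_option linter.unusedSectionVars false
set_option linter.style.haveILetI false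

namespace CfsgLib.Bender.NC

open MulAction Cfsg CfsgLib.Bender CfsgLib.Bender.OneFix CfsgLib.Bender.TwoClosed
open CfsgLib.Bender.B1 (FourIn)
open scoped commutatorElement

universe u v

/-- A subgroup of order `l` times that of a normal subgroup is central modulo it in an `l`-group. -/
theorem comm_mem_of_card {P : Type v} [Group P] [Finite P] {l : ℕ} [hl : Fact l.Prime] (hP : IsPGroup l P)
    {A Z : Subgroup P} [A.Normal] [Z.Normal] (hZA : Z ≤ A) (hc : Nat.card A = l * Nat.card Z) (g : P) {w : P}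
    (hw : w ∈ A) : g * w * g⁻¹ * w⁻¹ ∈ Z := by
  set π := QuotientGroup.mk' Z
  haveI : Group.IsNilpotent (P ⧸ Z) := by
    haveI := (hP.to_quotient Z).isNilpotent
    infer_instance
  haveI : (A.map π).Normal := Subgroup.Normal.map inferInstance π (QuotientGroup.mk'_surjective Z)
  have hne : A.map π ≠ ⊥ := fun h => by
    rw [Subgroup.map_eq_bot_iff, QuotientGroup.ker_mk'] at h
    have h1 := Nat.le_of_dvd Nat.card_pos (Subgroup.card_dvd_of_le h)
    rw [hc] at h1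
    have h2 := Nat.mul_lt_mul_of_pos_right hl.out.one_lt (Nat.card_pos (α := Z))
    omega
  set M : Subgroup P := A ⊓ (Subgroup.center (P ⧸ Z)).comap π
  have hZM : Z ≤ M := le_inf hZA fun z hz => by
    rw [Subgroup.mem_comap, show π z = 1 from (QuotientGroup.eq_one_iff z).mpr hz]
    exact one_mem _
  have hMA : M = A := by
    obtain ⟨j, hj⟩ := Subgroup.card_dvd_of_le hZM
    have hdvd : Nat.card Z * j ∣ Nat.card Z * l := by
      rw [← hj, mul_comm _ l, ← hc]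
      exact Subgroup.card_dvd_of_le inf_le_left
    rcases (Nat.dvd_prime hl.out).mp (Nat.dvd_of_mul_dvd_mul_left Nat.card_pos hdvd) with rfl | rfl
    · exfalso
      have hMZ : M = Z := (Subgroup.eq_of_le_of_card_ge hZM (by rw [hj, mul_one])).symm
      refine CfsgLib.inf_center_ne_bot_of_nilpotent hne ((Subgroup.eq_bot_iff_forall _).mpr ?_)
      rintro q ⟨⟨p, hp, rfl⟩, hq⟩
      exact (QuotientGroup.eq_one_iff p).mpr (hMZ ▸ (⟨hp, hq⟩ : p ∈ M))
    · exact Subgroup.eq_of_le_of_card_ge inf_le_left (by rw [hj, hc, mul_comm])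
  have h : π w ∈ Subgroup.center (P ⧸ Z) := (hMA.symm ▸ hw : w ∈ M).2
  rw [Subgroup.mem_center_iff] at h
  apply (QuotientGroup.eq_one_iff _).mp
  show π (g * w * g⁻¹ * w⁻¹) = 1
  rw [map_mul, map_mul, map_mul, h, map_inv, map_inv, mul_inv_cancel_right, mul_inv_cancel]

/-- A non-trivial power of an element of prime order generates it. -/
theorem zpowers_le_of_mem {P : Type v} [Group P] {x z : P} (hp : (orderOf x).Prime)
    (hz : z ∈ Subgroup.zpowers x) (hz1 : z ≠ 1) : x ∈ Subgroup.zpowers z := by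
  have hfin : IsOfFinOrder x := orderOf_pos_iff.mp hp.pos
  obtain ⟨k, hk⟩ := hfin.mem_powers_iff_mem_zpowers.mpr hz
  change x ^ k = z at hk
  subst hk
  obtain ⟨m, hm⟩ := exists_pow_eq_self_of_coprime (x := x) (n := k)
    ((hp.coprime_iff_not_dvd.mpr fun hd => hz1 (orderOf_dvd_iff_pow_eq_one.mp hd)).symm)
  exact ⟨m, by simpa only [zpow_natCast] using hm⟩

/-- The powers of an element of finite order have exponents below the order. -/
theorem exists_pow_lt {P : Type v} [Group P] {x z : P} (hp : 0 < orderOf x) (hz : z ∈ Subgroup.zpowers x) :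
    ∃ i < orderOf x, x ^ i = z := by
  obtain ⟨k, hk⟩ := (orderOf_pos_iff.mp hp).mem_powers_iff_mem_zpowers.mpr hz
  exact ⟨k % orderOf x, Nat.mod_lt _ hp, (pow_mod_orderOf x k).trans hk⟩

/-- An element of prime power order of a subgroup is conjugate into a maximal subgroup of that prime power
order. -/
theorem exists_conj_mem {P : Type v} [Group P] [Finite P] {l n : ℕ} [hl : Fact l.Prime] {K R : Subgroup P}
    (hR : MaxP l K R) {e : P} (he : e ∈ K) (hen : e ^ l ^ n = 1) : ∃ h ∈ K, h * e * h⁻¹ ∈ R := by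
  obtain ⟨j, -, hj⟩ := (Nat.dvd_prime_pow hl.out).mp (orderOf_dvd_of_pow_eq_one hen)
  obtain ⟨Q, heQ, hQ⟩ := exists_maxP (IsPGroup.of_card (p := l) (G := Subgroup.zpowers e)
    (by rw [Nat.card_zpowers, hj])) (Subgroup.zpowers_le.mpr he)
  obtain ⟨h, hh, hiff⟩ := hQ.conj hR
  exact ⟨h, hh, (hiff e).mp (heQ (Subgroup.mem_zpowers e))⟩

section Groups

variable {G Ω : Type u} [Group G] [MulAction G Ω] [Finite G] [FaithfulSMul G Ω] (hF : OneFix G Ω)
  (hNB : NoBad G Ω) (hBel : B1.Below.{u} (Nat.card G)) {a b : Ω} {u : G} {F C : Subgroup G}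
  (hFr : Frame a b u F C)
include hF hNB hBel hFr

/-- The order of the two-point stabiliser in `K`. -/
theorem card_two_inf :
    Nat.card ↥(two a b ⊓ kSub a F) = Nat.card F * Nat.card ↥(wSub a F C) := by
  rw [← Nat.card_prod]
  have hFK : F ≤ kSub a F := le_sup_right
  refine (Nat.card_eq_of_bijective (fun p : F × wSub a F C => (⟨(p.1 : G) * p.2,
    mul_mem (Frame.le_two hF hNB hFr p.1.2) (Frame.C_le hF hNB hFr p.2.2.1),
    mul_mem (hFK p.1.2) p.2.2.2⟩ : ↥(two a b ⊓ kSub a F))) ⟨fun p q e => ?_, fun d => ?_⟩).symm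
  · have e' : (p.1 : G) * p.2 = q.1 * q.2 := congrArg Subtype.val e
    have h : (q.1 : G)⁻¹ * p.1 = q.2 * (p.2 : G)⁻¹ := by
      rw [eq_mul_inv_iff_mul_eq, mul_assoc, e', inv_mul_cancel_left]
    have h1 : (q.1 : G)⁻¹ * p.1 = 1 :=
      Frame.eq_one_of_mem hF hNB hFr (mul_mem (inv_mem q.1.2) p.1.2) (h ▸ mul_mem q.2.2.1 (inv_mem p.2.2.1))
    have h2 : (q.2 : G) * (p.2 : G)⁻¹ = 1 := h ▸ h1
    exact Prod.ext (Subtype.ext (inv_mul_eq_one.mp h1).symm) (Subtype.ext (mul_inv_eq_one.mp h2).symm)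
  · obtain ⟨f, hf, c, hc, he⟩ := Frame.exists_mul hF hNB hFr d.2.1
    refine ⟨(⟨f, hf⟩, ⟨c, hc, ?_⟩), Subtype.ext he.symm⟩
    have : c = f⁻¹ * d := by rw [he, inv_mul_cancel_left]
    rw [this]
    exact (kSub a F).mul_mem ((kSub a F).inv_mem (hFK hf)) d.2.2

/-- For a rank one prime a maximal subgroup of `W` is one of the two-point stabiliser in `K`. -/
theorem maxP_two {x : G} (hx : RankOneElt a b u x) {R : Subgroup G} (hR : MaxP (orderOf x) (wSub a F C) R) :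
    MaxP (orderOf x) (two a b ⊓ kSub a F) R := by
  haveI := Fact.mk hx.prime
  refine maxP_of_card hR.isPGroup (hR.le.trans (inf_le_inf_right _ (Frame.C_le hF hNB hFr))) ?_
  rw [hR.card, card_two_inf hF hNB hBel hFr, Nat.factorization_mul Nat.card_pos.ne' Nat.card_pos.ne',
    Finsupp.add_apply, Nat.factorization_eq_zero_of_not_dvd
      (hx.prime.coprime_iff_not_dvd.mp (Frame.coprime_card hF hNB hFr hx)), zero_add]

/-- An element of the centraliser of a rank one element moves `b` as an element of its normaliser does. -/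
theorem exists_cent_move {x y : G} (hx : RankOneElt a b u x) (hy : y ∈ wSub a F C)
    (hyo : orderOf y = orderOf x) (h4 : FourIn (Subgroup.centralizer (Subgroup.zpowers y : Set G)))
    (hyx : y * x = x * y) {g : G} (hg : g ∈ kSub a F) (hgn : g⁻¹ * x * g ∈ Subgroup.zpowers x) :
    ∃ g' ∈ kSub a F, g' * x = x * g' ∧ g' • b = g • b := by
  classical
  haveI := Fact.mk hx.prime
  have hxC := Frame.elt_mem hF hNB hFr hx
  have hxD := Frame.C_le hF hNB hFr hxC
  have hyD := Frame.C_le hF hNB hFr hy.1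
  have hyp : (orderOf y).Prime := by rw [hyo]; exact hx.prime
  set C0 : Subgroup G := kSub a F ⊓ Subgroup.centralizer ({x} : Set G) with hC0
  have hC0x : ∀ v ∈ C0, v * x = x * v := fun v hv => Subgroup.mem_centralizer_singleton_iff.mp hv.2
  have hC0a : ∀ v ∈ C0, v • a = a := fun v hv => kSub_fix hF hNB hBel hFr hv.1
  let O := orbit C0 b
  have hOmem : ∀ {d : Ω}, d ∈ O → d ≠ a ∧ x • d = d := by
    rintro d ⟨⟨v, hv⟩, rfl⟩
    refine ⟨fun e => hFr.hab (smul_left_cancel v (e.trans (hC0a v hv).symm)), ?_⟩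
    show x • v • b = v • b
    rw [← mul_smul, ← hC0x v hv, mul_smul, (mem_two.mp hxD).2]
  have hmove : ∀ {d : Ω}, d ≠ a → x • d = d → y • d = d → d ∈ O := fun {d} hda hxd hyd => by
    obtain ⟨v, hva, hk, hvb, hvy, hvx⟩ :=
      Frame.exists_mover hF hNB hBel hFr hy.1 hyp h4 hxD hyx.symm hda hyd hxd
    exact ⟨⟨v, Subgroup.mem_sup_left (mem_twoElts hva hk), Subgroup.mem_centralizer_singleton_iff.mpr hvx⟩, hvb⟩
  have hyC0 : y ∈ C0 := ⟨hy.2, Subgroup.mem_centralizer_singleton_iff.mpr hyx⟩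
  haveI : Finite O := Set.finite_range _ |>.to_subtype
  -- the orbit is prime to the order of `x`
  have hfix : ∀ (v : C0), v ^ orderOf x = 1 →
      Nat.card O ≡ Nat.card {d : O // (v : G) • (d : Ω) = d} [MOD orderOf x] := fun v hv => by
    obtain ⟨j, -, hj⟩ := (Nat.dvd_prime_pow hx.prime).mp
      (orderOf_dvd_of_pow_eq_one (x := v) (n := orderOf x ^ 1) (by rw [pow_one]; exact hv))
    have hP : IsPGroup (orderOf x) (Subgroup.zpowers v) := IsPGroup.of_card (by rw [Nat.card_zpowers, hj])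
    refine (hP.card_modEq_card_fixedPoints O).trans ?_
    rw [Nat.card_congr (Equiv.subtypeEquivRight fun d : O => ?_)]
    constructor
    · intro h
      exact congrArg Subtype.val (h ⟨v, Subgroup.mem_zpowers v⟩)
    · intro h m
      have : v • d = d := Subtype.ext h
      exact mem_stabilizer_iff.mp (Subgroup.zpowers_le.mpr (mem_stabilizer_iff.mpr this) m.2)
  have hpow : (⟨y, hyC0⟩ : C0) ^ orderOf x = 1 := Subtype.ext (by
    push_cast
    rw [← hyo, pow_orderOf_eq_one])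
  have hO : ¬ orderOf x ∣ Nat.card O := fun hd => by
    obtain ⟨k, hk⟩ := card_fixed_pow hF hNB hBel hFr.hab hyD hyp (Frame.third hF hNB hFr hy.1) h4
      (x := x) hyx.symm (mem_two.mp hxD).1 (mem_two.mp hxD).2
    have e : Nat.card {d : O // (y : G) • (d : Ω) = d} = 2 ^ k := by
      rw [← hk]
      exact Nat.card_congr
        { toFun := fun d => ⟨d.1.1, (hOmem d.1.2).1, (hOmem d.1.2).2, d.2⟩
          invFun := fun d => ⟨⟨d.1, hmove d.2.1 d.2.2.1 d.2.2.2⟩, d.2.2.2⟩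
          left_inv := fun d => rfl
          right_inv := fun d => rfl }
    have h := (hfix ⟨y, hyC0⟩ hpow).symm.trans (Nat.modEq_zero_iff_dvd.mpr hd)
    rw [e] at h
    exact prime_ne_two hF hNB hFr.hab hxD hx.prime
      ((Nat.prime_dvd_prime_iff_eq hx.prime Nat.prime_two).mp
        (hx.prime.dvd_of_dvd_pow (Nat.modEq_zero_iff_dvd.mp h)))
  -- conjugation by `g`
  obtain ⟨j, hj⟩ := Subgroup.mem_zpowers_iff.mp hgn
  have hxg : x * g = g * x ^ j := by rw [hj]; group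
  have hgC0 : ∀ v ∈ C0, g * v * g⁻¹ ∈ C0 := fun v hv => by
    refine ⟨(kSub a F).mul_mem ((kSub a F).mul_mem hg hv.1) ((kSub a F).inv_mem hg), Subgroup.mem_centralizer_singleton_iff.mpr ?_⟩
    have hvj : v * x ^ j = x ^ j * v := ((show Commute v x from hC0x v hv).zpow_right j).eq
    calc g * v * g⁻¹ * x = g * (v * (g⁻¹ * x * g)) * g⁻¹ := by group
      _ = g * (x ^ j * v) * g⁻¹ := by rw [← hj, hvj]
      _ = x * (g * v * g⁻¹) := by rw [← mul_assoc g, ← hxg]; group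
  have hmemn : g ∈ Subgroup.normalizer (C0 : Set G) := mem_normalizer_of_conj hgC0
  have hy1 : g⁻¹ * y * g ∈ C0 := by
    have h := (Subgroup.mem_normalizer_iff.mp (inv_mem hmemn) y).mp hyC0
    rwa [inv_inv] at h
  obtain ⟨d, hd⟩ : ∃ d : O, (g⁻¹ * y * g) • (d : Ω) = d := by
    by_contra h
    push Not at h
    haveI : IsEmpty {d : O // ((⟨_, hy1⟩ : C0) : G) • (d : Ω) = d} := ⟨fun d => h d.1 d.2⟩
    have hmod := hfix ⟨_, hy1⟩ (Subtype.ext (by
      push_cast
      rw [show g⁻¹ * y * g = g⁻¹ * y * (g⁻¹)⁻¹ by rw [inv_inv], conj_pow, ← hyo, pow_orderOf_eq_one, mul_one,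
        mul_inv_cancel]))
    have h0 : Nat.card {d : O // ((⟨_, hy1⟩ : C0) : G) • (d : Ω) = d} = 0 := Nat.card_of_isEmpty
    rw [h0] at hmod
    exact hO (Nat.modEq_zero_iff_dvd.mp hmod)
  have hyd : y • g • (d : Ω) = g • (d : Ω) := by
    rwa [mul_smul, mul_smul, inv_smul_eq_iff] at hd
  have hxd : x • g • (d : Ω) = g • (d : Ω) := by
    rw [← mul_smul, hxg, mul_smul]
    congr 1
    exact mem_stabilizer_iff.mp (zpow_mem (mem_stabilizer_iff.mpr (hOmem d.2).2) j)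
  have hgda : g • (d : Ω) ≠ a := fun e =>
    (hOmem d.2).1 (smul_left_cancel g (e.trans (kSub_fix hF hNB hBel hFr hg).symm))
  obtain ⟨⟨v2, hv2⟩, hv2b⟩ := hmove hgda hxd hyd
  obtain ⟨⟨v1, hv1⟩, hv1b⟩ := d.2
  change v2 • b = g • (d : Ω) at hv2b
  change v1 • b = (d : Ω) at hv1b
  have hv := mul_mem (inv_mem (hgC0 v1 hv1)) hv2
  refine ⟨(g * v1 * g⁻¹)⁻¹ * v2, hv.1, hC0x _ hv, ?_⟩
  rw [mul_smul, hv2b, ← hv1b, inv_smul_eq_iff]
  simp only [mul_smul, inv_smul_smul]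

/-- The part of the two-point stabiliser in `K` centralising a rank one element lies in `W`. -/
theorem mem_wSub_of_commute {x t : G} (hx : RankOneElt a b u x) (ht : t ∈ two a b) (htK : t ∈ kSub a F)
    (htx : t * x = x * t) : t ∈ wSub a F C :=
  ⟨(Frame.mem_C hF hNB hFr).mpr ⟨ht, RankOneElt.commute_swap hF hNB hx ht htx⟩, htK⟩

variable (hnc : ¬ CommAt G a)
include hnc

/-- A maximal `l`-subgroup of `W` without rank one elements of order `l` lies in the derived group. -/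
theorem le_commutator_of_good {l : ℕ} (hl : l.Prime) {R : Subgroup G} (hR : MaxP l (wSub a F C) R)
    (h : ∀ z ∈ R, orderOf z = l → FourIn (Subgroup.centralizer (Subgroup.zpowers z : Set G))) :
    R ≤ ⁅wSub a F C, wSub a F C⁆ := by
  haveI := Fact.mk hl
  intro c hc
  obtain ⟨n, hn⟩ := hR.isPGroup ⟨c, hc⟩
  obtain ⟨j, -, hj⟩ := (Nat.dvd_prime_pow hl).mp (orderOf_dvd_of_pow_eq_one (congrArg Subtype.val hn : c ^ l ^ n = 1))
  rcases j with _ | j
  · rw [pow_zero] at hj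
    rw [show c = 1 from orderOf_eq_one_iff.mp hj]
    exact one_mem _
  refine mem_commutator_of_good hF hNB hBel hFr hl (hR.le hc) hj (h _ (pow_mem hc _) ?_)
  rw [orderOf_pow_of_dvd (pow_ne_zero j hl.ne_zero) (by rw [hj]; exact pow_dvd_pow l j.le_succ), hj, pow_succ,
    Nat.mul_div_cancel_left _ (pow_pos hl.pos j)]

/-- A non-cyclic maximal `l`-subgroup of `W` lies in the derived group. -/
theorem le_commutator_of_not_cyclic {l : ℕ} (hl : l.Prime) {R : Subgroup G} (hR : MaxP l (wSub a F C) R)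
    (hcyc : ¬ IsCyclic R) : R ≤ ⁅wSub a F C, wSub a F C⁆ := by
  classical
  set W := wSub a F C with hW
  have hRW : R ≤ W := hR.le
  have hRC : ∀ {v : G}, v ∈ R → v ∈ C := fun hv => (hRW hv).1
  by_cases h0 : ∀ z ∈ R, orderOf z = l → FourIn (Subgroup.centralizer (Subgroup.zpowers z : Set G))
  · exact le_commutator_of_good hF hNB hBel hFr hnc hl hR h0
  push Not at h0
  obtain ⟨x0, hx0R, hx0o, hx04⟩ := h0
  haveI := Fact.mk hl
  have hx0 : RankOneElt a b u x0 :=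
    (Frame.good_or_elt hF hNB hFr (hRC hx0R) (by rw [hx0o]; exact hl)).resolve_left hx04
  have hodd : l ≠ 2 := hx0o ▸ prime_ne_two hF hNB hFr.hab (Frame.C_le hF hNB hFr (hRC hx0R)) hx0.prime
  by_cases hgc : ∃ z ∈ R, orderOf z = l ∧ FourIn (Subgroup.centralizer (Subgroup.zpowers z : Set G)) ∧
      ∀ c ∈ R, c * z = z * c
  · obtain ⟨z, hz, hzo, hz4, hzc⟩ := hgc
    exact le_commutator_of_central hF hNB hFr hBel hnc hx0 (hx0o ▸ hR.isPGroup) hRW hx0R (hRW hz)
      (hzo.trans hx0o.symm) hz4 hzc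
  -- a central rank one element
  have hRne : Nontrivial R := by
    refine ⟨⟨⟨x0, hx0R⟩, 1, fun e => hl.one_lt.ne' (hx0o ▸ orderOf_eq_one_iff.mpr ?_)⟩⟩
    exact congrArg Subtype.val e
  haveI := hRne
  obtain ⟨x, hxR, hxo, hxc⟩ : ∃ x ∈ R, orderOf x = l ∧ ∀ c ∈ R, c * x = x * c := by
    haveI := hR.isPGroup.center_nontrivial
    obtain ⟨k, hk⟩ := IsPGroup.iff_card.mp (hR.isPGroup.to_subgroup (Subgroup.center R))
    have hkpos : 0 < k := Nat.pos_of_ne_zero fun e =>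
      (Finite.one_lt_card (α := Subgroup.center R)).ne' (by rw [hk, e, pow_zero])
    obtain ⟨z, hz⟩ := exists_prime_orderOf_dvd_card' (G := Subgroup.center R) l
      (by rw [hk]; exact dvd_pow_self l hkpos.ne')
    refine ⟨((z : R) : G), (z : R).2, by rw [Subgroup.orderOf_coe, Subgroup.orderOf_coe, hz], fun c hc => ?_⟩
    exact congrArg Subtype.val (Subgroup.mem_center_iff.mp z.2 ⟨c, hc⟩)
  have hx4 : ¬ FourIn (Subgroup.centralizer (Subgroup.zpowers x : Set G)) := fun h => hgc ⟨x, hxR, hxo, h, hxc⟩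
  have hx : RankOneElt a b u x :=
    (Frame.good_or_elt hF hNB hFr (hRC hxR) (by rw [hxo]; exact hl)).resolve_left hx4
  have hxp : (orderOf x).Prime := hx.prime
  have hxW : x ∈ W := hRW hxR
  have hcent : ∀ z ∈ R, z ^ l = 1 → (∀ c ∈ R, c * z = z * c) → z ∈ Subgroup.zpowers x := by
    intro z hz hzl hzc
    by_contra hne
    obtain ⟨⟨i, hio, hi4⟩, -⟩ :=
      lines_of_pair hF hNB hFr hBel hnc hx hxW (hRW hz) (by rw [hxo]; exact hzl) (hxc z hz) hne
    refine hgc ⟨_, mul_mem hz (pow_mem hxR i), hio.trans hxo, hi4, fun c hc => ?_⟩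
    exact ((show Commute c z from hzc c hc).mul_right ((show Commute c x from hxc c hc).pow_right i)).eq
  -- a normal elementary abelian subgroup of order `l ^ 2`
  obtain ⟨A, -, hAn, ⟨hAab, hAe⟩, hAc⟩ := CyclicMax.exists_normal_sq hR.isPGroup hodd (⊤ : Subgroup R)
    (fun h => hcyc (Subgroup.topEquiv.isCyclic.mp h))
  haveI := hAn
  haveI := hR.isPGroup.isNilpotent
  set xR : R := ⟨x, hxR⟩ with hxR'
  have hxRo : orderOf xR = l := by rw [← Subgroup.orderOf_coe]; exact hxo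
  have hxA : xR ∈ A := by
    have hAne : A ≠ ⊥ := fun e => by
      rw [e, Subgroup.card_bot] at hAc
      exact (Nat.one_lt_pow two_ne_zero hl.one_lt).ne hAc
    obtain ⟨z, hz, hne⟩ := (Subgroup.bot_or_exists_ne_one (A ⊓ Subgroup.center R)).resolve_left
      (CfsgLib.inf_center_ne_bot_of_nilpotent hAne)
    have hzx : (z : G) ∈ Subgroup.zpowers x :=
      hcent z z.2 (congrArg Subtype.val (hAe z hz.1)) fun c hc =>
        congrArg Subtype.val (Subgroup.mem_center_iff.mp hz.2 ⟨c, hc⟩)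
    obtain ⟨k, hk⟩ := Subgroup.mem_zpowers_iff.mp
      (zpowers_le_of_mem hxp hzx fun e => hne (Subtype.ext e))
    rw [show xR = z ^ k from Subtype.ext hk.symm]
    exact A.zpow_mem hz.1 k
  obtain ⟨w', hw'A, hw'x⟩ : ∃ w' ∈ A, w' ∉ Subgroup.zpowers xR := by
    by_contra h
    push Not at h
    have h1 := Nat.le_of_dvd Nat.card_pos (Subgroup.card_dvd_of_le h)
    rw [hAc, Nat.card_zpowers, hxRo] at h1
    exact absurd h1 (by nlinarith [hl.two_le])
  set w : G := (w' : G) with hw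
  have hwR : w ∈ R := w'.2
  have hwl : w ^ l = 1 := congrArg Subtype.val (hAe w' hw'A)
  have hwx : w * x = x * w := hxc w hwR
  have hwne : w ∉ Subgroup.zpowers x := fun h => hw'x (by
    obtain ⟨k, hk⟩ := Subgroup.mem_zpowers_iff.mp h
    exact ⟨k, Subtype.ext hk⟩)
  have hwlx : w ^ orderOf x = 1 := by rw [hxo]; exact hwl
  haveI : (Subgroup.zpowers xR).Normal := ⟨fun v hv g => by
    obtain ⟨k, rfl⟩ := Subgroup.mem_zpowers_iff.mp hv
    rw [((show Commute g xR from Subtype.ext (hxc g g.2)).zpow_right k).eq, mul_inv_cancel_right]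
    exact Subgroup.zpow_mem _ (Subgroup.mem_zpowers xR) k⟩
  have hcomm : ∀ g ∈ R, g * w * g⁻¹ * w⁻¹ ∈ Subgroup.zpowers x := fun g hg => by
    obtain ⟨k, hk⟩ := Subgroup.mem_zpowers_iff.mp (comm_mem_of_card hR.isPGroup
      (Subgroup.zpowers_le.mpr hxA) (by rw [hAc, Nat.card_zpowers, hxRo, pow_two]) (⟨g, hg⟩ : R) hw'A)
    exact ⟨k, congrArg Subtype.val hk⟩
  have hxz : ∀ {z : G}, z ∈ Subgroup.zpowers x → ∀ c ∈ R, c * z = z * c := fun {z} hz c hc => by
    obtain ⟨k, rfl⟩ := Subgroup.mem_zpowers_iff.mp hz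
    exact ((show Commute c x from hxc c hc).zpow_right k).eq
  -- the commutator with `w` is a homomorphism
  let χ : G → G := fun g => g * w * g⁻¹ * w⁻¹
  have hχmul : ∀ g ∈ R, ∀ h ∈ R, χ (g * h) = χ h * χ g := fun g hg h hh => by
    calc χ (g * h) = g * χ h * (w * g⁻¹ * w⁻¹) := by simp only [χ]; group
      _ = χ h * g * (w * g⁻¹ * w⁻¹) := by rw [hxz (hcomm h hh) g hg]
      _ = χ h * χ g := by simp only [χ]; group
  have hχ1 : χ 1 = 1 := by simp [χ]
  have hχpow : ∀ g ∈ R, ∀ n : ℕ, χ (g ^ n) = χ g ^ n := fun g hg n => by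
    induction n with
    | zero => simp [hχ1]
    | succ n ih => rw [pow_succ, hχmul _ (pow_mem hg n) _ hg, ih, pow_succ']
  have hχiff : ∀ g : G, χ g = 1 ↔ g * w = w * g := fun g => by
    show g * w * g⁻¹ * w⁻¹ = 1 ↔ _
    rw [mul_inv_eq_one, mul_inv_eq_iff_eq_mul]
  set R2 : Subgroup G := R ⊓ Subgroup.centralizer ({w} : Set G) with hR2
  have hR2R : R2 ≤ R := inf_le_left
  have hmem2 : ∀ {g : G}, g ∈ R → (g ∈ R2 ↔ χ g = 1) := fun {g} hg =>
    ⟨fun h => (hχiff g).mpr (Subgroup.mem_centralizer_singleton_iff.mp h.2),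
      fun h => ⟨hg, Subgroup.mem_centralizer_singleton_iff.mpr ((hχiff g).mp h)⟩⟩
  have hconj2 : ∀ g ∈ R, ∀ v ∈ R2, g * v * g⁻¹ ∈ R2 := fun g hg v hv => by
    refine (hmem2 (mul_mem (mul_mem hg (hR2R hv)) (inv_mem hg))).mpr ?_
    rw [hχmul _ (mul_mem hg (hR2R hv)) _ (inv_mem hg), hχmul _ hg _ (hR2R hv), (hmem2 (hR2R hv)).mp hv, one_mul,
      ← hχmul _ hg _ (inv_mem hg), mul_inv_cancel, hχ1]
  have hsplit : ∀ c ∈ R, c ∉ R2 → ∀ r ∈ R, ∃ i < l, ∃ v ∈ R2, r = v * c ^ i := by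
    intro c hc hc2 r hr
    have hne : χ c ≠ 1 := fun e => hc2 ((hmem2 hc).mpr e)
    have hord : orderOf (χ c) = l := by
      refine orderOf_eq_prime ?_ hne
      obtain ⟨k, hk⟩ := Subgroup.mem_zpowers_iff.mp (hcomm c hc)
      show χ c ^ l = 1
      rw [show χ c = x ^ k from hk.symm, ← zpow_natCast, ← zpow_mul, mul_comm, zpow_mul, zpow_natCast, ← hxo,
        pow_orderOf_eq_one, one_zpow]
    have hmem : χ r ∈ Subgroup.zpowers (χ c) :=
      Subgroup.zpowers_le.mpr (zpowers_le_of_mem hxp (hcomm c hc) hne) (hcomm r hr)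
    obtain ⟨i, hi, hi'⟩ := exists_pow_lt (by rw [hord]; exact hl.pos) hmem
    have hv : r * (c ^ i)⁻¹ ∈ R := mul_mem hr (inv_mem (pow_mem hc i))
    refine ⟨i, hord ▸ hi, _, (hmem2 hv).mpr ?_, (inv_mul_cancel_right r (c ^ i)).symm⟩
    have h := hχmul _ hv _ (pow_mem hc i)
    rw [inv_mul_cancel_right, hχpow c hc, ← hi'] at h
    exact left_eq_mul.mp h
  -- the centraliser of a good line lies in the derived group
  obtain ⟨⟨i0, hyo, hy4⟩, hxW', -⟩ := lines_of_pair hF hNB hFr hBel hnc hx hxW (hRW hwR) hwlx hwx hwne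
  set y := w * x ^ i0 with hy
  have hyR : y ∈ R := mul_mem hwR (pow_mem hxR i0)
  have hxR2 : x ∈ R2 := ⟨hxR, Subgroup.mem_centralizer_singleton_iff.mpr hwx.symm⟩
  have hR2y : ∀ {i : ℕ}, ∀ v ∈ R2, v * (w * x ^ i) = w * x ^ i * v := fun {i} v hv =>
    ((show Commute v w from Subgroup.mem_centralizer_singleton_iff.mp hv.2).mul_right
      ((show Commute v x from hxc v (hR2R hv)).pow_right i)).eq
  have hR2W' : R2 ≤ ⁅W, W⁆ := le_commutator_of_central hF hNB hFr hBel hnc hx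
    (hxo ▸ hR.isPGroup.to_le hR2R) (hR2R.trans hRW) hxR2 (hRW hyR) hyo hy4 (hR2y (i := i0))
  have hlW' : ∀ z ∈ R, z ^ l = 1 → z ∈ ⁅W, W⁆ := fun z hz hzl => by
    by_cases h : z ∈ Subgroup.zpowers x
    · exact Subgroup.zpowers_le.mpr hxW' h
    · exact (lines_of_pair hF hNB hFr hBel hnc hx hxW (hRW hz) (by rw [hxo]; exact hzl) (hxc z hz) h).2.2
  by_cases hout : ∃ r ∈ R, r ∉ R2 ∧ r ^ l = 1
  · obtain ⟨r, hr, hr2, hrl⟩ := hout
    intro g hg
    obtain ⟨i, -, v, hv, rfl⟩ := hsplit r hr hr2 g hg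
    exact mul_mem (hR2W' hv) (pow_mem (hlW' r hr hrl) i)
  push Not at hout
  -- what acts as powers of `x` on each good line
  have hline : ∀ v ∈ R2, ∀ i : ℕ, ∀ f ∈ F, f * (w * x ^ i) = w * x ^ i * f → f ≠ 1 →
      ∃ k : ℕ, ∀ f' ∈ F, f' * (w * x ^ i) = w * x ^ i * f' → v * f' * v⁻¹ = x ^ k * f' * (x ^ k)⁻¹ := by
    intro v hv i f hf hfc hf1
    have hne : w * x ^ i ≠ 1 := fun e => hwne (by
      rw [eq_inv_of_mul_eq_one_left e]
      exact inv_mem (pow_mem (Subgroup.mem_zpowers x) i))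
    have hp : (orderOf (w * x ^ i)).Prime := by
      rw [orderOf_eq_prime (p := l) ?_ hne]
      · exact hl
      · rw [((show Commute w x from hwx).pow_right i).mul_pow, hwl, ← pow_mul, mul_comm, pow_mul, ← hxo,
          pow_orderOf_eq_one, one_pow, one_mul]
    have hmemC : w * x ^ i ∈ C := mul_mem (hRC hwR) (pow_mem (hRC hxR) i)
    have hN : ∀ z ∈ R2, z ∈ Subgroup.normalizer (Subgroup.zpowers (w * x ^ i) : Set G) := fun z hz =>
      mem_normalizer_of_conj fun z' hz' => by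
        obtain ⟨j, rfl⟩ := Subgroup.mem_zpowers_iff.mp hz'
        rw [((show Commute z (w * x ^ i) from hR2y z hz).zpow_right j).eq, mul_inv_cancel_right]
        exact Subgroup.zpow_mem _ (Subgroup.mem_zpowers _) j
    obtain ⟨-, hgal⟩ := galois hF hNB hBel hFr hmemC hp
      ((Frame.four_iff hF hNB hFr hmemC hp).mpr ⟨f, hf, hf1, hfc⟩) hx (hN x hxR2)
    exact hgal v (hRC (hR2R hv)) (hN v hv)
  have htriv : ∀ e ∈ R, (∀ i : ℕ, ∀ f ∈ F, f * (w * x ^ i) = w * x ^ i * f → f ≠ 1 → e * f = f * e) → e = 1 := by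
    intro e he h
    by_contra hne
    refine hnc (Frame.commAt_of_cent hF hNB hFr hBel (hRC he) hne ?_)
    refine Frame.commute_of_lines hF hNB hFr hx (hRC hwR) hwlx hwx fun i _ f hf hfc => ?_
    rcases eq_or_ne f 1 with rfl | hf1
    · rw [mul_one, one_mul]
    · exact h i f hf hfc hf1
  have hfix : ∀ i : ℕ, ∀ v ∈ R2, ∀ f ∈ F, f * (w * x ^ i) = w * x ^ i * f →
      (v * f * v⁻¹) * (w * x ^ i) = w * x ^ i * (v * f * v⁻¹) := fun i v hv f hf hfc =>
    (((show Commute v (w * x ^ i) from hR2y v hv).mul_left (show Commute f (w * x ^ i) from hfc)).mul_left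
      (show Commute v (w * x ^ i) from hR2y v hv).inv_left).eq
  have hexp : ∀ v ∈ R2, v ^ l = 1 := by
    intro v hv
    refine htriv _ (pow_mem (hR2R hv) l) fun i f hf hfc hf1 => ?_
    obtain ⟨k, hk⟩ := hline v hv i f hf hfc hf1
    have h : ∀ n : ℕ, v ^ n * f * (v ^ n)⁻¹ = x ^ (k * n) * f * (x ^ (k * n))⁻¹ := by
      intro n
      induction n with
      | zero => simp
      | succ n ih =>
        have hF' : v ^ n * f * (v ^ n)⁻¹ ∈ F :=
          Frame.conj_F_of_C hF hNB hFr (pow_mem (hRC (hR2R hv)) n) hf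
        have hc' := hfix i _ (pow_mem hv n) f hf hfc
        calc v ^ (n + 1) * f * (v ^ (n + 1))⁻¹ = v * (v ^ n * f * (v ^ n)⁻¹) * v⁻¹ := by rw [pow_succ']; group
          _ = x ^ k * (v ^ n * f * (v ^ n)⁻¹) * (x ^ k)⁻¹ := hk _ hF' hc'
          _ = x ^ (k * (n + 1)) * f * (x ^ (k * (n + 1)))⁻¹ := by
            rw [ih, show k * (n + 1) = k + k * n by ring, pow_add]; group
    have h1 := h l
    rw [show x ^ (k * l) = 1 by rw [mul_comm, pow_mul, ← hxo, pow_orderOf_eq_one, one_pow], one_mul, inv_one,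
      mul_one] at h1
    exact mul_inv_eq_iff_eq_mul.mp h1
  have hab2 : ∀ v ∈ R2, ∀ v' ∈ R2, v * v' = v' * v := by
    intro v hv v' hv'
    have hR' : v * v' * v⁻¹ * v'⁻¹ ∈ R :=
      mul_mem (mul_mem (mul_mem (hR2R hv) (hR2R hv')) (inv_mem (hR2R hv))) (inv_mem (hR2R hv'))
    refine mul_inv_eq_iff_eq_mul.mp (mul_inv_eq_one.mp (htriv _ hR' fun i f hf hfc hf1 => ?_))
    obtain ⟨k, hk⟩ := hline v hv i f hf hfc hf1
    obtain ⟨k', hk'⟩ := hline v' hv' i f hf hfc hf1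
    have hxk : ∀ n : ℕ, x ^ n ∈ R2 := fun n => pow_mem hxR2 n
    have hFx : ∀ n : ℕ, ∀ g ∈ F, x ^ n * g * (x ^ n)⁻¹ ∈ F := fun n g hg =>
      Frame.conj_F_of_C hF hNB hFr (pow_mem (hRC hxR) n) hg
    have e1 : v * v' * f * (v * v')⁻¹ = x ^ (k + k') * f * (x ^ (k + k'))⁻¹ := by
      calc v * v' * f * (v * v')⁻¹ = v * (v' * f * v'⁻¹) * v⁻¹ := by group
        _ = v * (x ^ k' * f * (x ^ k')⁻¹) * v⁻¹ := by rw [hk' f hf hfc]
        _ = x ^ k * (x ^ k' * f * (x ^ k')⁻¹) * (x ^ k)⁻¹ :=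
          hk _ (hFx k' f hf) (hfix i _ (hxk k') f hf hfc)
        _ = x ^ (k + k') * f * (x ^ (k + k'))⁻¹ := by rw [pow_add]; group
    have e2 : v' * v * f * (v' * v)⁻¹ = x ^ (k + k') * f * (x ^ (k + k'))⁻¹ := by
      calc v' * v * f * (v' * v)⁻¹ = v' * (v * f * v⁻¹) * v'⁻¹ := by group
        _ = v' * (x ^ k * f * (x ^ k)⁻¹) * v'⁻¹ := by rw [hk f hf hfc]
        _ = x ^ k' * (x ^ k * f * (x ^ k)⁻¹) * (x ^ k')⁻¹ :=
          hk' _ (hFx k f hf) (hfix i _ (hxk k) f hf hfc)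
        _ = x ^ (k + k') * f * (x ^ (k + k'))⁻¹ := by rw [add_comm, pow_add]; group
    obtain ⟨n1, hn1⟩ : ∃ g1 : G, g1 = v * v' * v⁻¹ * v'⁻¹ := ⟨_, rfl⟩
    have hcon : n1 * (v' * v * f * (v' * v)⁻¹) * n1⁻¹ = v * v' * f * (v * v')⁻¹ := by rw [hn1]; group
    rw [e1, e2] at hcon
    have hcx : Commute n1 (x ^ (k + k')) := ((show Commute n1 x from hxc n1 (hn1 ▸ hR')).pow_right _)
    have : x ^ (k + k') * (n1 * f * n1⁻¹) * (x ^ (k + k'))⁻¹ = x ^ (k + k') * f * (x ^ (k + k'))⁻¹ := by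
      refine Eq.trans ?_ hcon
      calc x ^ (k + k') * (n1 * f * n1⁻¹) * (x ^ (k + k'))⁻¹
          = (x ^ (k + k') * n1) * f * (x ^ (k + k') * n1)⁻¹ := by group
        _ = n1 * (x ^ (k + k') * f * (x ^ (k + k'))⁻¹) * n1⁻¹ := by rw [← hcx.eq]; group
    rw [← hn1]
    exact mul_inv_eq_iff_eq_mul.mp (mul_left_cancel (mul_right_cancel this))
  have hpow : ∀ c ∈ R, c ∉ R2 → c ^ l ∈ R2 := fun c hc _ => (hmem2 (pow_mem hc l)).mpr (by
    rw [hχpow c hc]
    obtain ⟨k, hk⟩ := Subgroup.mem_zpowers_iff.mp (hcomm c hc)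
    rw [show χ c = x ^ k from hk.symm, ← zpow_natCast, ← zpow_mul, mul_comm, zpow_mul, zpow_natCast, ← hxo,
      pow_orderOf_eq_one, one_zpow])
  have hRl : ∀ r ∈ R, r ^ l ∈ Subgroup.zpowers x := by
    intro r hr
    by_cases h2 : r ∈ R2
    · rw [hexp r h2]
      exact one_mem _
    refine hcent _ (pow_mem hr l) (hexp _ (hpow r hr h2)) fun g hg => ?_
    obtain ⟨i, -, v, hv, rfl⟩ := hsplit r hr h2 g hg
    exact ((show Commute v (r ^ l) from hab2 v hv _ (hpow r hr h2)).mul_left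
      ((Commute.refl r).pow_pow i l)).eq
  -- the power map is constant on cosets
  have hcoset : ∀ c ∈ R, c ∉ R2 → ∀ v ∈ R2, (v * c) ^ l = c ^ l := by
    intro c hc hc2
    let Φ : ℕ → G → G := fun n v => (v * c) ^ n * (c ^ n)⁻¹
    have hΦs : ∀ n v, Φ (n + 1) v = v * (c * Φ n v * c⁻¹) := fun n v => by
      simp only [Φ, pow_succ']; group
    have hΦ : ∀ n, ∀ v ∈ R2, Φ n v ∈ R2 ∧ ∀ v' ∈ R2, Φ n (v * v') = Φ n v * Φ n v' := by
      intro n
      induction n with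
      | zero => exact fun v _ => ⟨by simp [Φ], fun v' _ => by simp [Φ]⟩
      | succ n ih =>
        refine fun v hv => ⟨by rw [hΦs]; exact mul_mem hv (hconj2 c hc _ (ih v hv).1), fun v' hv' => ?_⟩
        rw [hΦs, hΦs, hΦs, (ih v hv).2 v' hv']
        have h := hab2 v' hv' _ (hconj2 c hc _ (ih v hv).1)
        calc v * v' * (c * (Φ n v * Φ n v') * c⁻¹) = v * (v' * (c * Φ n v * c⁻¹)) * (c * Φ n v' * c⁻¹) := by group
          _ = v * ((c * Φ n v * c⁻¹) * v') * (c * Φ n v' * c⁻¹) := by rw [h]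
          _ = v * (c * Φ n v * c⁻¹) * (v' * (c * Φ n v' * c⁻¹)) := by group
    have hΦpow : ∀ v ∈ R2, ∀ m : ℕ, Φ l (v ^ m) = Φ l v ^ m := fun v hv m => by
      induction m with
      | zero => simp [Φ]
      | succ m ih => rw [pow_succ, (hΦ l _ (pow_mem hv m)).2 v hv, ih, pow_succ]
    intro v hv
    have hΦx : Φ l v ∈ Subgroup.zpowers x :=
      mul_mem (hRl _ (mul_mem (hR2R hv) hc)) (inv_mem (hRl c hc))
    by_contra hne
    have hΦ1 : Φ l v ≠ 1 := fun e => hne (mul_inv_eq_one.mp e)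
    have hmem : (c ^ l)⁻¹ ∈ Subgroup.zpowers (Φ l v) :=
      Subgroup.zpowers_le.mpr (zpowers_le_of_mem hxp hΦx hΦ1) (inv_mem (hRl c hc))
    obtain ⟨m, hm⟩ := (isOfFinOrder_of_finite _).mem_powers_iff_mem_zpowers.mpr hmem
    change Φ l v ^ m = (c ^ l)⁻¹ at hm
    rw [← hΦpow v hv m] at hm
    refine hout (v ^ m * c) (mul_mem (hR2R (pow_mem hv m)) hc) (fun h => hc2 ?_) (mul_eq_right.mp hm)
    simpa using mul_mem (inv_mem (pow_mem hv m)) h
  -- transfer
  obtain ⟨c, hc, hc2⟩ : ∃ c ∈ R, c ∉ R2 := by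
    by_contra h
    push Not at h
    exact hwne (hcent w hwR hwl fun g hg => Subgroup.mem_centralizer_singleton_iff.mp (h g hg).2)
  set z0 := c ^ l with hz0
  have hz0x : z0 ∈ Subgroup.zpowers x := hRl c hc
  have hz01 : z0 ≠ 1 := hout c hc hc2
  have hz0W' : z0 ∈ ⁅W, W⁆ := Subgroup.zpowers_le.mpr hxW' hz0x
  have hz0o : orderOf z0 = l := orderOf_eq_prime (hexp _ (hpow c hc hc2)) hz01
  have hrpow : ∀ r ∈ R, r ∉ R2 → ∃ i : ℕ, ∃ v ∈ R2, r = v * c ^ i ∧ r ^ l = z0 ^ i := by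
    intro r hr hr2
    obtain ⟨i, hi, v, hv, rfl⟩ := hsplit c hc hc2 r hr
    have hci : c ^ i ∉ R2 := fun h => hr2 (mul_mem hv h)
    exact ⟨i, v, hv, rfl, by rw [hcoset _ (pow_mem hc i) hci v hv, ← pow_mul, mul_comm, pow_mul]⟩
  have hcW : c ∈ W := hRW hc
  suffices hcW' : c ∈ ⁅W, W⁆ by
    intro g hg
    obtain ⟨i, -, v, hv, rfl⟩ := hsplit c hc hc2 g hg
    exact mul_mem (hR2W' hv) (pow_mem hcW' i)
  have hcl2 : c ^ l ^ 2 = 1 := by rw [pow_two, pow_mul, hexp _ (hpow c hc hc2)]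
  refine mem_commutator_of_key hF hNB hBel hFr hl hcW hcl2
    (hxo ▸ hyo ▸ not_dvd_index hF hNB hBel hFr (hyo.trans hxo ▸ hl) (hRW hyR) rfl hy4) ?_
  intro θ hθ k g₀ h
  let D₀ : Subgroup (kSub (G := G) a F) := (two a b).subgroupOf (kSub a F)
  have hθconj : ∀ (e g : D₀), θ (g⁻¹ * e * g) = θ e := fun e g => by
    rw [map_mul, map_mul, map_inv, mul_comm (θ g)⁻¹, inv_mul_cancel_right]
  have hof : ∀ v : W, (v : G) ∈ ⁅W, W⁆ → Abelianization.of v = 1 := fun v hv => by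
    rw [← Subgroup.map_subtype_commutator W] at hv
    obtain ⟨v', hv', he⟩ := hv
    rw [← show v' = v from Subtype.ext he]
    exact (Abelianization.ker_of (G := W) ▸ hv' : v' ∈ (Abelianization.of : W →* _).ker)
  have hθW : ∀ (d : D₀) (v : W), ((d : kSub (G := G) a F) : G) = v → θ d = Abelianization.of v := fun d v e =>
    hθ d v (by rw [e, mul_inv_cancel]; exact one_mem F)
  have hofc : Abelianization.of (⟨c, hcW⟩ : W) ^ l = 1 := by
    rw [← map_pow]
    exact hof _ hz0W'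
  set e : kSub (G := G) a F := g₀⁻¹ * (⟨c, hcW.2⟩ : kSub (G := G) a F) ^ k * g₀ with he
  have heG : (e : G) = (g₀ : G)⁻¹ * c ^ k * g₀ := by rw [he]; push_cast; rfl
  have hed : (c ^ k) • (g₀ : G) • b = (g₀ : G) • b := by
    have h' := (mem_two.mp (Subgroup.mem_subgroupOf.mp h)).2
    rw [heG, mul_smul, mul_smul, inv_smul_eq_iff] at h'
    exact h'
  have hep : (e : G) ^ l ^ 2 = 1 := by
    rw [heG, show ((g₀ : G))⁻¹ * c ^ k * g₀ = (g₀ : G)⁻¹ * c ^ k * ((g₀ : G)⁻¹)⁻¹ by rw [inv_inv], conj_pow,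
      ← pow_mul, mul_comm, pow_mul, hcl2, one_pow, mul_one, mul_inv_cancel]
  obtain ⟨h', hh', hr⟩ := exists_conj_mem (hxo ▸ maxP_two hF hNB hBel hFr hx (hxo.symm ▸ hR))
    (e := (e : G)) (Subgroup.mem_inf.mpr ⟨Subgroup.mem_subgroupOf.mp h, e.2⟩) hep
  set r := h' * (e : G) * h'⁻¹ with hrdef
  let hD : D₀ := ⟨⟨h', hh'.2⟩, hh'.1⟩
  by_cases hlk : l ∣ k
  · obtain ⟨m, rfl⟩ := hlk
    have hrl : r ^ l = 1 := by
      rw [hrdef, conj_pow, heG, show ((g₀ : G))⁻¹ * c ^ (l * m) * g₀ =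
        (g₀ : G)⁻¹ * c ^ (l * m) * ((g₀ : G)⁻¹)⁻¹ by rw [inv_inv], conj_pow, ← pow_mul,
        show l * m * l = l ^ 2 * m by ring, pow_mul, hcl2, one_pow]
      simp
    calc θ ⟨e, h⟩ = θ (hD⁻¹⁻¹ * ⟨e, h⟩ * hD⁻¹) := (hθconj _ _).symm
      _ = Abelianization.of (⟨r, hRW hr⟩ : W) := hθW _ _ (by simp [hrdef, hD])
      _ = 1 := hof _ (hlW' r hr hrl)
      _ = _ := by rw [pow_mul, hofc, one_pow]
  -- the conjugating element normalises `x`
  set g' := (g₀ : G) * h'⁻¹ with hg'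
  have hg'r : g'⁻¹ * c ^ k * g' = r := by rw [hg', hrdef, heG]; group
  have hz0k : z0 ^ k ≠ 1 := fun e => hlk (hz0o ▸ orderOf_dvd_of_pow_eq_one e)
  have hgn : g'⁻¹ * x * g' ∈ Subgroup.zpowers x := by
    obtain ⟨j, hj⟩ := Subgroup.mem_zpowers_iff.mp
      (zpowers_le_of_mem hxp (pow_mem hz0x k) hz0k)
    have hrl := hRl r hr
    rw [← hg'r, show g'⁻¹ * c ^ k * g' = g'⁻¹ * c ^ k * g'⁻¹⁻¹ by rw [inv_inv], conj_pow, ← pow_mul, mul_comm,
      pow_mul, ← hz0] at hrl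
    have h2 := Subgroup.zpow_mem _ hrl j
    rwa [conj_zpow, hj, inv_inv] at h2
  obtain ⟨g'', hg''K, hg''x, hg''b⟩ := exists_cent_move hF hNB hBel hFr hx (hRW hyR) hyo hy4
    (hxc y hyR).symm.symm (mul_mem g₀.2 (inv_mem hh'.2)) hgn
  have hb' : g'' • b = (g₀ : G) • b := by
    rw [hg''b]
    show ((g₀ : G) * h'⁻¹) • b = _
    rw [mul_smul, inv_smul_eq_iff.mpr (mem_two.mp hh'.1).2.symm]
  set t := g''⁻¹ * c ^ k * g'' with ht
  have htx : t * x = x * t :=
    ((((show Commute g'' x from hg''x).inv_left).mul_left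
      ((show Commute c x from hxc c hc).pow_left k)).mul_left (show Commute g'' x from hg''x)).eq
  have htK : t ∈ kSub a F := mul_mem (mul_mem (inv_mem hg''K) (pow_mem hcW.2 k)) hg''K
  have htD : t ∈ two a b := mem_two.mpr ⟨kSub_fix hF hNB hBel hFr htK, by
    rw [ht, mul_smul, mul_smul, hb', hed, inv_smul_eq_iff, hb']⟩
  have htW : t ∈ W := mem_wSub_of_commute hF hNB hBel hFr hx htD htK htx
  have ht2 : t ^ l ^ 2 = 1 := by
    rw [ht, show g''⁻¹ * c ^ k * g'' = g''⁻¹ * c ^ k * g''⁻¹⁻¹ by rw [inv_inv], conj_pow, ← pow_mul, mul_comm,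
      pow_mul, hcl2, one_pow, mul_one, mul_inv_cancel]
  have hcz : ∀ {g : G}, g * x = x * g → ∀ {z : G}, z ∈ Subgroup.zpowers x → g * z = z * g := fun {g} hg {z} hz => by
    obtain ⟨j, rfl⟩ := Subgroup.mem_zpowers_iff.mp hz
    exact ((show Commute g x from hg).zpow_right j).eq
  have htl : t ^ l = z0 ^ k := by
    rw [ht, show g''⁻¹ * c ^ k * g'' = g''⁻¹ * c ^ k * g''⁻¹⁻¹ by rw [inv_inv], conj_pow, ← pow_mul, mul_comm,
      pow_mul, ← hz0, inv_inv, mul_assoc, ← hcz hg''x (pow_mem hz0x k), inv_mul_cancel_left]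
  obtain ⟨h2, hh2, hr2⟩ := exists_conj_mem (hR.of_le (inf_le_left : W ⊓ Subgroup.centralizer ({x} : Set G) ≤ W)
    (le_inf hRW fun v hv => Subgroup.mem_centralizer_singleton_iff.mpr (hxc v hv)))
    (e := t) ⟨htW, Subgroup.mem_centralizer_singleton_iff.mpr htx⟩ ht2
  have hr2l : (h2 * t * h2⁻¹) ^ l = z0 ^ k := by
    rw [conj_pow, htl, hcz (Subgroup.mem_centralizer_singleton_iff.mp hh2.2) (pow_mem hz0x k),
      mul_inv_cancel_right]
  obtain ⟨i, v, hv, hr2e, hr2i⟩ := hrpow _ hr2 fun h => hz0k (by rw [← hr2l]; exact hexp _ h)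
  have hik : i % l = k % l := by
    have := (isOfFinOrder_of_finite z0).pow_eq_pow_iff_modEq.mp (hr2i.symm.trans hr2l)
    rwa [hz0o] at this
  let d' : D₀ := ⟨(⟨g'', hg''K⟩ : kSub (G := G) a F)⁻¹ * g₀,
    kSub_mem_two hF hNB hBel hFr (by push_cast; rw [mul_smul, inv_smul_eq_iff, hb'])⟩
  let tD : D₀ := ⟨⟨t, htK⟩, htD⟩
  calc θ ⟨e, h⟩ = θ (d'⁻¹ * tD * d') := congrArg θ (Subtype.ext (Subtype.ext (by
        show (e : G) = (g''⁻¹ * (g₀ : G))⁻¹ * t * (g''⁻¹ * (g₀ : G))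
        rw [heG]
        simp only [t]
        group)))
    _ = Abelianization.of (⟨t, htW⟩ : W) := (hθconj _ _).trans (hθW _ _ rfl)
    _ = Abelianization.of (⟨h2, hh2.1⟩ * ⟨t, htW⟩ * ⟨h2, hh2.1⟩⁻¹ : W) := by
      rw [map_mul, map_mul, map_inv, eq_mul_inv_iff_mul_eq, mul_comm]
    _ = Abelianization.of ((⟨v, hRW (hR2R hv)⟩ : W) * (⟨c, hcW⟩ : W) ^ i) :=
      congrArg _ (Subtype.ext hr2e)
    _ = _ := by
      rw [map_mul, map_pow, hof _ (hR2W' hv), one_mul, pow_eq_pow_mod i hofc, hik, ← pow_eq_pow_mod k hofc]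

/-- A prime dividing the index of the derived group of `W` has cyclic maximal subgroups, whose elements of
prime order have rank one. -/
theorem sylow_cyclic {l : ℕ} (hl : l.Prime)
    (hdvd : l ∣ ((⁅wSub a F C, wSub a F C⁆).subgroupOf (wSub a F C)).index) {R : Subgroup G}
    (hR : MaxP l (wSub a F C) R) :
    IsCyclic R ∧ ∀ z ∈ R, orderOf z = l → RankOneElt a b u z := by
  classical
  haveI := Fact.mk hl
  set W := wSub a F C with hW
  have hnle : ¬ R ≤ ⁅W, W⁆ := fun hle => by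
    set N := (⁅W, W⁆).subgroupOf W
    have h1 : l ^ (Nat.card W).factorization l ∣ Nat.card N := by
      rw [← hR.card]
      have := Subgroup.card_dvd_of_le (show R.subgroupOf W ≤ N from fun v hv => hle hv)
      rwa [Nat.card_congr (Subgroup.subgroupOfEquivOfLe hR.le).toEquiv] at this
    have h2 : l ^ ((Nat.card W).factorization l + 1) ∣ Nat.card W := by
      rw [pow_succ]
      exact (mul_dvd_mul h1 hdvd).trans (dvd_of_eq N.card_mul_index)
    exact absurd ((hl.pow_dvd_iff_le_factorization Nat.card_pos.ne').mp h2) (by omega)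
  have hcyc : IsCyclic R := by_contra fun h => hnle (le_commutator_of_not_cyclic hF hNB hBel hFr hnc hl hR h)
  refine ⟨hcyc, fun z hz hzo => ?_⟩
  refine (Frame.good_or_elt hF hNB hFr (hR.le hz).1 (by rw [hzo]; exact hl)).resolve_left fun h4 => hnle ?_
  refine le_commutator_of_good hF hNB hBel hFr hnc hl hR fun v hv hvo => ?_
  -- in a cyclic group the subgroups of order `l` coincide
  obtain ⟨gen, hgen⟩ := IsCyclic.exists_generator (α := R)
  obtain ⟨j, hj⟩ := Subgroup.mem_zpowers_iff.mp (mem_zpowers_of_prime (p := l) (hgen ⟨z, hz⟩) (hgen ⟨v, hv⟩)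
    (by rw [← Subgroup.orderOf_coe]; exact hzo) (Subtype.ext (show v ^ l = 1 by rw [← hvo, pow_orderOf_eq_one])))
  obtain ⟨f, hf, hf1, hfz⟩ := (Frame.four_iff hF hNB hFr (hR.le hz).1 (by rw [hzo]; exact hl)).mp h4
  refine (Frame.four_iff hF hNB hFr (hR.le hv).1 (by rw [hvo]; exact hl)).mpr ⟨f, hf, hf1, ?_⟩
  rw [show v = z ^ j from (congrArg Subtype.val hj).symm]
  exact ((show Commute f z from hfz).zpow_right j).eq

end Groups

end CfsgLib.Bender.NC
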