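import Cfsg.Agent.Lib.Bender.FromB1.NC.Main
import Cfsg.Agent.Lib.Bender.FromB1.NC.Sylow
import Cfsg.Agent.Lib.Bender.FromB1.NC.CaseSpecial

/-!
The non-commuting case is impossible.

Blueprint: `blueprint/bender/A5c_audit.md`.
-/

set_option autoImplicit false
set_option linter.unusedSectionVars false

namespace CfsgLib.Bender.NC

open MulAction Cfsg CfsgLib.Bender CfsgLib.Bender.OneFix CfsgLib.Bender.TwoClosed
open CfsgLib.Bender.B1 (FourIn)

universe u

variable {G Ω : Type u} [Group G] [MulAction G Ω] [Finite G] [FaithfulSMul G Ω] (hF : OneFix G Ω)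
  (hNB : NoBad G Ω) (hBel : B1.Below.{u} (Nat.card G))
include hF hNB hBel

/-- A frame forces the involutions at its point to commute. -/
theorem false_of_frame {a b : Ω} {u : G} {F C : Subgroup G} (hFr : Frame a b u F C) (hnc : ¬ CommAt G a) : False := by
  have hAb : AbRankOne a b u F C := fun l hl hdvd R hR => sylow_cyclic hF hNB hBel hFr hnc hl hdvd hR
  by_cases hCores : FaithCores F C
  · exact false_of_faithCores hF hNB hBel hFr hCores hnc hAb
  · exact false_of_not_faithCores hF hNB hBel hFr hnc hAb hCores

/-- An element of rank one forces the involutions at its point to commute. -/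
theorem commAt_of_rankOne {a b : Ω} (hab : b ≠ a) {x : G} (hx : x ∈ two a b) (hp : (orderOf x).Prime)
    (h3 : Third a b x) (h4 : ¬ FourIn (Subgroup.centralizer (Subgroup.zpowers x : Set G))) : CommAt G a := by
  by_contra hnc
  obtain ⟨u, F, C, hFr⟩ := exists_frame hF hNB hBel hab hx hp h3 h4
  exact false_of_frame hF hNB hBel hFr hnc

end CfsgLib.Bender.NC
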