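import Cfsg.Agent.Lib.Bender.FromB1.NC.Basics

/-!
The trick: a fixed-point-free twisted group of operators acts trivially.

Blueprint: `blueprint/bender/A5b.md`, section 1c.
-/

set_option autoImplicit false
set_option linter.unusedSectionVars false
set_option linter.style.haveILetI false
set_option linter.unusedVariables false

namespace CfsgLib.Bender.NC

open MulAction Cfsg CfsgLib.Bender CfsgLib.Bender.OneFix CfsgLib.Bender.TwoClosed

universe u

/-- A finite group of operators normalised fixed-point-freely by an operator of even order `2 k`, whose square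
fixes nothing more than it does itself, acts trivially. -/
theorem trick {V : Type*} [AddCommGroup V] {P : Type*} [Group P] [Finite P] (hV : Odd (Nat.card V))
    (ρ : P →* AddMonoid.End V) (g : AddMonoid.End V) (σ : P →* P) {k : ℕ} (hk0 : k ≠ 0) (hk : g ^ (2 * k) = 1)
    (hσ : ∀ h, g * ρ h = ρ (σ h) * g) (hfix : ∀ j, 0 < j → j < 2 * k → ∀ h, (σ^[j]) h = h → h = 1)
    (hg : ∀ v, g (g v) = v → g v = v) (hcop : (Nat.card P).Coprime (Nat.card V)) (h : P) (v : V) :
    ρ h v = v := by
  classical
  haveI : Finite V := Nat.finite_of_card_ne_zero fun e => by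
    rw [e] at hV
    exact absurd hV (by decide)
  haveI := Fintype.ofFinite P
  set a : AddMonoid.End V := -g with ha
  set T := ∑ j ∈ Finset.range (2 * k), a ^ j with hT
  have hak : a ^ (2 * k) = 1 := by rw [ha, Even.neg_pow (even_two_mul k), hk]
  -- the alternating sum vanishes
  have hT0 : T = 0 := by
    have h1 : (a - 1) * T = 0 := by rw [hT, mul_geom_sum, hak, sub_self]
    refine DFunLike.ext _ _ fun w => ?_
    have h2 : -(g (T w)) = T w := by
      have := DFunLike.congr_fun h1 w
      rw [sub_mul, one_mul] at this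
      exact sub_eq_zero.mp this
    have h3 : g (T w) = -(T w) := neg_eq_iff_eq_neg.mp h2
    have h4 : g (T w) = T w := hg _ (by rw [h3, map_neg, h3, neg_neg])
    have h5 : addOrderOf (T w) ∣ 2 := by
      apply addOrderOf_dvd_of_nsmul_eq_zero
      rw [two_nsmul]
      nth_rewrite 1 [← h4]
      rw [h3, neg_add_cancel]
    exact AddMonoid.addOrderOf_eq_one_iff.mp
      (Nat.eq_one_of_dvd_coprimes (Nat.coprime_two_left.mpr (hV.of_dvd_nat (addOrderOf_dvd_natCard _))) h5
        (dvd_refl _))
  have hgj : ∀ (j : ℕ) (h : P), a ^ j * ρ h = ρ ((σ^[j]) h) * a ^ j := by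
    intro j
    induction j with
    | zero => simp
    | succ j ih =>
      intro h
      rw [pow_succ, mul_assoc, show a * ρ h = ρ (σ h) * a by rw [ha, neg_mul, mul_neg, hσ], ← mul_assoc, ih,
        mul_assoc, Function.iterate_succ_apply]
  set S := ∑ h : P, ρ h with hS
  have hterm : ∀ j ∈ Finset.range (2 * k), j ≠ 0 → ∑ h : P, ρ h * a ^ j * ρ h⁻¹ = S * a ^ j := by
    intro j hj hj0
    have hiter : ∀ x y : P, (σ^[j]) (x * y) = (σ^[j]) x * (σ^[j]) y := fun x y => iterate_map_mul σ j x y
    have hinj : Function.Injective fun h : P => h * (σ^[j]) h⁻¹ := fun x y e => by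
      have h1 : (σ^[j]) (y⁻¹ * x) = y⁻¹ * x := by
        simp only [iterate_map_inv] at e
        rw [hiter, iterate_map_inv]
        calc _ = y⁻¹ * (y * ((σ^[j]) y)⁻¹) * (σ^[j]) x := by group
          _ = y⁻¹ * (x * ((σ^[j]) x)⁻¹) * (σ^[j]) x := by rw [← e]
          _ = _ := by group
      exact (inv_mul_eq_one.mp (hfix j (Nat.pos_of_ne_zero hj0) (Finset.mem_range.mp hj) _ h1)).symm
    calc ∑ h : P, ρ h * a ^ j * ρ h⁻¹ = ∑ h : P, ρ (h * (σ^[j]) h⁻¹) * a ^ j := Finset.sum_congr rfl fun x _ => by
          rw [mul_assoc, hgj, ← mul_assoc, ← map_mul]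
      _ = ∑ h : P, ρ h * a ^ j :=
          Fintype.sum_bijective _ ⟨hinj, Finite.injective_iff_surjective.mp hinj⟩ _ _ fun _ => rfl
      _ = S * a ^ j := by rw [hS, Finset.sum_mul]
  have hcard : S = (Fintype.card P) • (1 : AddMonoid.End V) := by
    have e0 : ∑ x : P, ρ x * T * ρ x⁻¹ = 0 := by simp [hT0]
    simp only [hT, Finset.mul_sum, Finset.sum_mul] at e0
    rw [Finset.sum_comm, ← Finset.add_sum_erase _ _ (Finset.mem_range.mpr (by omega : 0 < 2 * k))] at e0
    have e1 : ∑ x : P, ρ x * a ^ 0 * ρ x⁻¹ = (Fintype.card P) • (1 : AddMonoid.End V) := by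
      simp [← map_mul, Finset.card_univ]
    have e2 : ∑ j ∈ (Finset.range (2 * k)).erase 0, ∑ x : P, ρ x * a ^ j * ρ x⁻¹ = -S := by
      rw [Finset.sum_congr rfl fun j hj =>
          hterm j (Finset.mem_of_mem_erase hj) (Finset.ne_of_mem_erase hj),
        ← Finset.mul_sum, Finset.sum_erase_eq_sub (Finset.mem_range.mpr (by omega : 0 < 2 * k)), ← hT, hT0, pow_zero,
        zero_sub, mul_neg, mul_one]
    rw [e1, e2, add_neg_eq_zero] at e0
    exact e0.symm
  have hS' : ρ h * S = S := by
    rw [hS, Finset.mul_sum]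
    exact Fintype.sum_bijective (h * ·) (Group.mulLeft_bijective h) _ _ fun x => (map_mul ρ h x).symm
  have h1 : Fintype.card P • (ρ h v - v) = 0 := by
    have := DFunLike.congr_fun hS' v
    rw [hcard] at this
    change ρ h (Fintype.card P • v) = Fintype.card P • v at this
    rw [smul_sub, ← map_nsmul, this, sub_self]
  have h2 : addOrderOf (ρ h v - v) = 1 := by
    rw [Nat.card_eq_fintype_card] at hcop
    exact Nat.eq_one_of_dvd_coprimes hcop (addOrderOf_dvd_of_nsmul_eq_zero h1) (addOrderOf_dvd_natCard _)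
  exact sub_eq_zero.mp (AddMonoid.addOrderOf_eq_one_iff.mp h2)

/-- The action of a normaliser on the commutator quotient. -/
noncomputable def abAct {G : Type u} [Group G] (S : Subgroup G) :
    Subgroup.normalizer (S : Set G) →* AddMonoid.End (Additive (Abelianization S)) where
  toFun n := MonoidHom.toAdditive (Abelianization.map (S.normalizerMonoidHom n).toMonoidHom)
  map_one' := by
    rw [map_one]
    ext w
    exact congrArg Additive.ofMul (DFunLike.congr_fun (Abelianization.map_id (G := S)) w.toMul)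
  map_mul' m n := by
    rw [map_mul]
    ext w
    exact congrArg Additive.ofMul (DFunLike.congr_fun
      (Abelianization.map_comp (S.normalizerMonoidHom n).toMonoidHom (S.normalizerMonoidHom m).toMonoidHom)
      w.toMul).symm

theorem abAct_of {G : Type u} [Group G] (S : Subgroup G) (n : Subgroup.normalizer (S : Set G)) (s : S) :
    abAct S n (Additive.ofMul (Abelianization.of s)) =
      Additive.ofMul (Abelianization.of (S.normalizerMonoidHom n s)) := rfl

variable {G Ω : Type u} [Group G] [MulAction G Ω] [Finite G] [FaithfulSMul G Ω] (hF : OneFix G Ω)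
  (hNB : NoBad G Ω) {a b : Ω}
include hF hNB

namespace RankOneElt

variable {u x : G} (hx : RankOneElt a b u x)
include hx

/-- Inverted operators of coprime order invariant under the element centralise a solvable invariant subgroup of the
two-point stabiliser. -/
theorem centralises {P : Subgroup G} (hPD : P ≤ two a b) (hPu : ∀ h ∈ P, u * h * u = h⁻¹)
    (hPx : ∀ h ∈ P, x * h * x⁻¹ ∈ P) :
    ∀ {S : Subgroup G}, S ≤ two a b → Group.IsSolvable S → (∀ s ∈ S, u * s * u ∈ S) → (∀ s ∈ S, x * s * x⁻¹ ∈ S) →
      (∀ h ∈ P, ∀ s ∈ S, h * s * h⁻¹ ∈ S) → (Nat.card P).Coprime (Nat.card S) → ∀ h ∈ P, ∀ s ∈ S, h * s = s * h := by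
  intro S
  induction S using WellFoundedLT.induction with
  | ind S IH =>
  intro hSD hsol hSu hSx hPS hcop
  by_cases hbot : S = ⊥
  · intro h _ s hs
    rw [hbot, Subgroup.mem_bot] at hs
    simp [hs]
  haveI := hsol
  have hu := hx.inv_u
  have hnorm : ∀ {n : G}, (∀ s ∈ S, n * s * n⁻¹ ∈ S) → n ∈ Subgroup.normalizer (S : Set G) := fun {n} hn =>
    Subgroup.mem_normalizer_fintype fun s hs => hn s hs
  let nu : Subgroup.normalizer (S : Set G) := ⟨u, hnorm fun s hs => by rw [hu.inv]; exact hSu s hs⟩
  let nx : Subgroup.normalizer (S : Set G) := ⟨x, hnorm hSx⟩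
  let ι : P →* Subgroup.normalizer (S : Set G) := Subgroup.inclusion fun h hh => hnorm (hPS h hh)
  set Φ := abAct S with hΦ
  have hval : ∀ (n : Subgroup.normalizer (S : Set G)) (s : S),
      ((S.normalizerMonoidHom n s : S) : G) = (n : G) * s * (n : G)⁻¹ := fun _ _ => rfl
  have hzero : ∀ s : S, Abelianization.of s = 1 ↔ (s : G) ∈ ⁅S, S⁆ := fun s => by
    rw [← Subgroup.map_subtype_commutator, ← MonoidHom.mem_ker, Abelianization.ker_of]
    exact (Subgroup.mem_map_iff_mem (Subgroup.subtype_injective S)).symm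
  have hle : ⁅S, S⁆ ≤ S := Subgroup.commutator_le_self S
  have hlt : ⁅S, S⁆ < S := by
    haveI : Nontrivial S := (Subgroup.nontrivial_iff_ne_bot S).mpr hbot
    have h := Subgroup.map_lt_map_iff_of_injective (Subgroup.subtype_injective S) |>.mpr
      (Group.IsSolvable.commutator_lt_top_of_nontrivial S)
    rwa [Subgroup.map_subtype_commutator, ← MonoidHom.range_eq_map, Subgroup.range_subtype] at h
  have hmapN : ∀ (n : Subgroup.normalizer (S : Set G)), ∀ y ∈ ⁅S, S⁆, (n : G) * y * (n : G)⁻¹ ∈ ⁅S, S⁆ := by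
    intro n y hy
    have h := (hzero ⟨y, hle hy⟩).mpr hy
    have h' : Abelianization.of (S.normalizerMonoidHom n ⟨y, hle hy⟩) = 1 := by
      have e := abAct_of S n ⟨y, hle hy⟩
      rw [h, ofMul_one, map_zero] at e
      exact e.symm
    rw [hzero, hval] at h'
    exact h'
  have hoddD := odd_two hF hx.hab.symm
  have hoddS : Odd (Nat.card S) := hoddD.of_dvd_nat (Subgroup.card_dvd_of_le hSD)
  have hVS : Nat.card (Additive (Abelianization S)) ∣ Nat.card S := by
    rw [Nat.card_congr Additive.toMul]
    exact Subgroup.card_quotient_dvd_card _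
  have hV : Odd (Nat.card (Additive (Abelianization S))) := hoddS.of_dvd_nat hVS
  have hxo := hx.prime
  have hlodd : Odd (orderOf x) := odd_orderOf hoddD hx.mem
  let g := nx * nu
  have hcomm : Commute nx nu := Subtype.ext hx.comm.symm
  have hσval : ∀ h : P, x * u * (h : G) * (x * u)⁻¹ = x * (h : G)⁻¹ * x⁻¹ := fun h => by
    rw [← hPu h h.2, mul_inv_rev, hu.inv]
    group
  let σ : P →* P :=
    { toFun := fun h => ⟨x * u * (h : G) * (x * u)⁻¹, by rw [hσval]; exact hPx _ (inv_mem h.2)⟩
      map_one' := Subtype.ext (by simp)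
      map_mul' := fun h h' => Subtype.ext (by
        show x * u * ((h : G) * h') * (x * u)⁻¹ = x * u * h * (x * u)⁻¹ * (x * u * h' * (x * u)⁻¹)
        group) }
  have hiter : ∀ (j : ℕ) (h : P), ((σ^[j] h : P) : G) = (x * u) ^ j * h * ((x * u) ^ j)⁻¹ := by
    intro j
    induction j with
    | zero => simp
    | succ j ih =>
      intro h
      rw [Function.iterate_succ_apply', pow_succ']
      show x * u * ((σ^[j] h : P) : G) * (x * u)⁻¹ = _
      rw [ih]
      simp only [mul_assoc, mul_inv_rev]
  have hxu : Commute x u := hx.comm.symm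
  have hfix : ∀ j, 0 < j → j < 2 * orderOf x → ∀ h : P, (σ^[j]) h = h → h = 1 := by
    intro j hj0 hj2 h e
    have he : Commute ((x * u) ^ j) (h : G) := by
      have := congrArg Subtype.val e
      rw [hiter] at this
      exact mul_inv_eq_iff_eq_mul.mp this
    apply Subtype.ext
    by_cases hlj : orderOf x ∣ j
    · obtain ⟨c, rfl⟩ := hlj
      have hc : c = 1 := by
        rcases c with _ | _ | c
        · simp at hj0
        · rfl
        · exact absurd hj2 (not_lt.mpr (by rw [Nat.mul_comm]; exact Nat.mul_le_mul_left _ (by omega)))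
      subst hc
      rw [mul_one, hxu.mul_pow, pow_orderOf_eq_one, one_mul] at he
      obtain ⟨d, hd⟩ := hlodd
      rw [hd, pow_succ, pow_mul, pow_two, hu.2, one_pow, one_mul] at he
      have := hPu h h.2
      rw [he.eq, mul_assoc, hu.2, mul_one] at this
      exact eq_one_of_inv_eq this.symm (odd_orderOf hoddD (hPD h.2))
    · have h2 : Commute (x ^ (2 * j)) (h : G) := by
        have := (he.pow_left 2)
        rwa [← pow_mul, hxu.mul_pow, mul_comm j 2, pow_mul u, pow_two u, hu.2, one_pow, mul_one] at this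
      have hcp : (2 * j).Coprime (orderOf x) :=
        (Nat.coprime_two_left.mpr hlodd).mul_left (hxo.coprime_iff_not_dvd.mpr hlj).symm
      obtain ⟨m, hm⟩ := exists_pow_eq_self_of_coprime hcp
      exact RankOneElt.eq_one_of_commute hF hNB hx (hPD h.2) (hPu h h.2) (hm ▸ (h2.pow_left m)).symm.eq
  have htrick := trick hV (Φ.comp ι) (Φ g) σ (k := orderOf x) hxo.ne_zero ?_ ?_ hfix ?_ ?_
  · have hN : ∀ h ∈ P, ∀ s ∈ ⁅S, S⁆, h * s = s * h :=
      IH ⁅S, S⁆ hlt (hle.trans hSD)
        (Group.isSolvable_of_isSolvable_injective (Subgroup.inclusion_injective hle))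
        (fun y hy => by have := hmapN nu y hy; rwa [hu.inv] at this) (hmapN nx)
        (fun h hh => hmapN (ι ⟨h, hh⟩)) (hcop.coprime_dvd_right (Subgroup.card_dvd_of_le hle))
    intro h hh s hs
    set n := s⁻¹ * (h * s * h⁻¹) with hn
    have hnN : n ∈ ⁅S, S⁆ := by
      have h1 := htrick ⟨h, hh⟩ (Additive.ofMul (Abelianization.of ⟨s, hs⟩))
      rw [MonoidHom.comp_apply, abAct_of, EmbeddingLike.apply_eq_iff_eq] at h1
      have h2 : Abelianization.of (⟨s, hs⟩⁻¹ * S.normalizerMonoidHom (ι ⟨h, hh⟩) ⟨s, hs⟩) = 1 := by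
        rw [map_mul, map_inv, h1, inv_mul_cancel]
      rw [hzero, Subgroup.coe_mul, Subgroup.coe_inv, hval] at h2
      exact h2
    have hpow : ∀ i : ℕ, h ^ i * s * (h ^ i)⁻¹ = s * n ^ i := by
      intro i
      induction i with
      | zero => simp
      | succ i ih =>
        calc h ^ (i + 1) * s * (h ^ (i + 1))⁻¹ = h * (h ^ i * s * (h ^ i)⁻¹) * h⁻¹ := by rw [pow_succ']; group
          _ = h * s * h⁻¹ * (h * n ^ i * h⁻¹) := by rw [ih]; group
          _ = s * n * n ^ i := by
            rw [show h * n ^ i * h⁻¹ = n ^ i by rw [hN h hh _ (pow_mem hnN i), mul_inv_cancel_right], hn]; group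
          _ = _ := by rw [pow_succ', mul_assoc]
    have hn1 : n = 1 := by
      have e := hpow (orderOf h)
      rw [pow_orderOf_eq_one, one_mul, inv_one, mul_one, left_eq_mul] at e
      exact orderOf_eq_one_iff.mp (Nat.eq_one_of_dvd_coprimes hcop
        ((orderOf_dvd_of_pow_eq_one e).trans (Subgroup.orderOf_dvd_natCard P hh))
        (Subgroup.orderOf_dvd_natCard S (hle hnN)))
    rw [hn, inv_mul_eq_one] at hn1
    exact mul_inv_eq_iff_eq_mul.mp hn1.symm
  · have : g ^ (2 * orderOf x) = 1 := by
      rw [show g = nx * nu from rfl, hcomm.mul_pow]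
      apply Subtype.ext
      show x ^ (2 * orderOf x) * u ^ (2 * orderOf x) = 1
      rw [pow_mul', pow_orderOf_eq_one, one_pow, one_mul, pow_mul, pow_two, hu.2, one_pow]
    rw [← map_pow, this, map_one]
  · intro h
    rw [MonoidHom.comp_apply, MonoidHom.comp_apply, ← map_mul, ← map_mul]
    refine congrArg Φ (Subtype.ext ?_)
    show x * u * (h : G) = x * u * (h : G) * (x * u)⁻¹ * (x * u)
    group
  · intro v hv
    obtain ⟨s, hs⟩ := QuotientGroup.mk_surjective (Additive.toMul v)
    have hX2 : Φ (nx * nx) v = v := by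
      have e : g * g = nx * nx := by
        show nx * nu * (nx * nu) = nx * nx
        rw [mul_assoc, ← mul_assoc nu nx nu, ← hcomm.eq, mul_assoc nx nu nu,
          show nu * nu = 1 from Subtype.ext hu.2, mul_one]
      rw [← e, map_mul]
      exact hv
    have hX : Φ nx v = v := by
      obtain ⟨d, hd⟩ := hlodd
      have hnx : (nx * nx) ^ (d + 1) = nx := by
        apply Subtype.ext
        show (x * x) ^ (d + 1) = x
        rw [← pow_two, ← pow_mul, show 2 * (d + 1) = orderOf x + 1 by omega, pow_succ, pow_orderOf_eq_one, one_mul]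
      have hind : ∀ i : ℕ, Φ ((nx * nx) ^ i) v = v := by
        intro i
        induction i with
        | zero => rw [pow_zero, map_one]; rfl
        | succ i ih =>
          rw [pow_succ, map_mul]
          show Φ ((nx * nx) ^ i) (Φ (nx * nx) v) = v
          rw [hX2, ih]
      have := hind (d + 1)
      rwa [hnx] at this
    have hU : Φ nu v = v := by
      obtain ⟨w, hw⟩ : ∃ w : S, Additive.ofMul (Abelianization.of w) = Φ nu v - v := by
        obtain ⟨w, hw⟩ := QuotientGroup.mk_surjective (Additive.toMul (Φ nu v - v))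
        exact ⟨w, congrArg Additive.ofMul hw⟩
      have hinv : Φ nu (Φ nu v - v) = -(Φ nu v - v) := by
        have : Φ nu (Φ nu v) = v := by
          show (Φ nu * Φ nu) v = v
          rw [← map_mul, show nu * nu = 1 from Subtype.ext hu.2, map_one]
          rfl
        rw [map_sub, this, neg_sub]
      have hxw : Φ nx (Φ nu v - v) = Φ nu v - v := by
        rw [map_sub, hX]
        congr 1
        show (Φ nx * Φ nu) v = Φ nu v
        rw [← map_mul, hcomm.eq, map_mul]
        exact congrArg (Φ nu) hX
      rw [← hw, hΦ, abAct_of] at hinv hxw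
      have hwN : (w : G) ∈ ⁅S, S⁆ := by
        refine RankOneElt.mem_of_fixed hF hNB hx hSD hle (fun s hs y hy => hmapN ⟨s, Subgroup.le_normalizer hs⟩ y hy)
          hSu (fun y hy => by have := hmapN nu y hy; rwa [hu.inv] at this) (hmapN nx) w.2 ?_ ?_
        · have h2 : Abelianization.of (S.normalizerMonoidHom nu w * w) = 1 := by
            rw [map_mul]
            rw [← ofMul_inv, EmbeddingLike.apply_eq_iff_eq] at hinv
            rw [hinv, inv_mul_cancel]
          rw [hzero, Subgroup.coe_mul, hval] at h2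
          rw [show ((nu : G))⁻¹ = u from hu.inv] at h2
          exact h2
        · have h2 : Abelianization.of (w⁻¹ * S.normalizerMonoidHom nx w) = 1 := by
            rw [map_mul, map_inv]
            rw [EmbeddingLike.apply_eq_iff_eq] at hxw
            rw [hxw, inv_mul_cancel]
          rw [hzero, Subgroup.coe_mul, Subgroup.coe_inv, hval] at h2
          exact h2
      rw [← sub_eq_zero, ← hw, (hzero w).mpr hwN]
      rfl
    show Φ g v = v
    rw [show g = nx * nu from rfl, map_mul]
    show Φ nx (Φ nu v) = v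
    rw [hU, hX]
  · exact hcop.coprime_dvd_right hVS

end RankOneElt

end CfsgLib.Bender.NC
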