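import Cfsg.Agent.Lib.Bender.FromB1.NC.PGroup
import Cfsg.Agent.Lib.Bender.FromB1.NC.Trick
import Cfsg.Agent.Lib.Bender.B1.RankOneEnd
import Cfsg.Agent.Lib.Bender.B1.Climb
import Cfsg.Agent.Lib.Components
import Cfsg.Agent.S0205

/-!
The inverted elements of an invariant subgroup of the two-point stabiliser commute.

Blueprint: `blueprint/bender/A5b.md`, section 2b.
-/

set_option autoImplicit false
set_option linter.unusedSectionVars false
set_option linter.style.haveILetI false
set_option linter.unusedVariables false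

namespace CfsgLib.Bender.NC

open MulAction Cfsg CfsgLib.Bender CfsgLib.Bender.OneFix CfsgLib.Bender.TwoClosed
open CfsgLib.Bender.Ext (pCoreOf_le isPGroup_pCoreOf normalizer_le_pCoreOf)
open scoped commutatorElement

universe u

variable {G : Type u} [Group G] [Finite G]

/-- An element is generated by its powers of prime power order. -/
theorem mem_closure_primary (g : G) :
    g ∈ Subgroup.closure {h : G | (∃ n : ℕ, g ^ n = h) ∧ ∃ q k : ℕ, q.Prime ∧ h ^ q ^ k = 1} := by
  set K := Subgroup.closure {h : G | (∃ n : ℕ, g ^ n = h) ∧ ∃ q k : ℕ, q.Prime ∧ h ^ q ^ k = 1}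
  have hle : K ≤ Subgroup.zpowers g := (Subgroup.closure_le _).mpr fun h hh => by
    obtain ⟨⟨n, rfl⟩, -⟩ := hh
    exact Subgroup.pow_mem _ (Subgroup.mem_zpowers g) n
  have hd : orderOf g ∣ Nat.card K := by
    rw [Nat.dvd_iff_prime_pow_dvd_dvd]
    intro q k hq hqk
    have ho : orderOf (g ^ (orderOf g / q ^ k)) = q ^ k := orderOf_pow_orderOf_div (orderOf_pos g).ne' hqk
    rw [← ho]
    exact Subgroup.orderOf_dvd_natCard K (Subgroup.subset_closure
      ⟨⟨_, rfl⟩, q, k, hq, by conv_lhs => arg 2; rw [← ho]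
                              exact pow_orderOf_eq_one _⟩)
  have h := Subgroup.eq_of_le_of_card_ge hle (by
    rw [Nat.card_zpowers]
    exact Nat.le_of_dvd Nat.card_pos hd)
  rw [h]
  exact Subgroup.mem_zpowers g

/-- An element of `q`-power order generates a `q`-group. -/
theorem isPGroup_zpowers {q : ℕ} [Fact q.Prime] {h : G} {k : ℕ} (hk : h ^ q ^ k = 1) :
    IsPGroup q (Subgroup.zpowers h) := by
  obtain ⟨i, -, hi⟩ := (Nat.dvd_prime_pow (Fact.out : q.Prime)).mp (orderOf_dvd_of_pow_eq_one hk)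
  exact IsPGroup.of_card (by rw [Nat.card_zpowers, hi])

/-- An abelian subgroup normalised by a normal subgroup containing it lies in the Fitting subgroup. -/
theorem mem_fitting_of_abelian {S T A : Subgroup G} (hTS : T ≤ S) (hn : ∀ s ∈ S, ∀ v ∈ T, s * v * s⁻¹ ∈ T)
    (hAT : A ≤ T) (hnA : ∀ t ∈ T, ∀ v ∈ A, t * v * t⁻¹ ∈ A) (hab : ∀ v ∈ A, ∀ w ∈ A, v * w = w * v)
    {v : G} (hv : v ∈ A) : (⟨v, hTS (hAT hv)⟩ : S) ∈ fittingSubgroup S := by
  haveI hTn : (T.subgroupOf S).Normal := ⟨fun w hw g => hn g g.2 w hw⟩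
  have hAT' : A.subgroupOf S ≤ T.subgroupOf S := fun w hw => hAT hw
  haveI : ((A.subgroupOf S).subgroupOf (T.subgroupOf S)).Normal := ⟨fun w hw g => hnA (g.1 : G) g.2 _ hw⟩
  have hsn : (A.subgroupOf S).IsSubnormal := Subgroup.IsSubnormal.trans hAT'
    (inferInstance : ((A.subgroupOf S).subgroupOf (T.subgroupOf S)).Normal).isSubnormal hTn.isSubnormal
  have hnil : Group.IsNilpotent (A.subgroupOf S) := by
    letI : CommGroup (A.subgroupOf S) := { (inferInstance : Group (A.subgroupOf S)) with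
      mul_comm := fun v w => Subtype.ext (Subtype.ext (hab _ v.2 _ w.2)) }
    infer_instance
  exact CfsgLib.isSubnormal_nilpotent_le_fitting hsn hnil hv

variable {Ω : Type u} [MulAction G Ω] [FaithfulSMul G Ω] (hF : OneFix G Ω) (hNB : NoBad G Ω)
  (hBel : B1.Below.{u} (Nat.card G)) {a b : Ω} {u x : G} (hx : RankOneElt a b u x)
include hF hNB hBel hx

omit hNB hBel in
theorem conj_inverted {w j : G} (hwu : w * u = u * w) (hj : u * j * u = j⁻¹) :
    u * (w * j * w⁻¹) * u = (w * j * w⁻¹)⁻¹ := by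
  have hwu' : Commute u w := hwu.symm
  calc u * (w * j * w⁻¹) * u = (u * w) * j * (w⁻¹ * u) := by group
    _ = w * (u * j * u) * w⁻¹ := by rw [hwu'.eq, hwu'.inv_right.symm.eq]; group
    _ = _ := by rw [hj]; group

omit hNB hBel in
theorem inv_conj_u {v : G} : u * v⁻¹ * u = (u * v * u)⁻¹ := by
  simp only [mul_inv_rev, hx.inv_u.inv, mul_assoc]

omit hNB hBel in
theorem mul_conj_u {v w : G} : u * (v * w) * u = (u * v * u) * (u * w * u) := by
  simp only [mul_assoc, ← mul_assoc u u, hx.inv_u.2, one_mul]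

omit hNB hBel in
/-- The inverted elements of an invariant normal subgroup lie in the Fitting subgroup if they commute. -/
theorem mem_fitting_of_comm {S T : Subgroup G} (hSD : S ≤ two a b) (hTS : T ≤ S)
    (hn : ∀ s ∈ S, ∀ v ∈ T, s * v * s⁻¹ ∈ T) (hTu : ∀ v ∈ T, u * v * u ∈ T)
    (hc : ∀ j ∈ T, u * j * u = j⁻¹ → ∀ j' ∈ T, u * j' * u = j'⁻¹ → j * j' = j' * j) {j : G} (hj : j ∈ T)
    (hjinv : u * j * u = j⁻¹) : (⟨j, hTS hj⟩ : S) ∈ fittingSubgroup S := by
  set A := Subgroup.closure {v : G | v ∈ T ∧ u * v * u = v⁻¹} with hA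
  have hAT : A ≤ T := (Subgroup.closure_le _).mpr fun v hv => hv.1
  have hodd : Odd (Nat.card T) := (odd_two hF hx.hab.symm).of_dvd_nat (Subgroup.card_dvd_of_le (hTS.trans hSD))
  have hab : ∀ v ∈ A, ∀ w ∈ A, v * w = w * v := by
    have h1 : ∀ w ∈ A, ∀ v ∈ T, u * v * u = v⁻¹ → v * w = w * v := fun w hw v hv hvi => by
      induction hw using Subgroup.closure_induction with
      | mem w hw => exact hc v hv hvi w hw.1 hw.2
      | one => simp
      | mul w w' _ _ ih ih' => exact ((show Commute v w from ih).mul_right ih').eq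
      | inv w _ ih => exact (show Commute v w from ih).inv_right.eq
    intro v hv w hw
    induction hv using Subgroup.closure_induction with
    | mem v hv => exact h1 w hw v hv.1 hv.2
    | one => simp
    | mul v v' _ _ ih ih' => exact ((show Commute v w from ih).mul_left ih').eq
    | inv v _ ih => exact (show Commute v w from ih).inv_left.eq
  refine mem_fitting_of_abelian hTS hn hAT (fun t ht v hv => ?_) hab (Subgroup.subset_closure ⟨hj, hjinv⟩)
  obtain ⟨⟨c, k⟩, ⟨hc', hk, htck⟩, -⟩ := RankOne.Inverted.decomp hodd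
    (fun s hs => by rw [hx.inv_u.inv]; exact hTu s hs) hx.inv_u.2 ht
  dsimp only at hc' hk htck
  obtain ⟨hcT, hcu⟩ := Subgroup.mem_inf.mp hc'
  have hkA : k ∈ A := Subgroup.subset_closure ⟨hk.1, by rw [← hk.2, hx.inv_u.inv]⟩
  have hcA : ∀ w ∈ A, c * w * c⁻¹ ∈ A := fun w hw => by
    induction hw using Subgroup.closure_induction with
    | mem w hw => exact Subgroup.subset_closure ⟨mul_mem (mul_mem hcT hw.1) (inv_mem hcT),
        conj_inverted hF hx (Subgroup.mem_centralizer_singleton_iff.mp hcu) hw.2⟩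
    | one => simp
    | mul w w' _ _ ih ih' =>
      rw [show c * (w * w') * c⁻¹ = c * w * c⁻¹ * (c * w' * c⁻¹) by group]
      exact mul_mem ih ih'
    | inv w _ ih =>
      rw [show c * w⁻¹ * c⁻¹ = (c * w * c⁻¹)⁻¹ by group]
      exact inv_mem ih
  rw [show t = c * k from htck, show c * k * v * (c * k)⁻¹ = c * (k * v * k⁻¹) * c⁻¹ by group]
  exact hcA _ (mul_mem (mul_mem hkA hv) (inv_mem hkA))

omit hBel in
/-- An inverted element of `l`-power order is trivial, `l` being the order of the element. -/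
theorem eq_one_of_l_element {j : G} (hj : j ∈ two a b) (hjinv : u * j * u = j⁻¹) {k : ℕ}
    (hk : j ^ orderOf x ^ k = 1) : j = 1 := by
  by_contra h1
  obtain ⟨i, -, hi⟩ := (Nat.dvd_prime_pow hx.prime).mp (orderOf_dvd_of_pow_eq_one hk)
  rcases i with _ | i
  · exact h1 (orderOf_eq_one_iff.mp (by rw [hi, pow_zero]))
  · exact RankOneElt.not_dvd_invAt hF hNB hx (dvd_invAt_of_inverted hF hNB hx.hab hx.inv_u hx.swap hj hjinv hx.prime
      (hi ▸ dvd_pow_self _ (Nat.succ_ne_zero i)))

/-- The inverted elements of a subgroup of the two-point stabiliser invariant under `u` and `x` commute. -/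
theorem RankOneElt.commute_inverted :
    ∀ {S : Subgroup G}, S ≤ two a b → (∀ s ∈ S, u * s * u ∈ S) → (∀ s ∈ S, x * s * x⁻¹ ∈ S) →
      ∀ j ∈ S, u * j * u = j⁻¹ → ∀ j' ∈ S, u * j' * u = j'⁻¹ → j * j' = j' * j := by
  classical
  intro S
  induction S using WellFoundedLT.induction with
  | ind S IH =>
  intro hSD hSu hSx
  by_contra hnc
  have hu := hx.inv_u
  have hxu : Commute x u := hx.comm.symm
  have hodd : Odd (Nat.card S) := (odd_two hF hx.hab.symm).of_dvd_nat (Subgroup.card_dvd_of_le hSD)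
  have hgen : Subgroup.closure {j : G | j ∈ S ∧ u * j * u = j⁻¹} = S := by
    set K := Subgroup.closure {j : G | j ∈ S ∧ u * j * u = j⁻¹}
    refine (lt_or_eq_of_le ((Subgroup.closure_le _).mpr fun j hj => hj.1 : K ≤ S)).resolve_left fun hlt => ?_
    refine hnc fun j hj hjinv j' hj' hjinv' => IH K hlt (hlt.le.trans hSD) (fun s hs => ?_) (fun s hs => ?_) j
      (Subgroup.subset_closure ⟨hj, hjinv⟩) hjinv j' (Subgroup.subset_closure ⟨hj', hjinv'⟩) hjinv'
    · induction hs using Subgroup.closure_induction with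
      | mem s hs => rw [hs.2]; exact inv_mem (Subgroup.subset_closure hs)
      | one => simp [hu.2]
      | mul s t _ _ ihs iht => rw [mul_conj_u hF hx]; exact mul_mem ihs iht
      | inv s _ ih => rw [inv_conj_u hF hx]; exact inv_mem ih
    · induction hs using Subgroup.closure_induction with
      | mem s hs => exact Subgroup.subset_closure ⟨hSx s hs.1, conj_inverted hF hx hxu.eq hs.2⟩
      | one => simp
      | mul s t _ _ ihs iht =>
        rw [show x * (s * t) * x⁻¹ = x * s * x⁻¹ * (x * t * x⁻¹) by group]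
        exact mul_mem ihs iht
      | inv s _ ih =>
        rw [show x * s⁻¹ * x⁻¹ = (x * s * x⁻¹)⁻¹ by group]
        exact inv_mem ih
  have hgenS : ∀ {K : Subgroup S}, (∀ j (h : j ∈ S), u * j * u = j⁻¹ → (⟨j, h⟩ : S) ∈ K) → ∀ g : S, g ∈ K := by
    intro K hK g
    have hle : S ≤ K.map S.subtype := by
      conv_lhs => rw [← hgen]
      exact (Subgroup.closure_le _).mpr fun j hj => ⟨⟨j, hj.1⟩, hK j hj.1 hj.2, rfl⟩
    exact (Subgroup.mem_map_iff_mem (Subgroup.subtype_injective S)).mp (hle g.2)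
  let fu : S →* S :=
    { toFun := fun s => ⟨u * s * u, hSu s s.2⟩
      map_one' := Subtype.ext (by simp [hu.2])
      map_mul' := fun s t => Subtype.ext (mul_conj_u hF hx) }
  let fx : S →* S :=
    { toFun := fun s => ⟨x * s * x⁻¹, hSx s s.2⟩
      map_one' := Subtype.ext (by simp)
      map_mul' := fun s t => Subtype.ext (by
        show x * ((s : G) * t) * x⁻¹ = x * s * x⁻¹ * (x * t * x⁻¹)
        group) }
  haveI hsol : Group.IsSolvable S := Cfsg.Agent.S0205.result hodd
  -- proper invariant normal subgroups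
  have hproper : ∀ K : Subgroup S, K.Normal → K ≠ ⊤ → (∀ s ∈ K, fu s ∈ K) → (∀ s ∈ K, fx s ∈ K) →
      ∀ j (h : j ∈ S), u * j * u = j⁻¹ → (⟨j, h⟩ : S) ∈ K → (⟨j, h⟩ : S) ∈ fittingSubgroup S := by
    intro K hKn hKt hKu hKx j h hjinv hjK
    set T := K.map S.subtype
    have hTS : T ≤ S := Subgroup.map_subtype_le _
    have hlt : T < S := lt_of_le_of_ne hTS fun e => hKt (eq_top_iff.mpr fun g _ =>
      (Subgroup.mem_map_iff_mem (Subgroup.subtype_injective S)).mp (e.symm ▸ g.2 : (g : G) ∈ T))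
    have hTu : ∀ v ∈ T, u * v * u ∈ T := by rintro _ ⟨v, hv, rfl⟩; exact ⟨fu v, hKu v hv, rfl⟩
    refine mem_fitting_of_comm hF hx hSD hTS ?_ hTu (IH T hlt (hTS.trans hSD) hTu
      (by rintro _ ⟨v, hv, rfl⟩; exact ⟨fx v, hKx v hv, rfl⟩)) ⟨⟨j, h⟩, hjK, rfl⟩ hjinv
    rintro s hs _ ⟨v, hv, rfl⟩
    exact ⟨⟨s, hs⟩ * v * (⟨s, hs⟩ : S)⁻¹, hKn.conj_mem v hv ⟨s, hs⟩, rfl⟩
  haveI : Nontrivial S := by
    refine (Subgroup.nontrivial_iff_ne_bot S).mpr fun e => hnc fun j hj _ j' hj' _ => ?_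
    rw [e, Subgroup.mem_bot] at hj
    simp [hj]
  have hcomT : commutator S ≠ ⊤ := (Group.IsSolvable.commutator_lt_top_of_nontrivial S).ne
  have hcommap : ∀ f : S →* S, ∀ e ∈ commutator S, f e ∈ commutator S := fun f e he => by
    have hle : commutator S ≤ (commutator S).comap f := by
      rw [commutator_def, Subgroup.commutator_le]
      intro g _ h _
      rw [Subgroup.mem_comap, map_commutatorElement]
      exact Subgroup.commutator_mem_commutator (Subgroup.mem_top _) (Subgroup.mem_top _)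
    exact hle he
  haveI hFn : (fittingSubgroup S).Normal := CfsgLib.fittingSubgroup_normal
  set ψ := QuotientGroup.mk' (fittingSubgroup S) with hψ
  have hψ1 : ∀ g : S, g ∈ fittingSubgroup S → ψ g = 1 := fun g hg => (QuotientGroup.eq_one_iff g).mpr hg
  -- `u` fixes the derived subgroup modulo the Fitting subgroup
  have hfix : ∀ e ∈ commutator S, ψ (fu e) = ψ e := by
    intro e he
    set D := (commutator S).map S.subtype
    obtain ⟨⟨c, k⟩, ⟨hc, hk, heck⟩, -⟩ := RankOne.Inverted.decomp (X := D)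
      (hodd.of_dvd_nat (Subgroup.card_dvd_of_le (Subgroup.map_subtype_le _)))
      (fun s hs => by
        obtain ⟨s, hs', rfl⟩ := hs
        rw [hu.inv]
        exact ⟨fu s, hcommap _ s hs', rfl⟩) hu.2 (show (e : G) ∈ D from ⟨e, he, rfl⟩)
    dsimp only at hc hk heck
    obtain ⟨hcD, hcu⟩ := Subgroup.mem_inf.mp hc
    obtain ⟨c', hc', rfl⟩ := hcD
    obtain ⟨hkD, hki⟩ := hk
    obtain ⟨k', hk', rfl⟩ := hkD
    have hki' : u * (k' : G) * u = (k' : G)⁻¹ := by rw [hu.inv] at hki; exact hki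
    have hkF : ψ k' = 1 := hψ1 _ (hproper _ inferInstance hcomT (hcommap fu) (hcommap fx) k' k'.2 hki' hk')
    have hfc : fu c' = c' := Subtype.ext (by
      show u * (c' : G) * u = c'
      have h : (c' : G) * u = u * c' := Subgroup.mem_centralizer_singleton_iff.mp hcu
      rw [← h, mul_assoc, hu.2, mul_one])
    have hfk : fu k' = k'⁻¹ := Subtype.ext hki'
    rw [show e = c' * k' from Subtype.ext heck, map_mul fu, hfc, hfk, map_mul, map_mul, map_inv, hkF, inv_one]
  have hcentral : ∀ e ∈ commutator S, ψ e ∈ Subgroup.center (S ⧸ fittingSubgroup S) := by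
    intro e he
    refine Subgroup.mem_center_iff.mpr fun v => ?_
    obtain ⟨g, rfl⟩ := QuotientGroup.mk'_surjective _ v
    refine hgenS (K := (Subgroup.centralizer {ψ e}).comap ψ) (fun j h hjinv => ?_) g |>
      Subgroup.mem_centralizer_singleton_iff.mp
    rw [Subgroup.mem_comap, Subgroup.mem_centralizer_singleton_iff]
    set J : S := ⟨j, h⟩
    have hfJ : fu J = J⁻¹ := Subtype.ext hjinv
    have h2 : ψ (fu (J * e * J⁻¹)) = ψ (J * e * J⁻¹) :=
      hfix _ ((inferInstance : (commutator S).Normal).conj_mem e he J)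
    have h3 : (ψ J)⁻¹ * ψ e * ψ J = ψ J * ψ e * (ψ J)⁻¹ := by
      rw [map_mul fu, map_mul fu, map_inv fu, hfJ, inv_inv, map_mul, map_mul, map_inv, hfix e he, map_mul, map_mul,
        map_inv] at h2
      exact h2
    have h4 : Commute (ψ J * ψ J) (ψ e) := by
      show ψ J * ψ J * ψ e = ψ e * (ψ J * ψ J)
      calc ψ J * ψ J * ψ e = ψ J * (ψ J * ψ e * (ψ J)⁻¹) * ψ J := by group
        _ = ψ J * ((ψ J)⁻¹ * ψ e * ψ J) * ψ J := by rw [h3]
        _ = _ := by group
    obtain ⟨n, hn⟩ := CfsgLib.Involutions.exists_sqrt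
      (hodd.of_dvd_nat ((orderOf_map_dvd ψ J).trans (orderOf_dvd_natCard J)))
    have h5 := h4.pow_left n
    rwa [(Commute.refl (ψ J)).mul_pow, hn] at h5
  -- an inverted element outside
  obtain ⟨h0, hh0, hh0inv, p, k0, hp, hk0, hh0F⟩ : ∃ (h0 : G) (hh0 : h0 ∈ S), u * h0 * u = h0⁻¹ ∧
      ∃ p k : ℕ, p.Prime ∧ h0 ^ p ^ k = 1 ∧ (⟨h0, hh0⟩ : S) ∉ fittingSubgroup S := by
    by_contra hno
    push Not at hno
    refine hnc ?_
    -- then everything lies in the cores
    have hcore : ∀ q : ℕ, q.Prime → ∀ g ∈ S, u * g * u = g⁻¹ → ∀ k : ℕ, g ^ q ^ k = 1 → g ∈ pCoreOf q S := by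
      intro q hq g hg hginv k hk
      haveI := Fact.mk hq
      exact ⟨⟨g, hg⟩, B1.mem_pCore_of_fitting (hno g hg hginv q k hq hk) (k := k) (Subtype.ext hk), rfl⟩
    intro j hj hjinv j' hj' hj'inv
    have key : ∀ g ∈ S, u * g * u = g⁻¹ → ∀ h ∈ S, u * h * u = h⁻¹ → ∀ q k : ℕ, q.Prime → g ^ q ^ k = 1 →
        ∀ r m : ℕ, r.Prime → h ^ r ^ m = 1 → g * h = h * g := by
      intro g hg hginv h hh hhinv q k hq hgk r m hr hhm
      haveI := Fact.mk hq
      haveI := Fact.mk hr
      have hg' := hcore q hq g hg hginv k hgk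
      have hh' := hcore r hr h hh hhinv m hhm
      rcases eq_or_ne q r with rfl | hne
      · have hSn : ∀ {v : G}, (∀ s ∈ S, v * s * v⁻¹ ∈ S) → ∀ w ∈ pCoreOf q S, v * w * v⁻¹ ∈ pCoreOf q S :=
          fun hv w hw => conj_mem_of_normalizer (normalizer_le_pCoreOf q S (mem_normalizer_of_conj hv)) hw
        refine RankOneElt.commute_pgroup hF hNB hBel hx (isPGroup_pCoreOf q S) ((pCoreOf_le q S).trans hSD)
          (fun w hw => ?_) (hSn hSx) g hg' hginv h hh' hhinv
        have := hSn (v := u) (fun s hs => by rw [hu.inv]; exact hSu s hs) w hw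
        rwa [hu.inv] at this
      · obtain ⟨g', hg'', rfl⟩ := hg'
        obtain ⟨h', hh'', rfl⟩ := hh'
        haveI : (pCore q S).Normal := inferInstance
        haveI : (pCore r S).Normal := inferInstance
        exact congrArg Subtype.val (Subgroup.commute_of_normal_of_disjoint _ _ inferInstance inferInstance
          (IsPGroup.disjoint_of_ne q r hne _ _ (CfsgLib.isPGroup_pCore q) (CfsgLib.isPGroup_pCore r)) g' h' hg'' hh'').eq
    have hpow : ∀ {g : G}, u * g * u = g⁻¹ → ∀ n : ℕ, u * g ^ n * u = (g ^ n)⁻¹ := fun hg n =>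
      inverted_pow hF hu hg n
    have hle : ∀ g ∈ S, u * g * u = g⁻¹ → ∀ h ∈ S, u * h * u = h⁻¹ → ∀ q k : ℕ, q.Prime → g ^ q ^ k = 1 →
        g * h = h * g := by
      intro g hg hginv h hh hhinv q k hq hgk
      have hc : Subgroup.closure {v : G | (∃ n : ℕ, h ^ n = v) ∧ ∃ r m : ℕ, r.Prime ∧ v ^ r ^ m = 1} ≤
          Subgroup.centralizer ({g} : Set G) := (Subgroup.closure_le _).mpr fun v hv => by
        obtain ⟨⟨n, rfl⟩, r, m, hr, hm⟩ := hv
        exact Subgroup.mem_centralizer_singleton_iff.mpr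
          (key g hg hginv _ (pow_mem hh n) (hpow hhinv n) q k hq hgk r m hr hm).symm
      exact (Subgroup.mem_centralizer_singleton_iff.mp (hc (mem_closure_primary h))).symm
    have hc : Subgroup.closure {v : G | (∃ n : ℕ, j ^ n = v) ∧ ∃ r m : ℕ, r.Prime ∧ v ^ r ^ m = 1} ≤
        Subgroup.centralizer ({j'} : Set G) := (Subgroup.closure_le _).mpr fun v hv => by
      obtain ⟨⟨n, rfl⟩, r, m, hr, hm⟩ := hv
      exact Subgroup.mem_centralizer_singleton_iff.mpr (hle _ (pow_mem hj n) (hpow hjinv n) j' hj' hj'inv r m hr hm)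
    exact Subgroup.mem_centralizer_singleton_iff.mp (hc (mem_closure_primary j))
  haveI := Fact.mk hp
  -- modulo the derived subgroup `S` is a `p`-group
  set N := p ^ (Nat.card (Abelianization S)).factorization p with hN
  have hab : ∀ g : S, g ^ N ∈ commutator S := by
    set K : Subgroup S := ((powMonoidHom N).comp (Abelianization.of : S →* Abelianization S)).ker with hK
    have hKmem : ∀ s : S, s ∈ K ↔ Abelianization.of s ^ N = 1 := fun s => Iff.rfl
    have hKf : ∀ f : S →* S, ∀ s ∈ K, f s ∈ K := fun f s hs => by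
      rw [hKmem] at hs ⊢
      have := congrArg (Abelianization.map f) hs
      rwa [map_pow, map_one, Abelianization.map_of] at this
    have hh0K : (⟨h0, hh0⟩ : S) ∈ K := by
      rw [hKmem]
      set w := Abelianization.of (⟨h0, hh0⟩ : S)
      have h1 : w ^ p ^ k0 = 1 := by
        rw [← map_pow, show (⟨h0, hh0⟩ : S) ^ p ^ k0 = 1 from Subtype.ext hk0, map_one]
      obtain ⟨i, -, hi⟩ := (Nat.dvd_prime_pow hp).mp (orderOf_dvd_of_pow_eq_one h1)
      apply orderOf_dvd_iff_pow_eq_one.mp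
      rw [hi, hN]
      exact pow_dvd_pow p ((Nat.Prime.pow_dvd_iff_le_factorization hp Nat.card_pos.ne').mp
        (hi ▸ orderOf_dvd_natCard w))
    have hKtop : K = ⊤ := by
      by_contra hne
      exact hh0F (hproper K inferInstance hne (hKf fu) (hKf fx) h0 hh0 hh0inv hh0K)
    intro g
    have := (hKmem g).mp (hKtop ▸ Subgroup.mem_top g)
    rw [← map_pow] at this
    rw [← Abelianization.ker_of]
    exact this
  have hNN : ∀ g : S, g ^ (N * N) ∈ fittingSubgroup S := by
    intro g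
    let Z : Subgroup (S ⧸ fittingSubgroup S) :=
      { carrier := {z | z ∈ Subgroup.center (S ⧸ fittingSubgroup S) ∧ z ^ N = 1}
        one_mem' := ⟨one_mem _, one_pow N⟩
        mul_mem' := fun {v w} hv hw => ⟨mul_mem hv.1 hw.1, by
          rw [Commute.mul_pow (Subgroup.mem_center_iff.mp hv.1 w).symm N, hv.2, hw.2, one_mul]⟩
        inv_mem' := fun {v} hv => ⟨inv_mem hv.1, by rw [inv_pow, hv.2, inv_one]⟩ }
    have hle : commutator S ≤ Z.comap ψ := by
      rw [commutator_def, Subgroup.commutator_le]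
      intro v _ w _
      have hc := hcentral ⁅v, w⁆ (Subgroup.commutator_mem_commutator (Subgroup.mem_top _) (Subgroup.mem_top _))
      refine ⟨hc, ?_⟩
      rw [map_commutatorElement] at hc ⊢
      rw [← comm_pow_left hc, ← map_pow]
      exact commutatorElement_eq_one_iff_commute.mpr (Subgroup.mem_center_iff.mp (hcentral _ (hab v)) _).symm
    have hz' : ψ (g ^ N) ^ N = 1 := (hle (hab g)).2
    rw [← QuotientGroup.eq_one_iff]
    show ψ (g ^ (N * N)) = 1
    rw [pow_mul, map_pow]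
    exact hz'
  -- elements of order prime to `p` are in the cores
  have hother : ∀ q : ℕ, q.Prime → q ≠ p → ∀ g ∈ S, ∀ k : ℕ, g ^ q ^ k = 1 → g ∈ pCoreOf q S := by
    intro q hq hqp g hg k hk
    haveI := Fact.mk hq
    refine ⟨⟨g, hg⟩, B1.mem_pCore_of_fitting ?_ (k := k) (Subtype.ext hk), rfl⟩
    have hc : (N * N).Coprime (orderOf (⟨g, hg⟩ : S)) := by
      refine Nat.Coprime.coprime_dvd_right (orderOf_dvd_of_pow_eq_one (Subtype.ext hk : (⟨g, hg⟩ : S) ^ q ^ k = 1)) ?_
      rw [hN, ← pow_add]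
      exact Nat.Coprime.pow _ _ ((Nat.coprime_primes hp hq).mpr (Ne.symm hqp))
    obtain ⟨r, hr⟩ := exists_pow_eq_self_of_coprime hc
    rw [← hr]
    exact pow_mem (hNN _) r
  have hpl : p ≠ orderOf x := fun e => hh0F (by
    have h1 : h0 = 1 := eq_one_of_l_element hF hNB hx (hSD hh0) hh0inv (e ▸ hk0)
    have h2 : (⟨h0, hh0⟩ : S) = 1 := Subtype.ext h1
    rw [h2]
    exact one_mem _)
  -- the core for the order of the element is central
  haveI := Fact.mk hx.prime
  set L := pCoreOf (orderOf x) S with hL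
  have hSnorm : ∀ {v : G}, (∀ s ∈ S, v * s * v⁻¹ ∈ S) → ∀ q : ℕ, ∀ w ∈ pCoreOf q S, v * w * v⁻¹ ∈ pCoreOf q S :=
    fun hv q w hw => conj_mem_of_normalizer (normalizer_le_pCoreOf q S (mem_normalizer_of_conj hv)) hw
  have hSu' : ∀ s ∈ S, u * s * u⁻¹ ∈ S := fun s hs => by rw [hu.inv]; exact hSu s hs
  have hqu : ∀ q : ℕ, ∀ w ∈ pCoreOf q S, u * w * u ∈ pCoreOf q S := fun q w hw => by
    have := hSnorm hSu' q w hw
    rwa [hu.inv] at this
  have hLfix : ∀ w ∈ L, w * u = u * w := by
    intro w hw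
    obtain ⟨⟨c, k⟩, ⟨hc, hk, hwck⟩, -⟩ := RankOne.Inverted.decomp
      (hodd.of_dvd_nat (Subgroup.card_dvd_of_le (pCoreOf_le _ S))) (hSnorm hSu' _) hu.2 hw
    dsimp only at hc hk hwck
    obtain ⟨m, hm⟩ := isPGroup_pCoreOf (orderOf x) S ⟨k, hk.1⟩
    have hk1 : k = 1 := eq_one_of_l_element hF hNB hx (hSD (pCoreOf_le _ S hk.1))
      (by rw [← hk.2, hu.inv]) (congrArg Subtype.val hm : k ^ orderOf x ^ m = 1)
    rw [show w = c * k from hwck, hk1, mul_one]
    exact Subgroup.mem_centralizer_singleton_iff.mp (Subgroup.mem_inf.mp hc).2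
  have hLcen : ∀ w ∈ L, ∀ g ∈ S, g * w = w * g := by
    intro w hw g hg
    have hle : ∀ j (h : j ∈ S), u * j * u = j⁻¹ →
        (⟨j, h⟩ : S) ∈ (Subgroup.centralizer ({w} : Set G)).subgroupOf S := by
      intro j hj hjinv
      rw [Subgroup.mem_subgroupOf, Subgroup.mem_centralizer_singleton_iff]
      show j * w = w * j
      have h1 : j * w * j⁻¹ ∈ L := hSnorm (fun s hs => mul_mem (mul_mem hj hs) (inv_mem hj)) _ w hw
      have h2 : u * (j * w * j⁻¹) * u = j * w * j⁻¹ := by rw [← hLfix _ h1, mul_assoc, hu.2, mul_one]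
      have h3 : u * w * u = w := by rw [← hLfix w hw, mul_assoc, hu.2, mul_one]
      rw [mul_conj_u hF hx, mul_conj_u hF hx, inv_conj_u hF hx, hjinv, h3, inv_inv] at h2
      have h4 : Commute (j * j) w := by
        show j * j * w = w * (j * j)
        calc j * j * w = j * (j * w * j⁻¹) * j := by group
          _ = j * (j⁻¹ * w * j) * j := by rw [h2]
          _ = _ := by group
      obtain ⟨n, hn⟩ := CfsgLib.Involutions.exists_sqrt (odd_orderOf hodd hj)
      have h5 := h4.pow_left n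
      rwa [(Commute.refl j).mul_pow, hn] at h5
    exact Subgroup.mem_centralizer_singleton_iff.mp
      (Subgroup.mem_subgroupOf.mp (hgenS hle ⟨g, hg⟩))
  -- an invariant maximal `p`-subgroup
  set W := Subgroup.normalizer (S : Set G) ⊓ Subgroup.centralizer ({u} : Set G) with hW
  let X := {R : Subgroup G // MaxP p S R ∧ u ∈ Subgroup.normalizer (R : Set G)}
  have hsmul : ∀ (c : W) (R : X), MaxP p S (R.1.map (MulAut.conj (c : G)).toMonoidHom) ∧
      u ∈ Subgroup.normalizer ((R.1.map (MulAut.conj (c : G)).toMonoidHom : Subgroup G) : Set G) := by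
    intro c R
    obtain ⟨hcS, hcu⟩ := Subgroup.mem_inf.mp c.2
    refine ⟨maxP_of_card (R.2.1.isPGroup.map _) ?_ ?_, mem_normalizer_of_conj ?_⟩
    · rintro _ ⟨v, hv, rfl⟩
      exact conj_mem_of_normalizer hcS (R.2.1.le hv)
    · rw [Subgroup.card_map_of_injective (MulAut.conj (c : G)).injective, R.2.1.card]
    · rintro _ ⟨v, hv, rfl⟩
      refine ⟨u * v * u⁻¹, conj_mem_of_normalizer R.2.2 hv, ?_⟩
      have hcu' : Commute (c : G) u := Subgroup.mem_centralizer_singleton_iff.mp hcu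
      show (c : G) * (u * v * u⁻¹) * (c : G)⁻¹ = u * ((c : G) * v * (c : G)⁻¹) * u⁻¹
      calc (c : G) * (u * v * u⁻¹) * (c : G)⁻¹ = (c * u) * v * (u⁻¹ * (c : G)⁻¹) := by group
        _ = (u * c) * v * ((c : G)⁻¹ * u⁻¹) := by rw [hcu'.eq, hcu'.inv_left.inv_right.eq]
        _ = _ := by group
  letI : MulAction W X :=
    { smul := fun c R => ⟨_, hsmul c R⟩
      one_smul := fun R => Subtype.ext (by
        show R.1.map (MulAut.conj ((1 : W) : G)).toMonoidHom = R.1
        rw [Subgroup.coe_one, map_one]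
        exact Subgroup.map_id _)
      mul_smul := fun c d R => Subtype.ext (by
        show R.1.map (MulAut.conj ((c * d : W) : G)).toMonoidHom =
          (R.1.map (MulAut.conj (d : G)).toMonoidHom).map (MulAut.conj (c : G)).toMonoidHom
        rw [Subgroup.map_map, Subgroup.coe_mul, map_mul]
        rfl) }
  set C := S ⊓ Subgroup.centralizer ({u} : Set G) with hC
  have hCW : C ≤ W := inf_le_inf_right _ Subgroup.le_normalizer
  have hxW : Subgroup.zpowers x ≤ W := Subgroup.zpowers_le.mpr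
    ⟨mem_normalizer_of_conj hSx, Subgroup.mem_centralizer_singleton_iff.mpr hxu.eq⟩
  obtain ⟨R0, hR0, hR0u⟩ := exists_invariant_maxP (p := p) hodd hu.2 hSu'
  set r0 : X := ⟨R0, hR0, hR0u⟩
  letI : MulAction C X := MulAction.compHom X (Subgroup.inclusion hCW)
  have horbit : ∀ R : X, R ∈ MulAction.orbit C r0 := by
    intro R
    obtain ⟨g, hg, hgR⟩ := hR0.conj R.2.1
    -- correct the conjugating element
    set t := g⁻¹ * (u * g * u) with ht
    have htinv : u * t * u = t⁻¹ := by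
      rw [ht, mul_conj_u hF hx, inv_conj_u hF hx]
      simp only [mul_inv_rev, inv_inv, mul_assoc, ← mul_assoc u u, hu.2, one_mul, mul_one]
    set M := S ⊓ Subgroup.normalizer (R0 : Set G) with hM
    have hgu : ∀ v : G, v ∈ R0 → (u * g * u) * v * (u * g * u)⁻¹ ∈ R.1 := by
      intro v hv
      have h1 := (hgR _).mp (conj_mem_of_normalizer hR0u hv)
      have h2 := conj_mem_of_normalizer R.2.2 h1
      rw [hu.inv] at h2
      rw [mul_inv_rev, mul_inv_rev, hu.inv]
      simpa [mul_assoc, hu.inv] using h2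
    have htM : t ∈ M := Subgroup.mem_inf.mpr ⟨mul_mem (inv_mem hg) (hSu g hg), mem_normalizer_of_conj fun v hv => by
      rw [hgR, ht]
      simpa [mul_assoc] using hgu v hv⟩
    have hMu : ∀ v ∈ M, u * v * u⁻¹ ∈ M := fun v hv =>
      Subgroup.mem_inf.mpr ⟨hSu' v hv.1, mul_mem (mul_mem hR0u hv.2) (inv_mem hR0u)⟩
    obtain ⟨r, hr, hrt⟩ := RankOne.Inverted.exists_sqrt_inverted
      (hodd.of_dvd_nat (Subgroup.card_dvd_of_le inf_le_left)) hMu
      (show t ∈ invertedBy M u from ⟨htM, by rw [hu.inv]; exact htinv⟩)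
    have hcu : g * r * u = u * (g * r) := by
      have hri : u * r * u = r⁻¹ := by rw [← hr.2, hu.inv]
      have h1 : u * (g * r) * u = g * r := by
        rw [mul_conj_u hF hx, hri, show u * g * u = g * t by rw [ht, mul_inv_cancel_left], ← hrt]
        group
      conv_lhs => rw [← h1]
      rw [mul_assoc, hu.2, mul_one]
    refine ⟨⟨g * r, mul_mem hg hr.1.1, Subgroup.mem_centralizer_singleton_iff.mpr hcu⟩, Subtype.ext ?_⟩
    show R0.map (MulAut.conj (g * r)).toMonoidHom = R.1
    refine Subgroup.eq_of_le_of_card_ge ?_ ?_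
    · rintro _ ⟨v, hv, rfl⟩
      show g * r * v * (g * r)⁻¹ ∈ R.1
      rw [show g * r * v * (g * r)⁻¹ = g * (r * v * r⁻¹) * g⁻¹ by group]
      exact (hgR _).mp (conj_mem_of_normalizer hr.1.2 hv)
    · rw [Subgroup.card_map_of_injective (MulAut.conj (g * r)).injective, hR0.card, R.2.1.card]
  have hcardX : ¬ orderOf x ∣ Nat.card X := by
    intro hd
    have h1 : Nat.card X = (MulAction.stabilizer C r0).index := by
      rw [MulAction.index_stabilizer, show MulAction.orbit C r0 = Set.univ from Set.eq_univ_of_forall horbit,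
        Set.ncard_univ]
    have hLC : L ≤ C := fun w hw => Subgroup.mem_inf.mpr ⟨pCoreOf_le _ S hw, Subgroup.mem_centralizer_singleton_iff.mpr (hLfix w hw)⟩
    have hLstab : L.subgroupOf C ≤ MulAction.stabilizer C r0 := by
      intro w hw
      refine MulAction.mem_stabilizer_iff.mpr (Subtype.ext ?_)
      show R0.map (MulAut.conj ((w : C) : G)).toMonoidHom = R0
      have hmap : ∀ v ∈ R0, ((w : C) : G) * v * ((w : C) : G)⁻¹ = v := fun v hv => by
        have h := hLcen ((w : C) : G) hw v (hR0.le hv)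
        rw [← h, mul_inv_cancel_right]
      ext v
      refine ⟨?_, fun hv => ⟨v, hv, hmap v hv⟩⟩
      rintro ⟨v', hv', rfl⟩
      show ((w : C) : G) * v' * ((w : C) : G)⁻¹ ∈ R0
      rw [hmap v' hv']
      exact hv'
    have h2 : orderOf x ∣ (L.subgroupOf C).index :=
      (h1 ▸ hd).trans (Subgroup.index_dvd_of_le hLstab)
    obtain ⟨R, hLR, hR⟩ := exists_maxP (isPGroup_pCoreOf (orderOf x) S) (pCoreOf_le _ S)
    have hRL : R = L := le_antisymm (fun v hv => by
      obtain ⟨m, hm⟩ := hR.isPGroup ⟨v, hv⟩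
      exact hother _ hx.prime (Ne.symm hpl) v (hR.le hv) m (congrArg Subtype.val hm)) hLR
    refine Nat.pow_succ_factorization_not_dvd (n := Nat.card S) (p := orderOf x) Nat.card_pos.ne' hx.prime ?_
    rw [pow_succ, ← hR.card, hRL]
    refine dvd_trans ?_ (Subgroup.card_dvd_of_le (inf_le_left : C ≤ S))
    rw [← Subgroup.card_mul_index (L.subgroupOf C), Nat.card_congr (Subgroup.subgroupOfEquivOfLe hLC).toEquiv]
    exact Nat.mul_dvd_mul_left _ h2
  letI : MulAction (Subgroup.zpowers x) X := MulAction.compHom X (Subgroup.inclusion hxW)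
  obtain ⟨⟨P, hP, hPu⟩, hPx⟩ := (IsPGroup.of_card (n := 1) (by rw [Nat.card_zpowers, pow_one]) :
    IsPGroup (orderOf x) (Subgroup.zpowers x)).nonempty_fixed_point_of_prime_not_dvd_card X hcardX
  have hPxm : ∀ v ∈ P, x * v * x⁻¹ ∈ P := fun v hv => by
    have h := congrArg Subtype.val (hPx ⟨x, Subgroup.mem_zpowers x⟩)
    change P.map (MulAut.conj x).toMonoidHom = P at h
    rw [← h]
    exact ⟨v, hv, rfl⟩
  have hPum : ∀ v ∈ P, u * v * u ∈ P := fun v hv => by
    have := conj_mem_of_normalizer hPu hv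
    rwa [hu.inv] at this
  have hPc := RankOneElt.commute_pgroup hF hNB hBel hx hP.isPGroup (hP.le.trans hSD) hPum hPxm
  -- its inverted part
  let A : Subgroup G :=
    { carrier := {v | v ∈ P ∧ u * v * u = v⁻¹}
      one_mem' := ⟨one_mem P, by simp [hu.2]⟩
      mul_mem' := fun {v w} hv hw => ⟨mul_mem hv.1 hw.1, by
        rw [mul_conj_u hF hx, hv.2, hw.2, mul_inv_rev]
        exact ((show Commute v w from hPc v hv.1 hv.2 w hw.1 hw.2).inv_inv).eq⟩
      inv_mem' := fun {v} hv => ⟨inv_mem hv.1, by rw [inv_conj_u hF hx, hv.2]⟩ }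
  have hAP : A ≤ P := fun v hv => hv.1
  have hAother : ∀ q : ℕ, q.Prime → q ≠ p → ∀ v ∈ A, ∀ w ∈ pCoreOf q S, v * w = w * v := by
    intro q hq hqp
    haveI := Fact.mk hq
    haveI : Group.IsNilpotent (pCoreOf q S) := (isPGroup_pCoreOf q S).isNilpotent
    refine RankOneElt.centralises hF hNB hx ((hAP.trans hP.le).trans hSD) (fun v hv => hv.2)
      (fun v hv => ⟨hPxm v hv.1, conj_inverted hF hx hxu.eq hv.2⟩) ((pCoreOf_le q S).trans hSD) inferInstance
      (hqu q) (hSnorm hSx q) (fun v hv => hSnorm (fun s hs => mul_mem (mul_mem (hP.le hv.1) hs) (inv_mem (hP.le hv.1))) q)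
      ?_
    exact IsPGroup.coprime_card_of_ne p q (Ne.symm hqp) A (pCoreOf q S) (hP.isPGroup.to_le hAP) (isPGroup_pCoreOf q S)
  -- which is normal in `S`
  have hnormA : S ≤ Subgroup.normalizer (A : Set G) := by
    set M := S ⊓ Subgroup.normalizer (A : Set G)
    have hd : Nat.card S ∣ Nat.card M := by
      rw [Nat.dvd_iff_prime_pow_dvd_dvd]
      intro r k hr hrk
      haveI := Fact.mk hr
      refine (pow_dvd_pow r ((Nat.Prime.pow_dvd_iff_le_factorization hr Nat.card_pos.ne').mp hrk)).trans ?_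
      rcases eq_or_ne r p with rfl | hne
      · rw [← hP.card]
        refine Subgroup.card_dvd_of_le (le_inf hP.le fun v hv => mem_normalizer_of_conj fun w hw => ?_)
        obtain ⟨⟨c, j⟩, ⟨hc, hj, hvcj⟩, -⟩ := RankOne.Inverted.decomp
          (hodd.of_dvd_nat (Subgroup.card_dvd_of_le hP.le)) (fun s hs => conj_mem_of_normalizer hPu hs) hu.2 hv
        dsimp only at hc hj hvcj
        obtain ⟨hcP, hcu⟩ := Subgroup.mem_inf.mp hc
        have hjA : j ∈ A := ⟨hj.1, by rw [← hj.2, hu.inv]⟩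
        have h1 : j * w * j⁻¹ ∈ A := mul_mem (mul_mem hjA hw) (inv_mem hjA)
        rw [show v = c * j from hvcj, show c * j * w * (c * j)⁻¹ = c * (j * w * j⁻¹) * c⁻¹ by group]
        exact ⟨mul_mem (mul_mem hcP h1.1) (inv_mem hcP),
          conj_inverted hF hx (Subgroup.mem_centralizer_singleton_iff.mp hcu) h1.2⟩
      · obtain ⟨R, -, hR⟩ := exists_maxP (p := r) IsPGroup.of_bot (bot_le : ⊥ ≤ S)
        rw [← hR.card]
        refine Subgroup.card_dvd_of_le (le_inf hR.le fun v hv => mem_normalizer_of_conj fun w hw => ?_)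
        obtain ⟨m, hm⟩ := hR.isPGroup ⟨v, hv⟩
        rw [← hAother r hr hne w hw v (hother r hr hne v (hR.le hv) m (congrArg Subtype.val hm)), mul_inv_cancel_right]
        exact hw
    have h := Subgroup.eq_of_le_of_card_ge (inf_le_left : M ≤ S) (Nat.le_of_dvd Nat.card_pos hd)
    intro v hv
    have hv' : v ∈ S ⊓ Subgroup.normalizer (A : Set G) := by rw [h]; exact hv
    exact hv'.2
  -- it contains the element outside
  have hu' : u ∈ Subgroup.normalizer (Subgroup.zpowers h0 : Set G) := mem_normalizer_of_conj fun v hv => by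
    obtain ⟨m, rfl⟩ := Subgroup.mem_zpowers_iff.mp hv
    rw [← conj_zpow, hu.inv, hh0inv, inv_zpow]
    exact inv_mem (Subgroup.zpow_mem _ (Subgroup.mem_zpowers h0) m)
  obtain ⟨R, hh0R, hR, hRu⟩ := B1.exists_invariant_maxP_above hodd hu.2 hSu' (isPGroup_zpowers hk0)
    (Subgroup.zpowers_le.mpr hh0) hu'
  obtain ⟨c, hc⟩ := horbit ⟨R, hR, hRu⟩
  obtain ⟨d, hd⟩ := horbit ⟨P, hP, hPu⟩
  set e := c * d⁻¹
  have he : e • (⟨P, hP, hPu⟩ : X) = ⟨R, hR, hRu⟩ := by
    rw [← hd]
    show (c * d⁻¹) • d • r0 = _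
    rw [← mul_smul, inv_mul_cancel_right]
    exact hc
  have heR : R = P.map (MulAut.conj ((e : C) : G)).toMonoidHom := (congrArg Subtype.val he).symm
  obtain ⟨v, hv, hveq⟩ : h0 ∈ P.map (MulAut.conj ((e : C) : G)).toMonoidHom :=
    heR ▸ hh0R (Subgroup.mem_zpowers h0)
  have heC := Subgroup.mem_inf.mp e.2
  have heu : ((e : C) : G) * u = u * e := Subgroup.mem_centralizer_singleton_iff.mp heC.2
  have hvA : v ∈ A := by
    refine ⟨hv, ?_⟩
    have hv' : v = ((e : C) : G)⁻¹ * h0 * ((e : C) : G)⁻¹⁻¹ := by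
      rw [← hveq]
      show v = ((e : C) : G)⁻¹ * (((e : C) : G) * v * ((e : C) : G)⁻¹) * ((e : C) : G)⁻¹⁻¹
      group
    rw [hv']
    exact conj_inverted hF hx (show Commute ((e : C) : G) u from heu).inv_left.eq hh0inv
  have hh0A : h0 ∈ A := by
    rw [← hveq]
    exact conj_mem_of_normalizer (hnormA heC.1) hvA
  refine hh0F (mem_fitting_of_abelian (T := S) le_rfl (fun s hs v hv => mul_mem (mul_mem hs hv) (inv_mem hs))
    (hAP.trans hP.le) (fun t ht v hv => conj_mem_of_normalizer (hnormA ht) hv)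
    (fun v hv w hw => hPc v hv.1 hv.2 w hw.1 hw.2) hh0A)

end CfsgLib.Bender.NC
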