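import Cfsg.Agent.Lib.Bender.FromB1.NC.Regular
import Cfsg.Agent.Lib.Bender.TwoClosed.Semilinear
import Cfsg.Agent.S0205
import Cfsg.Agent.S3360
import Mathlib.Algebra.Algebra.ZMod

/-!
A good element normalised by a rank one element of order `l`: the part of `F` it centralises is the multiplicative
group of the field of order `2 ^ l`, on which the elements of `C` normalising it act as field automorphisms.

Blueprint: `blueprint/bender/A5b.md`, section 3.
-/

set_option autoImplicit false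
set_option linter.unusedSectionVars false
set_option linter.style.haveILetI false
set_option linter.overlappingInstances false

namespace CfsgLib.Bender.NC

open MulAction Cfsg CfsgLib.Bender CfsgLib.Bender.OneFix CfsgLib.Bender.TwoClosed
open CfsgLib.Bender.B1 (FourIn)

universe u

/-- The automorphism part of a group of semilinear maps is a homomorphism. -/
theorem exists_galHom {V : Type*} [AddCommGroup V] [Module (ZMod 2) V] {R : Type*} [Group R]
    (ρ : R →* (V ≃ₗ[ZMod 2] V)) {K : Type*} [Field K] (e : V ≃+ K)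
    (he : ∀ r : R, ∃ (c : K) (σ : K ≃+* K), ∀ v : V, e (ρ r v) = c * σ (e v)) :
    ∃ θ : R →* (K ≃+* K), ∀ (r : R) (v : V), e (ρ r v) = e (ρ r (e.symm 1)) * θ r (e v) := by
  choose c σ hcσ using he
  have h1 : ∀ r, e (ρ r (e.symm 1)) = c r := fun r => by rw [hcσ, e.apply_symm_apply, map_one, mul_one]
  have hc0 : ∀ r, c r ≠ 0 := fun r h => by
    have h2 := h1 r
    rw [h, AddEquiv.map_eq_zero_iff, LinearEquiv.map_eq_zero_iff, AddEquiv.map_eq_zero_iff] at h2
    exact one_ne_zero h2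
  have hmul : ∀ r r', c (r * r') = c r * σ r (c r') := fun r r' => by
    rw [← h1, map_mul, LinearEquiv.mul_apply, hcσ, h1]
  refine ⟨{ toFun := σ, map_one' := RingEquiv.ext fun t => ?_, map_mul' := fun r r' => RingEquiv.ext fun t => ?_ },
    fun r v => by rw [h1]; exact hcσ r v⟩
  · have h2 := hcσ 1 (e.symm t)
    rw [map_one] at h2
    have h3 : c 1 = 1 := by
      rw [← h1, map_one]
      exact e.apply_symm_apply 1
    rw [h3, one_mul, e.apply_symm_apply] at h2
    exact h2.symm.trans (e.apply_symm_apply t)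
  · have h2 := hcσ (r * r') (e.symm t)
    rw [map_mul, LinearEquiv.mul_apply, hcσ, hcσ, e.apply_symm_apply, hmul, map_mul, ← mul_assoc] at h2
    exact (mul_left_cancel₀ (mul_ne_zero (hc0 r) (fun h => hc0 r' ((RingEquiv.map_eq_zero_iff (σ r)).mp h))) h2).symm

variable {G Ω : Type u} [Group G] [MulAction G Ω] [Finite G] [FaithfulSMul G Ω] (hF : OneFix G Ω)
  (hNB : NoBad G Ω) (hBel : B1.Below.{u} (Nat.card G)) {a b : Ω} {u : G} {F C : Subgroup G}
  (hFr : Frame a b u F C) {y : G} (hy : y ∈ C) (hp : (orderOf y).Prime)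
  (h4 : FourIn (Subgroup.centralizer (Subgroup.zpowers y : Set G))) {x : G} (hx : RankOneElt a b u x)
  (hxy : x ∈ Subgroup.normalizer (Subgroup.zpowers y : Set G))
include hF hNB hBel hFr hy hp h4 hx hxy

/-- A rank one element of order `l` normalising a good element `y`: `F ⊓ C(y)` has order `2 ^ l - 1` and the
elements of `C` normalising `y` act on it as powers of that element. -/
theorem galois :
    Nat.card ↥(F ⊓ Subgroup.centralizer ({y} : Set G)) + 1 = 2 ^ orderOf x ∧
      ∀ c ∈ C, c ∈ Subgroup.normalizer (Subgroup.zpowers y : Set G) →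
        ∃ k : ℕ, ∀ f ∈ F, f * y = y * f → c * f * c⁻¹ = x ^ k * f * (x ^ k)⁻¹ := by
  classical
  haveI : Fact (Nat.Prime 2) := ⟨Nat.prime_two⟩
  haveI := Fact.mk hx.prime
  -- the involutions at `a` centralising `y`
  let E : Subgroup G :=
    { carrier := {g | g • a = a ∧ g * y = y * g ∧ g * g = 1}
      one_mem' := ⟨one_smul G a, by rw [one_mul, mul_one], mul_one 1⟩
      inv_mem' := fun {g} hg => by
        rw [inv_eq_of_mul_eq_one_right hg.2.2]
        exact hg
      mul_mem' := fun {g g'} hg hg' => by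
        have hcom : g * g' = g' * g := by
          by_cases h : g = 1
          · rw [h, one_mul, mul_one]
          by_cases h' : g' = 1
          · rw [h', one_mul, mul_one]
          exact Frame.comm_cent hF hNB hFr hBel hy hp h4 ⟨h, hg.2.2⟩ hg.1 hg.2.1 ⟨h', hg'.2.2⟩ hg'.1 hg'.2.1
        refine ⟨by rw [mul_smul, hg'.1, hg.1],
          ((show Commute g y from hg.2.1).mul_left (show Commute g' y from hg'.2.1)).eq, ?_⟩
        calc g * g' * (g * g') = g * (g' * g) * g' := by group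
          _ = g * g * (g' * g') := by rw [← hcom]; group
          _ = 1 := by rw [hg.2.2, hg'.2.2, one_mul] }
  have hEI : ∀ s : E, s ≠ 1 → IsInv (s : G) := fun s hs => ⟨fun e => hs (Subtype.ext e), s.2.2.2⟩
  haveI : IsMulCommutative E := ⟨⟨fun g g' => Subtype.ext (by
    have h := (E.mul_mem g.2 g'.2).2.2
    calc (g : G) * g' = ((g : G) * g')⁻¹ := (inv_eq_of_mul_eq_one_right h).symm
      _ = g' * g := by
        rw [mul_inv_rev, inv_eq_of_mul_eq_one_right g.2.2.2, inv_eq_of_mul_eq_one_right g'.2.2.2])⟩⟩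
  letI : CommGroup E :=
    { (inferInstance : Group E) with mul_comm := fun s t => IsMulCommutative.is_comm.comm s t }
  let V := Additive E
  letI : Module (ZMod 2) V := AddCommGroup.zmodModule fun s => by
    rw [two_nsmul]
    exact congrArg Additive.ofMul (show Additive.toMul s * Additive.toMul s = 1 from Subtype.ext (Additive.toMul s).2.2.2)
  haveI : Finite V := inferInstanceAs (Finite E)
  haveI : Finite (V ≃ₗ[ZMod 2] V) := Finite.of_injective (fun f : V ≃ₗ[ZMod 2] V => (f : V → V)) DFunLike.coe_injective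
  -- the elements normalising `y` act
  set M : Subgroup G := two a b ⊓ Subgroup.normalizer (Subgroup.zpowers y : Set G) with hM
  have hME : ∀ m ∈ M, ∀ s ∈ E, m * s * m⁻¹ ∈ E := fun m hm s hs => by
    obtain ⟨hma, -⟩ := mem_two.mp (Subgroup.mem_inf.mp hm).1
    have hsy : ∀ w ∈ Subgroup.zpowers y, Commute s w := fun w hw => by
      obtain ⟨k, rfl⟩ := Subgroup.mem_zpowers_iff.mp hw
      exact (show Commute s y from hs.2.1).zpow_right k
    have h1 := hsy _ ((Subgroup.mem_normalizer_iff''.mp (Subgroup.mem_inf.mp hm).2 y).mp (Subgroup.mem_zpowers y))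
    refine ⟨by rw [mul_smul, mul_smul, inv_smul_eq_iff.mpr hma.symm, hs.1, hma], ?_, ?_⟩
    · calc m * s * m⁻¹ * y = m * (s * (m⁻¹ * y * m)) * m⁻¹ := by group
        _ = m * (m⁻¹ * y * m * s) * m⁻¹ := by rw [h1.eq]
        _ = y * (m * s * m⁻¹) := by group
    · rw [show m * s * m⁻¹ * (m * s * m⁻¹) = m * (s * s) * m⁻¹ by group, hs.2.2, mul_one, mul_inv_cancel]
  let act : M →* MulAut E :=
    { toFun := fun m =>
        { toFun := fun s => ⟨(m : G) * s * (m : G)⁻¹, hME m m.2 s s.2⟩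
          invFun := fun s => ⟨(m : G)⁻¹ * s * m, by
            have h := hME _ (inv_mem m.2) s s.2
            rwa [inv_inv] at h⟩
          left_inv := fun s => Subtype.ext (by show (m : G)⁻¹ * ((m : G) * s * (m : G)⁻¹) * m = s; group)
          right_inv := fun s => Subtype.ext (by show (m : G) * ((m : G)⁻¹ * s * m) * (m : G)⁻¹ = s; group)
          map_mul' := fun s t => Subtype.ext (by
            show (m : G) * ((s : G) * t) * (m : G)⁻¹ = (m : G) * s * (m : G)⁻¹ * ((m : G) * t * (m : G)⁻¹)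
            group) }
      map_one' := MulEquiv.ext fun s => Subtype.ext (by show (1 : G) * s * (1 : G)⁻¹ = s; group)
      map_mul' := fun m m' => MulEquiv.ext fun s => Subtype.ext (by
        show ((m : G) * m') * s * ((m : G) * m')⁻¹ = (m : G) * ((m' : G) * s * (m' : G)⁻¹) * (m : G)⁻¹
        group) }
  let ρ0 : M →* (V ≃ₗ[ZMod 2] V) :=
    { toFun := fun m => { MulEquiv.toAdditive (act m) with
        map_smul' := fun c s => ZMod.map_smul (MulEquiv.toAdditive (act m)).toAddMonoidHom c s }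
      map_one' := LinearEquiv.ext fun s => by
        show Additive.ofMul (act 1 (Additive.toMul s)) = s
        rw [map_one]
        rfl
      map_mul' := fun m m' => LinearEquiv.ext fun s => by
        show Additive.ofMul (act (m * m') (Additive.toMul s)) = _
        rw [map_mul]
        rfl }
  -- the part of `F` centralising `y`
  set T : Subgroup G := F ⊓ Subgroup.centralizer ({y} : Set G) with hT
  have hTy : ∀ {f : G}, f ∈ T → f * y = y * f := fun h =>
    Subgroup.mem_centralizer_singleton_iff.mp (Subgroup.mem_inf.mp h).2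
  have hTM : ∀ {f : G}, f ∈ T → f ∈ M := fun {f} h => Subgroup.mem_inf.mpr
    ⟨Frame.le_two hF hNB hFr (Subgroup.mem_inf.mp h).1, mem_normalizer_of_conj fun w hw => by
      obtain ⟨k, rfl⟩ := Subgroup.mem_zpowers_iff.mp hw
      rw [((show Commute f y from hTy h).zpow_right k).eq, mul_inv_cancel_right]
      exact Subgroup.zpow_mem _ (Subgroup.mem_zpowers y) k⟩
  let τ : T → V ≃ₗ[ZMod 2] V := fun f => ρ0 ⟨f, hTM f.2⟩
  have hτ : ∀ (v w : V), v ≠ 0 → w ≠ 0 → ∃! f : T, τ f v = w := fun v w hv hw => by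
    have hvI := hEI (Additive.toMul v) (fun e => hv (congrArg Additive.ofMul e))
    have hwI := hEI (Additive.toMul w) (fun e => hw (congrArg Additive.ofMul e))
    obtain ⟨f, ⟨hf, he⟩, huniq⟩ := Frame.exists_unique_conj hF hNB hFr hvI (Additive.toMul v).2.1 hwI
      (Additive.toMul w).2.1
    have hfy : f * y = y * f :=
      (Frame.commute_iff_conj hF hNB hFr hy hf hvI (Additive.toMul v).2.1 (Additive.toMul v).2.2.1).mp
        (by rw [he]; exact (Additive.toMul w).2.2.1)
    exact ⟨⟨f, hf, Subgroup.mem_centralizer_singleton_iff.mpr hfy⟩, congrArg Additive.ofMul (Subtype.ext he),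
      fun f' hf' => Subtype.ext (huniq f' ⟨(Subgroup.mem_inf.mp f'.2).1,
        congrArg Subtype.val (congrArg Additive.toMul hf')⟩)⟩
  obtain ⟨i₀, hi₀, hi₀a, hi₀y⟩ := Frame.exists_inv_cent hF hNB hFr hy hp
  let v₀ : V := Additive.ofMul (⟨i₀, hi₀a, hi₀y, hi₀.2⟩ : E)
  have hv₀ : v₀ ≠ 0 := fun e => hi₀.1 (congrArg Subtype.val (congrArg Additive.toMul e))
  haveI : Nontrivial V := ⟨⟨v₀, 0, hv₀⟩⟩
  have hne : ∀ (g : V ≃ₗ[ZMod 2] V) {v : V}, v ≠ 0 → g v ≠ 0 := fun g v hv e => hv (g.map_eq_zero_iff.mp e)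
  have hcardV : Nat.card {v : V // v ≠ 0} = Nat.card T :=
    (Nat.card_eq_of_bijective (fun f : T => (⟨τ f v₀, hne _ hv₀⟩ : {v : V // v ≠ 0}))
      ⟨fun f f' e => ((hτ v₀ (τ f v₀) hv₀ (hne _ hv₀)).unique rfl (congrArg Subtype.val e).symm),
        fun w => let ⟨f, hf⟩ := (hτ v₀ w hv₀ w.2).exists; ⟨f, Subtype.ext hf⟩⟩).symm
  -- the field
  have hRodd : Odd (Nat.card ρ0.range) :=
    ((odd_two hF hFr.hab.symm).of_dvd_nat (Subgroup.card_dvd_of_le inf_le_left)).of_dvd_nat
      (Subgroup.card_range_dvd ρ0)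
  rcases Cfsg.Agent.S3360.result 2 (Cfsg.Agent.S0205.result hRodd) ρ0.range.subtype Subtype.val_injective
    (fun v w hv hw => by
      obtain ⟨f, hf, -⟩ := hτ v w hv hw
      exact ⟨⟨τ f, _, rfl⟩, hf⟩) with ⟨K, instK, finK, e, he⟩ | hexc
  swap
  · have hev : Even (Nat.card V) := by
      rw [even_iff_two_dvd]
      show 2 ∣ Nat.card E
      have ho : orderOf (⟨i₀, hi₀a, hi₀y, hi₀.2⟩ : E) = 2 := orderOf_eq_prime (by
        rw [pow_two]; exact Subtype.ext hi₀.2) fun e => hi₀.1 (congrArg Subtype.val e)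
      rw [← ho]
      exact orderOf_dvd_natCard _
    simp only [Set.mem_insert_iff, Set.mem_singleton_iff] at hexc
    rcases hexc with h | h | h | h | h | h <;> rw [h] at hev <;> exact absurd hev (by decide)
  obtain ⟨θ, hθ⟩ := exists_galHom ρ0.range.subtype e he
  let σ : M →* (K ≃+* K) := θ.comp ρ0.rangeRestrict
  have hσ : ∀ (m : M) (v : V), e (ρ0 m v) = e (ρ0 m (e.symm 1)) * σ m (e v) := fun m v =>
    hθ (ρ0.rangeRestrict m) v
  haveI : Finite K := Finite.of_fintype K
  haveI : Finite (K ≃+* K) := DFunLike.finite _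
  -- a fixed involution of the rank one element
  have hxM : x ∈ M := Subgroup.mem_inf.mpr ⟨hx.mem, hxy⟩
  set xM : M := ⟨x, hxM⟩
  have hnd : ¬ orderOf x ∣ Nat.card {v : V // v ≠ 0} := fun h => RankOneElt.not_dvd_invAt hF hNB hx (by
    rw [← Frame.card_F hF hNB hFr]
    exact (hcardV ▸ h).trans (Subgroup.card_dvd_of_le inf_le_left))
  letI : MulAction (Subgroup.zpowers xM) {v : V // v ≠ 0} :=
    { smul := fun m v => ⟨ρ0 m v.1, hne _ v.2⟩
      one_smul := fun v => Subtype.ext (by show ρ0 1 v.1 = v.1; rw [map_one]; rfl)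
      mul_smul := fun m m' v => Subtype.ext (by
        show ρ0 ((m : M) * m') v.1 = ρ0 m (ρ0 m' v.1)
        rw [map_mul]
        rfl) }
  obtain ⟨vz, hvz⟩ := (IsPGroup.of_card (n := 1) (by rw [Nat.card_zpowers, pow_one, ← Subgroup.orderOf_coe xM]) :
    IsPGroup (orderOf x) (Subgroup.zpowers xM)).nonempty_fixed_point_of_prime_not_dvd_card {v : V // v ≠ 0} hnd
  have hvzx : ρ0 xM vz.1 = vz.1 := congrArg Subtype.val (hvz ⟨xM, Subgroup.mem_zpowers xM⟩)
  have hfixed : ∀ v : V, v ≠ 0 → ρ0 xM v = v → v = vz.1 := fun v hv h => by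
    have hcom : ∀ w : V, ρ0 xM w = w → ((Additive.toMul w : E) : G) * x = x * (Additive.toMul w : E) := fun w hw =>
      (mul_inv_eq_iff_eq_mul.mp (congrArg Subtype.val (congrArg Additive.toMul hw))).symm
    exact Additive.toMul.injective (Subtype.ext (RankOneElt.eq_inv hF hNB hx
      (hEI _ fun e => hv (congrArg Additive.ofMul e)) (hEI _ fun e => vz.2 (congrArg Additive.ofMul e))
      (Additive.toMul v).2.1 (Additive.toMul vz.1).2.1 (hcom v h) (hcom _ hvzx)))
  set z0 : K := e vz.1 with hz0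
  have hz00 : z0 ≠ 0 := fun h => vz.2 ((AddEquiv.map_eq_zero_iff e).mp h)
  have hfix : ∀ t : K, σ xM t = t → t = 0 ∨ t = 1 := fun t ht => by
    rcases eq_or_ne (e.symm (t * z0)) 0 with h | h
    · left
      exact (mul_eq_zero.mp ((AddEquiv.map_eq_zero_iff e.symm).mp h)).resolve_right hz00
    · right
      have hc : e (ρ0 xM (e.symm 1)) * σ xM z0 = z0 := by rw [hz0, ← hσ, hvzx]
      have h1 : ρ0 xM (e.symm (t * z0)) = e.symm (t * z0) := e.injective (by
        rw [hσ, e.apply_symm_apply, map_mul, ht, mul_left_comm, hc])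
      have h2 := congrArg e (hfixed _ h h1)
      rw [e.apply_symm_apply] at h2
      exact mul_right_cancel₀ hz00 (h2.trans (one_mul z0).symm)
  have hxo : orderOf (σ xM) = orderOf x := by
    refine orderOf_eq_prime (by
      rw [← map_pow, show xM ^ orderOf x = 1 from Subtype.ext (pow_orderOf_eq_one x), map_one]) fun h => ?_
    obtain ⟨f, hf, hf1, hfy⟩ := (Frame.four_iff hF hNB hFr hy hp).mp h4
    refine hf1 (congrArg Subtype.val ((hτ vz.1 vz.1 vz.2 vz.2).unique
      (y₁ := (⟨f, hf, Subgroup.mem_centralizer_singleton_iff.mpr hfy⟩ : T)) (y₂ := 1) ?_ ?_))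
    · refine hfixed _ (hne _ vz.2) (e.injective ?_)
      rw [hσ, h]
      rcases hfix (e (τ ⟨f, hf, Subgroup.mem_centralizer_singleton_iff.mpr hfy⟩ vz.1) / z0) (by rw [h]; rfl) with h' | h'
      · exact absurd ((AddEquiv.map_eq_zero_iff e).mp ((div_eq_zero_iff.mp h').resolve_right hz00)) (hne _ vz.2)
      · rw [(div_eq_one_iff_eq hz00).mp h']
        have hc : e (ρ0 xM (e.symm 1)) * σ xM z0 = z0 := by rw [hz0, ← hσ, hvzx]
        rwa [h] at hc
    · show ρ0 ⟨((1 : T) : G), _⟩ vz.1 = vz.1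
      rw [show (⟨((1 : T) : G), hTM (1 : T).2⟩ : M) = 1 from rfl, map_one]
      rfl
  have hcardK : Nat.card K = 2 ^ orderOf x := by
    rw [card_eq_two_pow (Subgroup.zpowers (σ xM)) fun t ht => hfix t (ht _ (Subgroup.mem_zpowers _)),
      Nat.card_zpowers, hxo]
  have haut : Subgroup.zpowers (σ xM) = ⊤ := by
    refine Subgroup.eq_top_of_card_eq _ ?_
    have h1 := card_eq_two_pow (⊤ : Subgroup (K ≃+* K)) fun t ht => hfix t (ht _ (Subgroup.mem_top _))
    rw [Subgroup.card_top, hcardK] at h1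
    rw [Nat.card_zpowers, hxo]
    exact Nat.pow_right_injective le_rfl h1
  have hTcard : Nat.card T + 1 = 2 ^ orderOf x := by
    rw [← hcardV, ← hcardK, ← Nat.card_congr e.toEquiv, ← Finite.card_option,
      Nat.card_congr (Equiv.optionSubtypeNe (0 : V))]
  refine ⟨hTcard, fun c hc hcy => ?_⟩
  have hcM : c ∈ M := Subgroup.mem_inf.mpr ⟨Frame.C_le hF hNB hFr hc, hcy⟩
  have hsT : ∀ f : T, σ ⟨f, hTM f.2⟩ = 1 := fun f => by
    refine orderOf_eq_one_iff.mp (Nat.dvd_one.mp ?_)
    have h1 : orderOf (σ ⟨f, hTM f.2⟩) ∣ Nat.card T :=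
      ((orderOf_map_dvd σ _).trans (by rw [← Subgroup.orderOf_coe])).trans
        (Subgroup.orderOf_dvd_natCard T f.2)
    have h2 : orderOf (σ ⟨f, hTM f.2⟩) ∣ orderOf x := by
      rw [← hxo, ← Nat.card_zpowers (σ xM), haut]
      exact Subgroup.orderOf_dvd_natCard _ (Subgroup.mem_top _)
    exact (Nat.dvd_gcd h1 h2).trans (Nat.dvd_one.mpr ((hx.prime.coprime_iff_not_dvd.mpr
      (by rwa [← hcardV])).symm))
  obtain ⟨k, hk⟩ : ∃ k : ℕ, σ ⟨c, hcM⟩ = σ (xM ^ k) := by
    obtain ⟨k, hk⟩ := mem_powers_iff_mem_zpowers.mpr (haut ▸ Subgroup.mem_top (σ ⟨c, hcM⟩))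
    exact ⟨k, by rw [map_pow]; exact hk.symm⟩
  refine ⟨k, fun f hf hfy => ?_⟩
  let fT : T := ⟨f, hf, Subgroup.mem_centralizer_singleton_iff.mpr hfy⟩
  have hmult : ∀ (m : M) (v : V),
      e (ρ0 (m * ⟨f, hTM fT.2⟩ * m⁻¹) v) = σ m (e (ρ0 ⟨f, hTM fT.2⟩ (e.symm 1))) * e v := fun m v => by
    rw [map_mul, map_mul, LinearEquiv.mul_apply, LinearEquiv.mul_apply, hσ, hσ ⟨f, hTM fT.2⟩, hsT fT,
      RingAut.one_apply, map_mul, mul_left_comm, ← hσ m, ← LinearEquiv.mul_apply, ← map_mul ρ0, mul_inv_cancel, map_one ρ0]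
    rfl
  have hconjT : ∀ m : G, m ∈ C → m ∈ Subgroup.normalizer (Subgroup.zpowers y : Set G) → m * f * m⁻¹ ∈ T := by
    intro m hm hmy
    refine Subgroup.mem_inf.mpr ⟨Frame.conj_F_of_C hF hNB hFr hm hf, Subgroup.mem_centralizer_singleton_iff.mpr ?_⟩
    obtain ⟨j, hj⟩ := Subgroup.mem_zpowers_iff.mp
      ((Subgroup.mem_normalizer_iff''.mp hmy y).mp (Subgroup.mem_zpowers y))
    have h1 : f * (m⁻¹ * y * m) = m⁻¹ * y * m * f := by rw [← hj]; exact ((show Commute f y from hfy).zpow_right j).eq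
    calc m * f * m⁻¹ * y = m * (f * (m⁻¹ * y * m)) * m⁻¹ := by group
      _ = m * (m⁻¹ * y * m * f) * m⁻¹ := by rw [h1]
      _ = y * (m * f * m⁻¹) := by group
  have hxk : x ^ k ∈ C := pow_mem (Frame.elt_mem hF hNB hFr hx) k
  refine congrArg Subtype.val ((hτ v₀ (τ ⟨_, hconjT c hc hcy⟩ v₀) hv₀ (hne _ hv₀)).unique
    (y₁ := (⟨_, hconjT c hc hcy⟩ : T)) (y₂ := ⟨_, hconjT (x ^ k) hxk (pow_mem hxy k)⟩) rfl ?_)
  refine e.injective ?_
  show e (ρ0 (xM ^ k * ⟨f, hTM fT.2⟩ * (xM ^ k)⁻¹) v₀) = e (ρ0 (⟨c, hcM⟩ * ⟨f, hTM fT.2⟩ * ⟨c, hcM⟩⁻¹) v₀)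
  rw [hmult, hmult, hk]


end CfsgLib.Bender.NC
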