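import Cfsg.Agent.Lib.Bender.FromB1.NC.Basics
import Cfsg.Agent.S1131

/-!
The inverted elements centralising a good element form a cyclic group.

Blueprint: `blueprint/bender/A5b.md`, section 2, torus lemma.
-/

set_option autoImplicit false
set_option linter.unusedSectionVars false
set_option linter.style.haveILetI false
set_option linter.unusedVariables false

namespace CfsgLib.Bender.NC

open MulAction Cfsg CfsgLib.Bender CfsgLib.Bender.OneFix CfsgLib.Bender.TwoClosed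
open CfsgLib.Bender.B1 (FourIn centres centresPerm centresPerm_eq_one)

universe u v

/-- A rank one set-up may be taken at any involution moving the point. -/
theorem setup_swap {G : Type u} {Ω : Type v} [Group G] [Finite G] [MulAction G Ω] {a : Ω} {t t' : G} {Q : Subgroup G}
    (hS : IsRankOneSetup G Ω a t Q) (h2 : t' * t' = 1) (hne : t' • a ≠ a) : IsRankOneSetup G Ω a t' Q := by
  refine ⟨hS.two_transitive, h2, fun e => hne (by rw [e, one_smul]), fun h => hne (mem_stabilizer_iff.mp h), hS.le,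
    hS.conj_mem, ?_, ?_, hS.even_card, ?_⟩
  · rw [eq_bot_iff]
    rintro x ⟨hx, hxt⟩
    exact Subgroup.mem_bot.mpr (RankOne.eq_one_of_fix hS hx hne (mem_stabilizer_iff.mp hxt))
  · refine le_antisymm (sup_le hS.le inf_le_left) fun h hh => ?_
    have hha := mem_stabilizer_iff.mp hh
    obtain ⟨⟨x, hx⟩, hxb, -⟩ := RankOne.exists_unique_Q hS hne
      (show h • t' • a ≠ a from fun e => hne (smul_left_cancel h (e.trans hha.symm)))
    rw [← mul_inv_cancel_left x h]
    refine Subgroup.mul_mem_sup hx (Subgroup.mem_inf.mpr ⟨mul_mem (inv_mem (hS.le hx)) hh, ?_⟩)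
    rw [mem_stabilizer_iff, mul_smul, inv_smul_eq_iff]
    exact hxb.symm
  · obtain ⟨q, hq, hqt⟩ := RankOne.exists_Q_ta hS hne
    have hqa := RankOne.mem_Q_a hS hq
    have h := hS.odd_card
    rwa [Nat.card_congr (
      { toFun := fun d => ⟨q * d * q⁻¹, Subgroup.mem_inf.mpr ⟨mem_stabilizer_iff.mpr (by
            rw [mul_smul, mul_smul, inv_smul_eq_iff.mpr hqa.symm, mem_stabilizer_iff.mp (Subgroup.mem_inf.mp d.2).1,
              hqa]), mem_stabilizer_iff.mpr (by
            rw [← hqt, mul_smul, mul_smul, inv_smul_smul, mem_stabilizer_iff.mp (Subgroup.mem_inf.mp d.2).2])⟩⟩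
        invFun := fun d => ⟨q⁻¹ * d * q, Subgroup.mem_inf.mpr ⟨mem_stabilizer_iff.mpr (by
            rw [mul_smul, mul_smul, hqa, mem_stabilizer_iff.mp (Subgroup.mem_inf.mp d.2).1, inv_smul_eq_iff, hqa]),
          mem_stabilizer_iff.mpr (by
            rw [mul_smul, mul_smul, hqt, mem_stabilizer_iff.mp (Subgroup.mem_inf.mp d.2).2, inv_smul_eq_iff, hqt])⟩⟩
        left_inv := fun d => Subtype.ext (by show q⁻¹ * (q * (d : G) * q⁻¹) * q = d; group)
        right_inv := fun d => Subtype.ext (by show q * (q⁻¹ * (d : G) * q) * q⁻¹ = d; group) } :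
      ↥(stabilizer G a ⊓ stabilizer G (t • a)) ≃ ↥(stabilizer G a ⊓ stabilizer G (t' • a)))] at h

variable {G Ω : Type u} [Group G] [MulAction G Ω] [Finite G] [FaithfulSMul G Ω] (hF : OneFix G Ω)
  (hNB : NoBad G Ω) (hBel : B1.Below.{u} (Nat.card G)) {a b : Ω} (hab : b ≠ a) {u : G} (hu : IsInv u)
  (hua : u • a = b)
include hF hNB hBel hab hu hua

omit hNB hBel in
/-- An element of the two-point stabiliser centralising the swapper has a third fixed point. -/
theorem third_of_commute {y : G} (hy : y * u = u * y) : Third a b y := by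
  obtain ⟨g, hg⟩ := exists_fix hF hu
  refine ⟨g, fun e => hab (by rw [← hua, ← e, hg]), fun e => hab ?_, commute_fix hF hu hg hy⟩
  have h := hu.swap_back hua
  rw [← e, hg] at h
  rw [← h, ← e]

omit hBel in
/-- Elements of prime order centralising the swapper whose order divides the number of involutions at a point are
good. -/
theorem four_of_dvd {y : G} (hy : y ∈ two a b) (hyu : y * u = u * y) (hp : (orderOf y).Prime)
    (hd : orderOf y ∣ Nat.card (InvAt G a)) : FourIn (Subgroup.centralizer (Subgroup.zpowers y : Set G)) := by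
  by_contra h4
  exact RankOneElt.not_dvd_invAt hF hNB
    (⟨hab, hy, hp, third_of_commute hF hab hu hua hyu, h4, hu, hua, hyu.symm⟩ : RankOneElt a b u y) hd

variable {y : G} (hy : y ∈ two a b) (hyu : y * u = u * y) (hp : (orderOf y).Prime)
  (h4 : FourIn (Subgroup.centralizer (Subgroup.zpowers y : Set G)))
include hy hyu hp h4

/-- The inverted elements of a subgroup of `C_D(y)` are the powers of one of them. -/
theorem exists_gen {S : Subgroup G} (hSD : S ≤ two a b) (hSy : ∀ s ∈ S, s * y = y * s)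
    (hSu : ∀ s ∈ S, u * s * u ∈ S) :
    ∃ j0 ∈ S, u * j0 * u = j0⁻¹ ∧ ∀ j ∈ S, u * j * u = j⁻¹ → j ∈ Subgroup.zpowers j0 := by
  obtain ⟨C, hC, hmem, A, t, Q, hA, hS, hQ⟩ :=
    centraliser_setup hF hNB hBel hab hy hp (third_of_commute hF hab hu hua hyu) h4
  haveI : Finite (centresPerm Ω C).range := Finite.of_surjective _ (MonoidHom.rangeRestrict_surjective _)
  obtain ⟨hya, hyb⟩ := mem_two.mp hy
  obtain ⟨g, hg⟩ := exists_fix hF hu
  set φ := (centresPerm Ω C).rangeRestrict with hφ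
  set U : (centresPerm Ω C).range := φ ⟨u, (hC u).mpr hyu.symm⟩ with hU
  have hCeq : C = Subgroup.centralizer (Subgroup.zpowers y : Set G) := by
    ext z
    rw [hC, mem_cent_zpowers hF hNB]
  have h2 : CfsgLib.SuzukiRankOne.Four (centresPerm Ω C).range :=
    (B1.oneFix_centres hF (hCeq ▸ h4) ((hmem a).mpr hya) ((hmem b).mpr hyb) hab).four
  let B : centres Ω C := ⟨b, (hmem b).mpr hyb⟩
  have hUA : U • A = B := Subtype.ext (show u • (A : Ω) = b by rw [hA, hua])
  have hUU : U * U = 1 := by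
    rw [hU, ← map_mul, show (⟨u, (hC u).mpr hyu.symm⟩ : C) * ⟨u, _⟩ = 1 from Subtype.ext hu.2, map_one]
  have hS' := setup_swap hS hUU (fun e => hab ((congrArg Subtype.val (hUA.symm.trans e)).trans hA))
  obtain ⟨Cc, hCc, hcyc, -⟩ := Cfsg.Agent.S1131.result hS' h2
  have hmemCc : ∀ z, z ∈ Cc ↔ z ∈ invertedBy (stabilizer _ A ⊓ stabilizer _ (U • A)) U := fun z => by
    rw [← SetLike.mem_coe, hCc]
  let ι : S →* C := Subgroup.inclusion fun s hs => (hC s).mpr (hSy s hs)
  let ψ : S →* (centresPerm Ω C).range := φ.comp ι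
  have hψD : ∀ s : S, ψ s ∈ stabilizer _ A ⊓ stabilizer _ (U • A) := fun s => by
    obtain ⟨h1, h2⟩ := mem_two.mp (hSD s.2)
    rw [hUA]
    exact ⟨mem_stabilizer_iff.mpr (Subtype.ext (show (s : G) • (A : Ω) = A by rw [hA, h1])),
      mem_stabilizer_iff.mpr (Subtype.ext h2)⟩
  have hψu : ∀ s : S, U * ψ s * U⁻¹ = ψ ⟨u * s * u, hSu s s.2⟩ := fun s => by
    rw [inv_eq_of_mul_eq_one_right hUU, hU]
    show φ _ * φ (ι s) * φ _ = φ _
    rw [← map_mul, ← map_mul]
    rfl
  have hψinv : ∀ s : S, u * s * u = (s : G)⁻¹ → ψ s ∈ Cc := fun s hs => (hmemCc _).mpr ⟨hψD s, by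
    rw [hψu, show (⟨u * s * u, hSu s s.2⟩ : S) = s⁻¹ from Subtype.ext hs, map_inv]⟩
  haveI := hcyc
  haveI : IsCyclic (Cc ⊓ ψ.range : Subgroup _) :=
    isCyclic_of_injective (Subgroup.inclusion inf_le_left) (Subgroup.inclusion_injective _)
  obtain ⟨γ, hγ⟩ := IsCyclic.exists_generator (α := (Cc ⊓ ψ.range : Subgroup _))
  obtain ⟨hγC, ⟨s0, hs0⟩⟩ := Subgroup.mem_inf.mp γ.2
  have hodd : Odd (Nat.card S) := (odd_two hF hab.symm).of_dvd_nat (Subgroup.card_dvd_of_le hSD)
  obtain ⟨⟨c, j0⟩, ⟨hc, hj0, hscj⟩, -⟩ := RankOne.Inverted.decomp hodd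
    (fun s hs => by rw [hu.inv]; exact hSu s hs) hu.2 s0.2
  dsimp only at hc hj0 hscj
  obtain ⟨hcS, hcu⟩ := Subgroup.mem_inf.mp hc
  have hj0inv : u * j0 * u = j0⁻¹ := by rw [← hj0.2, hu.inv]
  have hj0C := hψinv ⟨j0, hj0.1⟩ hj0inv
  have hc1 : ψ ⟨c, hcS⟩ = 1 := by
    have hcC : ψ ⟨c, hcS⟩ ∈ Cc := by
      have h : ψ s0 = ψ ⟨c, hcS⟩ * ψ ⟨j0, hj0.1⟩ := by
        rw [← map_mul]; exact congrArg ψ (Subtype.ext hscj)
      rw [← mul_inv_eq_iff_eq_mul.mpr h]
      exact mul_mem (hs0 ▸ hγC) (inv_mem hj0C)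
    have h1 := ((hmemCc _).mp hcC).2
    rw [hψu] at h1
    refine eq_one_of_inv_eq ?_ (hodd.of_dvd_nat ((orderOf_map_dvd ψ _).trans (orderOf_dvd_natCard _)))
    rw [← h1]
    refine congrArg ψ (Subtype.ext ?_)
    show u * c * u = c
    rw [← Subgroup.mem_centralizer_singleton_iff.mp hcu, mul_assoc, hu.2, mul_one]
  refine ⟨j0, hj0.1, hj0inv, fun j hj hjinv => ?_⟩
  obtain ⟨n, hn⟩ := Subgroup.mem_zpowers_iff.mp
    (hγ ⟨ψ ⟨j, hj⟩, hψinv ⟨j, hj⟩ hjinv, ⟨j, hj⟩, rfl⟩)
  have hn' : ψ ⟨j0, hj0.1⟩ ^ n = ψ ⟨j, hj⟩ := by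
    have h := congrArg Subtype.val hn
    rw [SubgroupClass.coe_zpow, ← hs0, show s0 = ⟨c, hcS⟩ * ⟨j0, hj0.1⟩ from Subtype.ext hscj, map_mul, hc1,
      one_mul] at h
    exact h
  have hw : ψ (⟨j0, hj0.1⟩ ^ (-n) * ⟨j, hj⟩) = 1 := by
    rw [map_mul, map_zpow, ← hn', ← zpow_add, neg_add_cancel, zpow_zero]
  have hwg : (j0 ^ (-n) * j) • g = g := by
    have h' : centresPerm Ω C (ι (⟨j0, hj0.1⟩ ^ (-n) * ⟨j, hj⟩)) = 1 := congrArg Subtype.val hw
    have h := centresPerm_eq_one h' ((hmem g).mpr (commute_fix hF hu hg hyu))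
    simpa [ι] using h
  have hmemS : j0 ^ (-n) * j ∈ S := mul_mem (zpow_mem hj0.1 _) hj
  have hcom := (cent_iff_fix hF hNB hab hu hua hg (hSD hmemS)).mpr hwg
  have hpow : u * j0 ^ (-n) * u = j0 ^ n := by
    have h := conj_zpow (a := u) (b := j0) (i := -n)
    rw [hu.inv, hj0inv, inv_zpow, zpow_neg, inv_inv] at h
    rw [zpow_neg]
    exact h.symm
  have e1 : j0 ^ (-n) * j = j0 ^ n * j⁻¹ := by
    calc j0 ^ (-n) * j = u * (j0 ^ (-n) * j) * u := by rw [← hcom, mul_assoc, hu.2, mul_one]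
      _ = (u * j0 ^ (-n) * u) * (u * j * u) := by simp only [mul_assoc, ← mul_assoc u u, hu.2, one_mul]
      _ = _ := by rw [hpow, hjinv]
  have hsq : j * j = j0 ^ n * j0 ^ n := by
    calc j * j = j0 ^ n * (j0 ^ (-n) * j) * j := by rw [zpow_neg]; group
      _ = _ := by rw [e1]; group
  exact Subgroup.mem_zpowers_iff.mpr
    ⟨n, (RankOne.Inverted.eq_of_sq hodd hj (zpow_mem hj0.1 _) hsq).symm⟩

end CfsgLib.Bender.NC
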