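import Cfsg.Agent.Lib.Bender.FromB1.NC.Movers
import Mathlib.GroupTheory.Transfer

/-!
Transfer into the abelianisation of the part of `C` inside the group generated by the 2-elements of `G_a` and `F`:
an element of prime power order powering to a good element lies in the derived group.

Blueprint: `blueprint/bender/A5b.md`, section 5.
-/

set_option autoImplicit false
set_option linter.unusedSectionVars false
set_option linter.style.haveILetI false

namespace CfsgLib.Bender.NC

open MulAction Cfsg CfsgLib.Bender CfsgLib.Bender.OneFix CfsgLib.Bender.TwoClosed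
open CfsgLib.Bender.B1 (FourIn)
open scoped commutatorElement

universe u v

/-- The subgroup generated by the 2-elements fixing a point. -/
def twoElts {G : Type u} {Ω : Type v} [Group G] [MulAction G Ω] (a : Ω) : Subgroup G :=
  Subgroup.closure {g : G | g • a = a ∧ ∃ k : ℕ, g ^ 2 ^ k = 1}

/-- The part of `C` inside the group generated by the 2-elements at `a` and `F`. -/
def wSub {G : Type u} {Ω : Type v} [Group G] [MulAction G Ω] (a : Ω) (F C : Subgroup G) : Subgroup G :=
  C ⊓ (twoElts (G := G) a ⊔ F)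

section Basic

variable {G : Type u} {Ω : Type v} [Group G] [MulAction G Ω] {a : Ω}

theorem twoElts_le : twoElts (G := G) a ≤ stabilizer G a :=
  (Subgroup.closure_le _).mpr fun _ hg => mem_stabilizer_iff.mpr hg.1

theorem mem_twoElts {g : G} (hga : g • a = a) (hk : ∃ k : ℕ, g ^ 2 ^ k = 1) : g ∈ twoElts (G := G) a :=
  Subgroup.subset_closure ⟨hga, hk⟩

theorem twoElts_conj {h g : G} (hh : h • a = a) (hg : g ∈ twoElts (G := G) a) :
    h * g * h⁻¹ ∈ twoElts (G := G) a := by
  have hle : twoElts (G := G) a ≤ (twoElts (G := G) a).comap (MulAut.conj h).toMonoidHom :=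
    (Subgroup.closure_le _).mpr fun w hw => mem_twoElts
      (by
        show (h * w * h⁻¹) • a = a
        rw [mul_smul, mul_smul, inv_smul_eq_iff.mpr hh.symm, hw.1, hh])
      (hw.2.imp fun k hk => by
        show (h * w * h⁻¹) ^ 2 ^ k = 1
        rw [conj_pow, hk, mul_one, mul_inv_cancel])
  exact hle hg

end Basic

variable {G Ω : Type u} [Group G] [MulAction G Ω] [Finite G] [FaithfulSMul G Ω] (hF : OneFix G Ω)
  (hNB : NoBad G Ω) (hBel : B1.Below.{u} (Nat.card G)) {a b : Ω} {u : G} {F C : Subgroup G}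
  (hFr : Frame a b u F C)
include hF hNB hBel hFr

/-- The part `K` of `G_a` generated by its 2-elements and `F`. -/
abbrev kSub {G : Type u} {Ω : Type v} [Group G] [MulAction G Ω] (a : Ω) (F : Subgroup G) : Subgroup G :=
  twoElts (G := G) a ⊔ F

theorem kSub_fix {g : G} (hg : g ∈ kSub a F) : g • a = a :=
  mem_stabilizer_iff.mp ((sup_le twoElts_le ((Frame.le_two hF hNB hFr).trans inf_le_left) :
    kSub a F ≤ stabilizer G a) hg)

theorem kSub_mem_two {g : kSub (G := G) a F} (h : (g : G) • b = b) : g ∈ (two a b).subgroupOf (kSub a F) :=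
  Subgroup.mem_subgroupOf.mpr (mem_two.mpr ⟨kSub_fix hF hNB hBel hFr g.2, h⟩)

/-- The two-point stabiliser maps onto the abelianisation of `W`, killing `F`. -/
theorem exists_theta :
    ∃ θ : (two a b).subgroupOf (kSub (G := G) a F) →* Abelianization (wSub a F C),
      ∀ (d : (two a b).subgroupOf (kSub (G := G) a F)) (w : wSub a F C),
        ((d : kSub (G := G) a F) : G) * (w : G)⁻¹ ∈ F → θ d = Abelianization.of w := by
  classical
  set W := wSub a F C with hW
  set K₀ : Subgroup G := kSub a F with hK₀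
  have hWC : W ≤ C := inf_le_left
  let D₀ : Subgroup K₀ := (two a b).subgroupOf K₀
  have hdec : ∀ d : D₀, ∃ w : W, ((d : K₀) : G) * (w : G)⁻¹ ∈ F := fun d => by
    obtain ⟨f, hf, c', hc', he⟩ := Frame.exists_mul hF hNB hFr (Subgroup.mem_subgroupOf.mp d.2)
    refine ⟨⟨c', hc', ?_⟩, ?_⟩
    · have h := mul_mem (inv_mem (Subgroup.mem_sup_right hf : f ∈ K₀)) (d : K₀).2
      rwa [he, inv_mul_cancel_left] at h
    · show ((d : K₀) : G) * c'⁻¹ ∈ F
      rw [he, mul_inv_cancel_right]
      exact hf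
  choose wOf hwOf using hdec
  have huniq : ∀ (d : D₀) (w : W), ((d : K₀) : G) * (w : G)⁻¹ ∈ F → wOf d = w := fun d w hw => by
    refine Subtype.ext (inv_mul_eq_one.mp (Frame.eq_one_of_mem hF hNB hFr ?_ (mul_mem (inv_mem (hWC (wOf d).2)) (hWC w.2))))
    have h1 := Frame.conj_F_of_C hF hNB hFr (inv_mem (hWC (wOf d).2)) (mul_mem (inv_mem hw) (hwOf d))
    have h2 := inv_mem h1
    rwa [show ((wOf d : G)⁻¹ * ((((d : K₀) : G) * (w : G)⁻¹)⁻¹ * (((d : K₀) : G) * (wOf d : G)⁻¹)) *
      (wOf d : G)⁻¹⁻¹)⁻¹ = (w : G)⁻¹ * (wOf d : G) by group, ← inv_mem_iff,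
      show ((w : G)⁻¹ * (wOf d : G))⁻¹ = (wOf d : G)⁻¹ * w by group] at h2
  let θ : D₀ →* Abelianization W :=
    { toFun := fun d => Abelianization.of (wOf d)
      map_one' := by
        rw [huniq 1 1 (by simp), map_one]
      map_mul' := fun d d' => by
        rw [← map_mul]
        refine congrArg _ (huniq _ _ ?_)
        have h1 := mul_mem (hwOf d) (Frame.conj_F_of_C hF hNB hFr (hWC (wOf d).2) (hwOf d'))
        rwa [show ((d : K₀) : G) * (wOf d : G)⁻¹ * ((wOf d : G) * (((d' : K₀) : G) * (wOf d' : G)⁻¹) * (wOf d : G)⁻¹) =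
          (((d * d' : D₀) : K₀) : G) * ((wOf d * wOf d' : W) : G)⁻¹ by push_cast; group] at h1 }
  exact ⟨θ, fun d w hw => congrArg Abelianization.of (huniq d w hw)⟩

/-- Transfer: an element of `W` of prime power order on which fusion is visible lies in the derived group. -/
theorem mem_commutator_of_key {t n : ℕ} (ht : t.Prime) {c : G} (hc : c ∈ wSub a F C) (ho : c ^ t ^ n = 1)
    (hnd : ¬ t ∣ ((two a b).subgroupOf (kSub (G := G) a F)).index)
    (hkey : ∀ θ : (two a b).subgroupOf (kSub (G := G) a F) →* Abelianization (wSub a F C),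
      (∀ (d : (two a b).subgroupOf (kSub (G := G) a F)) (w : wSub a F C),
        ((d : kSub (G := G) a F) : G) * (w : G)⁻¹ ∈ F → θ d = Abelianization.of w) →
      ∀ (k : ℕ) (g₀ : kSub (G := G) a F)
        (h : g₀⁻¹ * (⟨c, hc.2⟩ : kSub (G := G) a F) ^ k * g₀ ∈ (two a b).subgroupOf (kSub a F)),
        θ ⟨_, h⟩ = Abelianization.of (⟨c, hc⟩ : wSub a F C) ^ k) :
    c ∈ ⁅wSub a F C, wSub a F C⁆ := by
  classical
  set W := wSub a F C with hW
  set K₀ : Subgroup G := kSub a F with hK₀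
  have hWC : W ≤ C := inf_le_left
  have hWK : W ≤ K₀ := inf_le_right
  have hK₀a : ∀ g ∈ K₀, g • a = a := fun g hg => kSub_fix hF hNB hBel hFr hg
  let D₀ : Subgroup K₀ := (two a b).subgroupOf K₀
  obtain ⟨θ, hθ⟩ := exists_theta hF hNB hBel hFr
  have hθF : ∀ d : D₀, ((d : K₀) : G) ∈ F → θ d = 1 := fun d hd => by
    rw [hθ d 1 (by simpa using hd), map_one]
  have hθconj : ∀ (e h : D₀), θ (h⁻¹ * e * h) = θ e := fun e h => by
    rw [map_mul, map_mul, map_inv, mul_comm (θ h)⁻¹, inv_mul_cancel_right]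
  haveI : Finite (Abelianization W) := Finite.of_surjective _ (fun x => QuotientGroup.mk'_surjective (commutator W) x : Function.Surjective (Abelianization.of : W →* Abelianization W))
  have hoddA : Odd (Nat.card (Abelianization W)) :=
    ((odd_two hF hFr.hab.symm).of_dvd_nat (Subgroup.card_dvd_of_le (hWC.trans (Frame.C_le hF hNB hFr)))).of_dvd_nat
      (Subgroup.card_dvd_of_surjective _ (fun x => QuotientGroup.mk'_surjective (commutator W) x : Function.Surjective (Abelianization.of : W →* Abelianization W)))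
  have hmemD : ∀ {g : K₀}, (g : G) • b = b → g ∈ D₀ := fun {g} h =>
    Subgroup.mem_subgroupOf.mpr (mem_two.mpr ⟨hK₀a g g.2, h⟩)
  -- the transfer is trivial
  letI := D₀.fintypeQuotientOfFiniteIndex
  set T := θ.transfer with hT
  have hTtop : ∀ g : K₀, T g = 1 := by
    have hle : K₀ ≤ T.ker.map K₀.subtype := by
      refine sup_le ((Subgroup.closure_le _).mpr ?_) ?_
      · rintro g ⟨hga, k, hk⟩
        have hgK : g ∈ K₀ := Subgroup.mem_sup_left (mem_twoElts hga ⟨k, hk⟩)
        refine ⟨⟨g, hgK⟩, MonoidHom.mem_ker.mpr ?_, rfl⟩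
        refine orderOf_eq_one_iff.mp (Nat.eq_one_of_dvd_coprimes ((Nat.coprime_two_left.mpr hoddA).pow_left k) ?_
          (orderOf_dvd_natCard _))
        exact orderOf_dvd_of_pow_eq_one (by rw [← map_pow, show (⟨g, hgK⟩ : K₀) ^ 2 ^ k = 1 from Subtype.ext hk, map_one])
      · intro f hf
        have hfK : f ∈ K₀ := Subgroup.mem_sup_right hf
        refine ⟨⟨f, hfK⟩, MonoidHom.mem_ker.mpr ?_, rfl⟩
        rw [hT, MonoidHom.transfer_eq_prod_quotient_orbitRel_zpowers_quot]
        refine Finset.prod_eq_one fun q _ => ?_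
        set g₀ := q.out.out
        set j := Function.minimalPeriod ((⟨f, hfK⟩ : K₀) • ·) q.out
        have hfix : (g₀⁻¹ * (⟨f, hfK⟩ : K₀) ^ j * g₀ : K₀) ∈ D₀ := QuotientGroup.out_conj_pow_minimalPeriod_mem D₀ _ q.out
        rcases eq_or_ne (f ^ j) 1 with h1 | h1
        · convert map_one θ using 2
          refine Subtype.ext (Subtype.ext ?_)
          push_cast
          rw [h1, mul_one, inv_mul_cancel]
        · have hfj : f ^ j ∈ F := pow_mem hf j
          have hb : (f ^ j) • (g₀ : G) • b = (g₀ : G) • b := by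
            have h := (mem_two.mp (Subgroup.mem_subgroupOf.mp hfix)).2
            push_cast at h
            rwa [mul_smul, mul_smul, inv_smul_eq_iff] at h
          rcases fix_inverted hF hNB hFr.hab hFr.inv_u (Frame.inverted hF hNB hFr hfj)
              (Frame.le_two hF hNB hFr hfj) h1 hb with h | h
          · exact absurd (smul_left_cancel (g₀ : G) (h.trans (hK₀a g₀ g₀.2).symm)) hFr.hab
          · have hfD : (⟨f, hfK⟩ : K₀) ^ j ∈ D₀ := Subgroup.mem_subgroupOf.mpr (by
              push_cast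
              exact Frame.le_two hF hNB hFr hfj)
            exact (hθconj ⟨_, hfD⟩ ⟨g₀, hmemD h⟩).trans (hθF ⟨_, hfD⟩ (by push_cast; exact hfj))
    intro g
    obtain ⟨g', hg', he⟩ := hle g.2
    rw [← show g' = g from Subtype.ext he]
    exact hg'
  -- the value at `c`
  set cK : K₀ := ⟨c, hWK hc⟩ with hcK
  have hTc : Abelianization.of (⟨c, hc⟩ : W) ^ D₀.index = 1 := by
    rw [← hTtop cK, hT, MonoidHom.transfer_eq_prod_quotient_orbitRel_zpowers_quot,
      Finset.prod_congr rfl fun q _ => hkey θ hθ _ _ _, Finset.prod_pow_eq_pow_sum, ← Subgroup.index_eq_sum_minimalPeriod]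
  have hone : Abelianization.of (⟨c, hc⟩ : W) = 1 := by
    refine orderOf_eq_one_iff.mp (Nat.eq_one_of_dvd_coprimes
      ((ht.coprime_iff_not_dvd.mpr hnd).pow_left n) ?_ (orderOf_dvd_of_pow_eq_one hTc))
    exact orderOf_dvd_of_pow_eq_one (by rw [← map_pow, show (⟨c, hc⟩ : W) ^ t ^ n = 1 from Subtype.ext ho, map_one])
  have hmem : (⟨c, hc⟩ : W) ∈ (Abelianization.of : W →* Abelianization W).ker := MonoidHom.mem_ker.mpr hone
  rw [Abelianization.ker_of] at hmem
  rw [← Subgroup.map_subtype_commutator W]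
  exact ⟨_, hmem, rfl⟩

/-- The orbit of `b` is prime to the order of a good element in `W`. -/
theorem not_dvd_index {t : ℕ} (ht : t.Prime) {y : G} (hyW : y ∈ wSub a F C) (hyo : orderOf y = t)
    (h4 : FourIn (Subgroup.centralizer (Subgroup.zpowers y : Set G))) :
    ¬ t ∣ ((two a b).subgroupOf (kSub (G := G) a F)).index := by
  classical
  haveI := Fact.mk ht
  set W := wSub a F C with hW
  set K₀ : Subgroup G := kSub a F with hK₀
  have hWC : W ≤ C := inf_le_left
  have hWK : W ≤ K₀ := inf_le_right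
  have hK₀a : ∀ g ∈ K₀, g • a = a := fun g hg => kSub_fix hF hNB hBel hFr hg
  have hyp : (orderOf y).Prime := by rw [hyo]; exact ht
  have hyC := hWC hyW
  have hyD := Frame.C_le hF hNB hFr hyC
  let D₀ : Subgroup K₀ := (two a b).subgroupOf K₀
  have hmemD : ∀ {g : K₀}, (g : G) • b = b → g ∈ D₀ := fun {g} h => kSub_mem_two hF hNB hBel hFr h
  -- the index is prime to `t`
  set yK : K₀ := ⟨y, hWK hyW⟩ with hyK
  have hP : IsPGroup t (Subgroup.zpowers yK) :=
    IsPGroup.of_card (n := 1) (by rw [Nat.card_zpowers, pow_one, ← Subgroup.orderOf_coe, hyo])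
  have hmod := hP.card_modEq_card_fixedPoints (K₀ ⧸ D₀)
  obtain ⟨k, hk⟩ := card_fixed_pow hF hNB hBel hFr.hab hyD hyp (Frame.third hF hNB hFr hyC) h4
    (x := 1) (by rw [one_mul, mul_one]) (one_smul G a) (one_smul G b)
  have hfixcard : Nat.card (fixedPoints (Subgroup.zpowers yK) (K₀ ⧸ D₀)) = 2 ^ k := by
    rw [← hk]
    have hb' : ∀ {g g' : K₀}, (g : K₀ ⧸ D₀) = g' → (g : G) • b = (g' : G) • b := fun {g g'} e => by
      have h := (mem_two.mp (Subgroup.mem_subgroupOf.mp (QuotientGroup.eq.mp e))).2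
      push_cast at h
      rw [mul_smul, inv_smul_eq_iff] at h
      exact h.symm
    have hmaps : ∀ q : fixedPoints (Subgroup.zpowers yK) (K₀ ⧸ D₀),
        (q.1.out : G) • b ≠ a ∧ (1 : G) • (q.1.out : G) • b = (q.1.out : G) • b ∧
          y • (q.1.out : G) • b = (q.1.out : G) • b := fun q => by
      refine ⟨fun e => hFr.hab (smul_left_cancel _ (e.trans (hK₀a q.1.out q.1.out.2).symm)), one_smul _ _, ?_⟩
      have h := q.2 ⟨yK, Subgroup.mem_zpowers yK⟩
      have h' : ((yK * q.1.out : K₀) : K₀ ⧸ D₀) = ((q.1.out : K₀) : K₀ ⧸ D₀) := by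
        rw [← QuotientGroup.out_eq' q.1] at h
        exact h.trans rfl
      rw [← mul_smul]
      exact hb' h'
    refine Nat.card_eq_of_bijective (fun q => ⟨_, hmaps q⟩) ⟨fun q q' e => ?_, fun d => ?_⟩
    · have e' : (q.1.out : G) • b = (q'.1.out : G) • b := congrArg Subtype.val e
      refine Subtype.ext ?_
      rw [← QuotientGroup.out_eq' q.1, ← QuotientGroup.out_eq' q'.1, QuotientGroup.eq]
      exact hmemD (by push_cast; rw [mul_smul, ← e', inv_smul_smul])
    · obtain ⟨g, hga, hgy, hk2, hgb, -⟩ := exists_lift hF hNB hBel hFr.hab hyD hyp (Frame.third hF hNB hFr hyC) h4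
        d.2.1 d.2.2.2
      set gK : K₀ := ⟨g, Subgroup.mem_sup_left (mem_twoElts hga hk2)⟩
      have hfixed : (gK : K₀ ⧸ D₀) ∈ fixedPoints (Subgroup.zpowers yK) (K₀ ⧸ D₀) := fun e => by
        have hy1 : yK • (gK : K₀ ⧸ D₀) = gK := by
          show ((yK * gK : K₀) : K₀ ⧸ D₀) = gK
          rw [show yK * gK = gK * yK from Subtype.ext hgy.symm]
          exact QuotientGroup.mk_mul_of_mem _ (Subgroup.mem_subgroupOf.mpr hyD)
        exact mem_stabilizer_iff.mp (Subgroup.zpowers_le.mpr (mem_stabilizer_iff.mpr hy1) e.2)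
      refine ⟨⟨_, hfixed⟩, Subtype.ext ?_⟩
      show (((gK : K₀ ⧸ D₀).out : K₀) : G) • b = (d : Ω)
      rw [← hgb]
      exact hb' (QuotientGroup.out_eq' _)
  have hnd : ¬ t ∣ D₀.index := fun hd => by
    have h0 : 2 ^ k ≡ 0 [MOD t] := hfixcard ▸ hmod.symm.trans (Nat.modEq_zero_iff_dvd.mpr hd)
    have ht2 := (Nat.prime_dvd_prime_iff_eq ht Nat.prime_two).mp (ht.dvd_of_dvd_pow (Nat.modEq_zero_iff_dvd.mp h0))
    exact prime_ne_two hF hNB hFr.hab hyD hyp (hyo.trans ht2)
  exact hnd

/-- An element of prime power order of `W` whose power of prime order has a four group in its centraliser lies in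
the derived group of `W`. -/
theorem mem_commutator_of_good {t n : ℕ} (ht : t.Prime) {c : G} (hc : c ∈ wSub a F C)
    (ho : orderOf c = t ^ (n + 1))
    (h4 : FourIn (Subgroup.centralizer (Subgroup.zpowers (c ^ t ^ n) : Set G))) :
    c ∈ ⁅wSub a F C, wSub a F C⁆ := by
  classical
  haveI := Fact.mk ht
  set y := c ^ t ^ n with hy
  have hyW : y ∈ wSub a F C := pow_mem hc _
  have hyo : orderOf y = t := by
    rw [hy, orderOf_pow_of_dvd (pow_ne_zero n ht.ne_zero) (by rw [ho]; exact pow_dvd_pow t n.le_succ), ho,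
      pow_succ, Nat.mul_div_cancel_left _ (pow_pos ht.pos n)]
  have hyp : (orderOf y).Prime := by rw [hyo]; exact ht
  have hyC : y ∈ C := hyW.1
  refine mem_commutator_of_key hF hNB hBel hFr (n := n + 1) ht hc (by rw [← ho, pow_orderOf_eq_one])
    (not_dvd_index hF hNB hBel hFr ht hyW hyo h4) ?_
  set W := wSub a F C with hW
  set K₀ : Subgroup G := kSub a F with hK₀
  have hWC : W ≤ C := inf_le_left
  have hWK : W ≤ K₀ := inf_le_right
  have hK₀a : ∀ g ∈ K₀, g • a = a := fun g hg => kSub_fix hF hNB hBel hFr hg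
  let D₀ : Subgroup K₀ := (two a b).subgroupOf K₀
  have hmemD : ∀ {g : K₀}, (g : G) • b = b → g ∈ D₀ := fun {g} h => kSub_mem_two hF hNB hBel hFr h
  intro θ hθ k g₀ h
  have hθconj : ∀ (e h : D₀), θ (h⁻¹ * e * h) = θ e := fun e h => by
    rw [map_mul, map_mul, map_inv, mul_comm (θ h)⁻¹, inv_mul_cancel_right]
  set cK : K₀ := ⟨c, hWK hc⟩ with hcK
  have hcD : cK ∈ D₀ := Subgroup.mem_subgroupOf.mpr (Frame.C_le hF hNB hFr (hWC hc))
  rw [← hθ ⟨cK, hcD⟩ ⟨c, hc⟩ (by simp [hcK])]
  rw [← map_pow]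
  rcases eq_or_ne (c ^ k) 1 with h1 | h1
  · refine congrArg θ (Subtype.ext ?_)
    push_cast
    rw [show cK ^ k = 1 from Subtype.ext h1, mul_one, inv_mul_cancel]
  set d := (g₀ : G) • b
  have hed : (c ^ k) • d = d := by
    have h' := (mem_two.mp (Subgroup.mem_subgroupOf.mp h)).2
    push_cast at h'
    rwa [mul_smul, mul_smul, inv_smul_eq_iff] at h'
  have hyd : y • d = d := by
    obtain ⟨i, r, hr, hk⟩ := Nat.exists_eq_pow_mul_and_not_dvd (fun e : k = 0 => h1 (by rw [e, pow_zero])) t ht.ne_one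
    have hi : i ≤ n := by
      by_contra hlt
      exact h1 (orderOf_dvd_iff_pow_eq_one.mp (by rw [ho, hk]; exact (pow_dvd_pow t (by omega)).mul_right r))
    have hyr : y ^ r = (c ^ k) ^ t ^ (n - i) := by
      rw [hy, ← pow_mul, ← pow_mul, hk, mul_comm (t ^ i * r), ← mul_assoc, ← pow_add, Nat.sub_add_cancel hi]
    obtain ⟨m, hm⟩ := exists_pow_eq_self_of_coprime (x := y) (n := r)
      (by rw [hyo]; exact ((ht.coprime_iff_not_dvd).mpr hr).symm)
    rw [← hm, hyr]
    exact mem_stabilizer_iff.mp (pow_mem (pow_mem (mem_stabilizer_iff.mpr hed) _) _)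
  have hda : d ≠ a := fun e => hFr.hab (smul_left_cancel (g₀ : G) (e.trans (hK₀a g₀ g₀.2).symm))
  obtain ⟨g, hga, hk2, hgb, -, hge⟩ := Frame.exists_mover hF hNB hBel hFr hyC hyp h4
    (pow_mem (Frame.C_le hF hNB hFr (hWC hc)) k) (Commute.pow_pow_self c k (t ^ n)).eq hda hyd hed
  set gK : K₀ := ⟨g, Subgroup.mem_sup_left (mem_twoElts hga hk2)⟩ with hgK
  have hh : gK⁻¹ * g₀ ∈ D₀ := hmemD (by
    push_cast
    rw [mul_smul, inv_smul_eq_iff, hgb])
  have hcomm : gK⁻¹ * cK ^ k * gK = cK ^ k := Subtype.ext (by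
    push_cast
    rw [mul_assoc, ← hge, inv_mul_cancel_left])
  have he : (⟨g₀⁻¹ * cK ^ k * g₀, h⟩ : D₀) =
      (⟨gK⁻¹ * g₀, hh⟩ : D₀)⁻¹ * (⟨cK, hcD⟩ : D₀) ^ k * ⟨gK⁻¹ * g₀, hh⟩ := by
    refine Subtype.ext ?_
    push_cast
    conv_rhs => rw [← hcomm]
    group
  rw [he]
  exact hθconj _ _

end CfsgLib.Bender.NC
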