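import Cfsg.Agent.Lib.Bender.FromB1.NC.EndRegular
import Cfsg.Agent.Lib.Bender.FromB1.NC.Galois
import Cfsg.Agent.Lib.Bender.FromB1.NC.Torus
import Cfsg.Agent.Lib.Bender.FromB1.NC.Transfer
import Cfsg.Agent.Lib.OddOrder.FeitThompson
import Mathlib.GroupTheory.SpecificGroups.ZGroup

/-!
The elements of `C` normalising a good element, and the primes of the abelianisation of `W`.

Blueprint: `blueprint/bender/A5c_audit.md`, sections 3 to 5.
-/

set_option autoImplicit false
set_option linter.unusedSectionVars false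
set_option linter.style.haveILetI false

namespace CfsgLib.Bender.NC

open MulAction Cfsg CfsgLib.Bender CfsgLib.Bender.OneFix CfsgLib.Bender.TwoClosed
open CfsgLib.Bender.B1 (FourIn)
open scoped commutatorElement

universe u

/-- A prime of the abelianisation of `W` has cyclic Sylow subgroups in `W` whose elements of that order have rank
one. -/
def AbRankOne {G Ω : Type u} [Group G] [MulAction G Ω] (a b : Ω) (u : G) (F C : Subgroup G) : Prop :=
  ∀ l : ℕ, l.Prime → l ∣ (⁅wSub a F C, wSub a F C⁆).relIndex (wSub a F C) →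
    ∀ R : Subgroup G, MaxP l (wSub a F C) R → IsCyclic R ∧ ∀ y ∈ R, orderOf y = l → RankOneElt a b u y

variable {G Ω : Type u} [Group G] [MulAction G Ω] [Finite G] [FaithfulSMul G Ω] (hF : OneFix G Ω)
  (hNB : NoBad G Ω) (hBel : B1.Below.{u} (Nat.card G)) {a b : Ω} {u : G} {F C : Subgroup G}
  (hFr : Frame a b u F C)
include hF hNB hBel hFr

/-- The elements of `F` of order prime to `q` form a subgroup. -/
theorem exists_primePart {q : ℕ} (hq : q.Prime) :
    ∃ Φ : Subgroup G, ∀ f : G, f ∈ Φ ↔ f ∈ F ∧ ¬ q ∣ orderOf f :=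
  ⟨{ carrier := {f | f ∈ F ∧ ¬ q ∣ orderOf f}
     one_mem' := ⟨one_mem F, by rw [orderOf_one]; exact hq.not_dvd_one⟩
     mul_mem' := fun {s t} ⟨hs, hsq⟩ ⟨ht, htq⟩ => ⟨mul_mem hs ht, fun h =>
       ((hq.dvd_mul).mp (h.trans (show Commute s t from hFr.comm_F s hs t ht).orderOf_mul_dvd_mul_orderOf)).elim
         hsq htq⟩
     inv_mem' := fun {s} ⟨hs, hsq⟩ => ⟨inv_mem hs, by rwa [orderOf_inv]⟩ }, fun _ => Iff.rfl⟩

/-- The elements of `F` centralising a good element form a cyclic group. -/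
theorem cent_cyclic {y : G} (hy : y ∈ C) (hp : (orderOf y).Prime)
    (h4 : FourIn (Subgroup.centralizer (Subgroup.zpowers y : Set G))) :
    ∃ j0 ∈ F, j0 * y = y * j0 ∧ ∀ f ∈ F, f * y = y * f → f ∈ Subgroup.zpowers j0 := by
  have hyC := (Frame.mem_C hF hNB hFr).mp hy
  obtain ⟨j0, hj0, -, hgen⟩ := exists_gen hF hNB hBel hFr.hab hFr.inv_u hFr.swap hyC.1 hyC.2 hp h4
    (S := F ⊓ Subgroup.centralizer ({y} : Set G))
    (inf_le_left.trans (Frame.le_two hF hNB hFr))
    (fun s hs => Subgroup.mem_centralizer_singleton_iff.mp hs.2)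
    (fun s hs => Subgroup.mem_inf.mpr ⟨by rw [Frame.inverted hF hNB hFr hs.1]; exact inv_mem hs.1,
      Subgroup.mem_centralizer_singleton_iff.mpr (by
        rw [Frame.inverted hF hNB hFr hs.1]
        exact (show Commute s y from Subgroup.mem_centralizer_singleton_iff.mp hs.2).inv_left.eq)⟩)
  exact ⟨j0, hj0.1, Subgroup.mem_centralizer_singleton_iff.mp hj0.2, fun f hf hfy =>
    hgen f ⟨hf, Subgroup.mem_centralizer_singleton_iff.mpr hfy⟩ (Frame.inverted hF hNB hFr hf)⟩

variable {y : G} (hy : y ∈ C) (hp : (orderOf y).Prime)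
  (h4 : FourIn (Subgroup.centralizer (Subgroup.zpowers y : Set G))) {x : G} (hx : RankOneElt a b u x)
  (hxy : x ∈ Subgroup.normalizer (Subgroup.zpowers y : Set G))

omit hBel in
/-- The centraliser of `y` in `F` is invariant under the normaliser of `y` in `C`. -/
theorem conj_cent {c f : G} (hc : c ∈ C) (hcy : c ∈ Subgroup.normalizer (Subgroup.zpowers y : Set G)) (hf : f ∈ F)
    (hfy : f * y = y * f) : c * f * c⁻¹ ∈ F ∧ c * f * c⁻¹ * y = y * (c * f * c⁻¹) := by
  refine ⟨Frame.conj_F_of_C hF hNB hFr hc hf, ?_⟩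
  obtain ⟨n, hn⟩ := Subgroup.mem_zpowers_iff.mp
    ((Subgroup.mem_normalizer_iff''.mp hcy y).mp (Subgroup.mem_zpowers y))
  have h1 : Commute f (c⁻¹ * y * c) := hn ▸ (show Commute f y from hfy).zpow_right n
  calc c * f * c⁻¹ * y = c * (f * (c⁻¹ * y * c)) * c⁻¹ := by group
    _ = y * (c * f * c⁻¹) := by rw [h1.eq]; group

include hy hp h4 hx hxy

/-- An element of `C` normalising `y` which fixes one non-trivial element of `C_F(y)` centralises `C_F(y)`, and its
power with exponent the order of `x` does. -/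
theorem cent_of_normalises {c : G} (hc : c ∈ C) (hcy : c ∈ Subgroup.normalizer (Subgroup.zpowers y : Set G)) :
    ((∃ f₀ ∈ F, f₀ ≠ 1 ∧ f₀ * y = y * f₀ ∧ c * f₀ = f₀ * c) → ∀ f ∈ F, f * y = y * f → c * f = f * c) ∧
      ∀ f ∈ F, f * y = y * f → c ^ orderOf x * f = f * c ^ orderOf x := by
  obtain ⟨k, hk⟩ := (galois hF hNB hBel hFr hy hp h4 hx hxy).2 c hc hcy
  refine ⟨fun ⟨f₀, hf₀, hf₀1, hf₀y, hcf₀⟩ f hf hfy => ?_, fun f hf hfy => ?_⟩
  · have hxk : x ^ k = 1 := by
      by_contra hne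
      haveI := Fact.mk hx.prime
      refine hf₀1 (Frame.cent_elt hF hNB hFr hx hf₀ ?_)
      have hcom : Commute f₀ (x ^ k) := by
        have h1 := hk f₀ hf₀ hf₀y
        rw [hcf₀, mul_inv_cancel_right] at h1
        exact (mul_inv_eq_iff_eq_mul.mp h1.symm).symm
      have hmem : x ∈ Subgroup.zpowers (x ^ k) := by
        have hcop : (orderOf x).Coprime k := hx.prime.coprime_iff_not_dvd.mpr fun hd =>
          hne (orderOf_dvd_iff_pow_eq_one.mp hd)
        obtain ⟨n, hn⟩ := exists_pow_eq_self_of_coprime hcop.symm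
        exact Subgroup.mem_zpowers_iff.mpr ⟨n, by rw [zpow_natCast, hn]⟩
      obtain ⟨n, hn⟩ := Subgroup.mem_zpowers_iff.mp hmem
      have h2 := hcom.zpow_right n
      rw [hn] at h2
      exact h2.eq
    have h := hk f hf hfy
    rw [hxk, one_mul, inv_one, mul_one] at h
    exact mul_inv_eq_iff_eq_mul.mp h
  · have hiter : ∀ n : ℕ, ∀ f ∈ F, f * y = y * f → c ^ n * f * (c ^ n)⁻¹ = x ^ (k * n) * f * (x ^ (k * n))⁻¹ := by
      intro n
      induction n with
      | zero => intro f _ _; simp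
      | succ n ih =>
        intro f hf hfy
        have hfc := conj_cent hF hNB hFr hc hcy hf hfy
        rw [show c ^ (n + 1) * f * (c ^ (n + 1))⁻¹ = c ^ n * (c * f * c⁻¹) * (c ^ n)⁻¹ by rw [pow_succ]; group,
          ih _ hfc.1 hfc.2, hk f hf hfy, Nat.mul_succ, pow_add]
        group
    have h := hiter (orderOf x) f hf hfy
    rw [mul_comm k, pow_mul, pow_orderOf_eq_one, one_pow, one_mul, inv_one, mul_one] at h
    exact mul_inv_eq_iff_eq_mul.mp h

omit hy hp h4 hx hxy

theorem invs_le_twoElts : invs (G := G) a ≤ twoElts (G := G) a :=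
  (Subgroup.closure_le _).mpr fun w ⟨hw, hwa⟩ => mem_twoElts hwa ⟨1, by rw [pow_one, pow_two]; exact hw.2⟩

theorem mem_wSub_of_invs {c : G} (hc : c ∈ C) (hcX : c ∈ invs (G := G) a ⊔ F) : c ∈ wSub a F C :=
  ⟨hc, sup_le_sup_right (invs_le_twoElts hF hNB hBel hFr) F hcX⟩

/-- `C` normalises `W`. -/
theorem conj_wSub {c w : G} (hc : c ∈ C) (hw : w ∈ wSub a F C) : c * w * c⁻¹ ∈ wSub a F C := by
  obtain ⟨hw1, hw2⟩ := Subgroup.mem_inf.mp hw
  refine Subgroup.mem_inf.mpr ⟨mul_mem (mul_mem hc hw1) (inv_mem hc), ?_⟩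
  have hle : twoElts (G := G) a ⊔ F ≤ (twoElts (G := G) a ⊔ F).comap (MulAut.conj c).toMonoidHom :=
    sup_le (fun g hg => (le_sup_left : twoElts (G := G) a ≤ twoElts a ⊔ F)
        (twoElts_conj (mem_two.mp (Frame.C_le hF hNB hFr hc)).1 hg))
      (fun g hg => (le_sup_right : F ≤ twoElts (G := G) a ⊔ F) (Frame.conj_F_of_C hF hNB hFr hc hg))
  exact hle hw2

/-- `C` normalises the derived group of `W`. -/
theorem conj_derived {c w : G} (hc : c ∈ C) (hw : w ∈ ⁅wSub a F C, wSub a F C⁆) :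
    c * w * c⁻¹ ∈ ⁅wSub a F C, wSub a F C⁆ := by
  have hle : ⁅wSub a F C, wSub a F C⁆ ≤ (⁅wSub a F C, wSub a F C⁆).comap (MulAut.conj c).toMonoidHom :=
    Subgroup.commutator_le.mpr fun s hs t ht => by
      show MulAut.conj c ⁅s, t⁆ ∈ ⁅wSub a F C, wSub a F C⁆
      rw [map_commutatorElement]
      exact Subgroup.commutator_mem_commutator (conj_wSub hF hNB hBel hFr hc hs) (conj_wSub hF hNB hBel hFr hc ht)
  exact hle hw

theorem derived_le : ⁅wSub a F C, wSub a F C⁆ ≤ wSub a F C :=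
  Subgroup.commutator_le.mpr fun _ hs _ ht => mul_mem (mul_mem (mul_mem hs ht) (inv_mem hs)) (inv_mem ht)

theorem odd_wSub : Odd (Nat.card (wSub a F C)) :=
  (odd_two hF hFr.hab.symm).of_dvd_nat
    (Subgroup.card_dvd_of_le ((inf_le_left : wSub a F C ≤ C).trans (Frame.C_le hF hNB hFr)))

theorem solvable_wSub : Group.IsSolvable (wSub a F C) :=
  CfsgLib.OddOrder.feitThompson (odd_wSub hF hNB hBel hFr)

/-- An element of prime order of `W` is in `W'` or its order divides the index of `W'`. -/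
theorem dvd_relIndex_of_not_mem {w : G} (hw : w ∈ wSub a F C) (hwp : (orderOf w).Prime)
    (hnot : w ∉ ⁅wSub a F C, wSub a F C⁆) :
    orderOf w ∣ (⁅wSub a F C, wSub a F C⁆).relIndex (wSub a F C) := by
  set W := wSub a F C with hW
  haveI : ((⁅W, W⁆).subgroupOf W).Normal :=
    ⟨fun y hy g => conj_derived hF hNB hBel hFr g.2.1 hy⟩
  haveI : Finite (W ⧸ (⁅W, W⁆).subgroupOf W) := inferInstance
  have h1 : orderOf (((⟨w, hw⟩ : W) : W ⧸ (⁅W, W⁆).subgroupOf W)) = orderOf w := by
    rcases (Nat.dvd_prime hwp).mp (show orderOf (((⟨w, hw⟩ : W) : W ⧸ (⁅W, W⁆).subgroupOf W)) ∣ orderOf w by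
      rw [← Subgroup.orderOf_mk w hw]; exact orderOf_map_dvd (QuotientGroup.mk' _) _) with h | h
    · rw [orderOf_eq_one_iff, QuotientGroup.eq_one_iff] at h
      exact absurd h hnot
    · exact h
  rw [← h1]
  exact orderOf_dvd_natCard _

variable (hAb : AbRankOne a b u F C)
include hAb

theorem rankOne_of_order {l : ℕ} (hl : l.Prime) (hlW : l ∣ (⁅wSub a F C, wSub a F C⁆).relIndex (wSub a F C))
    {w : G} (hw : w ∈ wSub a F C) (hwo : orderOf w = l) : RankOneElt a b u w := by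
  haveI := Fact.mk hl
  obtain ⟨R, hwR, hR⟩ := exists_maxP (p := l) (IsPGroup.of_card (n := 1)
    (show Nat.card (Subgroup.zpowers w) = l ^ 1 by rw [Nat.card_zpowers, hwo, pow_one])) (Subgroup.zpowers_le.mpr hw)
  exact (hAb l hl hlW R hR).2 w (hwR (Subgroup.mem_zpowers w)) hwo

theorem not_dvd_card_derived {l : ℕ} (hl : l.Prime)
    (hlW : l ∣ (⁅wSub a F C, wSub a F C⁆).relIndex (wSub a F C)) :
    ¬ l ∣ Nat.card ↥⁅wSub a F C, wSub a F C⁆ := by
  haveI := Fact.mk hl
  set W := wSub a F C with hW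
  obtain ⟨R, -, hR⟩ := exists_maxP (p := l) IsPGroup.of_bot (bot_le : ⊥ ≤ W)
  obtain ⟨T, hT⟩ := hR.sylow
  haveI := (hAb l hl hlW R hR).1
  haveI : IsCyclic (R.subgroupOf W) :=
    isCyclic_of_surjective _ (Subgroup.subgroupOfEquivOfLe hR.le).symm.surjective
  haveI : IsCyclic T := by
    show IsCyclic ↥(T : Subgroup W)
    rw [hT]
    infer_instance
  have hmap : ⁅W, W⁆ = (commutator W).map W.subtype := (Subgroup.map_subtype_commutator W).symm
  rw [hmap, Subgroup.card_map_of_injective W.subtype_injective]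
  refine (Sylow.not_dvd_card_commutator_or_not_dvd_index_commutator T).resolve_right fun h => h ?_
  rw [hmap, Subgroup.relIndex, Subgroup.subgroupOf, Subgroup.comap_map_eq_self_of_injective W.subtype_injective] at hlW
  exact hlW

/-- An element of prime power order of `W` for a prime of the abelianisation which normalises a good element has
order dividing that prime. -/
theorem pow_eq_one_of_normalises {y : G} (hy : y ∈ C) (hp : (orderOf y).Prime)
    (h4 : FourIn (Subgroup.centralizer (Subgroup.zpowers y : Set G))) {l j : ℕ} (hl : l.Prime)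
    (hlW : l ∣ (⁅wSub a F C, wSub a F C⁆).relIndex (wSub a F C)) {c : G} (hc : c ∈ wSub a F C)
    (hcy : c ∈ Subgroup.normalizer (Subgroup.zpowers y : Set G)) (hco : c ^ l ^ j = 1) : c ^ l = 1 := by
  obtain ⟨n, -, hn⟩ := (Nat.dvd_prime_pow hl).mp (orderOf_dvd_of_pow_eq_one hco)
  rcases n with _ | _ | n
  · rw [pow_zero, orderOf_eq_one_iff] at hn
    rw [hn, one_pow]
  · rw [zero_add, pow_one] at hn
    rw [← hn]; exact pow_orderOf_eq_one c
  exfalso
  haveI := Fact.mk hl
  set x' := c ^ l ^ (n + 1) with hx'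
  have hx'o : orderOf x' = l := by
    rw [hx', orderOf_pow_of_dvd (pow_ne_zero _ hl.ne_zero) (hn ▸ pow_dvd_pow l (Nat.le_succ _)), hn,
      Nat.pow_div (Nat.le_succ _) hl.pos, show n + 1 + 1 - (n + 1) = 1 by omega, pow_one]
  have hx1 := rankOne_of_order hF hNB hBel hFr hAb hl hlW (pow_mem hc (l ^ (n + 1))) hx'o
  obtain ⟨f, hf, hf1, hfy⟩ := (Frame.four_iff hF hNB hFr hy hp).mp h4
  have h := (cent_of_normalises hF hNB hBel hFr hy hp h4 hx1 (pow_mem hcy _) hc.1 hcy).2 f hf hfy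
  rw [← hx', hx'o] at h
  refine hf1 (Frame.cent_elt hF hNB hFr hx1 hf ?_)
  rw [pow_succ', pow_mul]
  exact ((show Commute (c ^ l) f from h).pow_left _).eq.symm

omit hAb

/-- Without good elements in `W` the involutions at `a` commute. -/
theorem false_of_no_good (hnc : ¬ CommAt G a)
    (h : ∀ w ∈ wSub a F C, (orderOf w).Prime → ¬ FourIn (Subgroup.centralizer (Subgroup.zpowers w : Set G))) :
    False := by
  refine Frame.false_of_semiregular hF hNB hFr hBel hnc fun c hc hcX f hf hf1 hcf => ?_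
  by_contra hc1
  obtain ⟨p, hp, hpd⟩ := Nat.exists_prime_and_dvd fun e => hc1 (orderOf_eq_one_iff.mp e)
  set w := c ^ (orderOf c / p)
  have hwp : (orderOf w).Prime := by rw [orderOf_pow_orderOf_div (orderOf_pos c).ne' hpd]; exact hp
  refine h w (pow_mem (mem_wSub_of_invs hF hNB hBel hFr hc hcX) _) hwp
    ((Frame.four_iff hF hNB hFr (pow_mem hc _) hwp).mpr ⟨f, hf, hf1, ?_⟩)
  exact ((show Commute c f from hcf).pow_left _).eq.symm

end CfsgLib.Bender.NC
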