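import Cfsg.Agent.Lib.Bender.FromB1.NC.Regular
import Cfsg.Agent.Lib.Bender.NCTools.SmallVariance
import Cfsg.Agent.Lib.Coprime
import Cfsg.Agent.Lib.Basic

/-!
The group generated by the involutions at a point in the non-commuting case: its odd normal subgroups, the normal
subgroups containing an involution, and the sizes of the classes.

Blueprint: `blueprint/bender/A5b.md`, section 4.
-/

set_option autoImplicit false
set_option linter.unusedSectionVars false
set_option linter.style.haveILetI false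

namespace CfsgLib.Bender.NC

open MulAction Cfsg CfsgLib.Bender CfsgLib.Bender.OneFix CfsgLib.Bender.TwoClosed
open CfsgLib.Bender.B1 (FourIn)

universe u

/-- A `p`-group fixing `a` fixes `c` when one of its non-trivial elements fixes `c` and nothing outside `a`, `c`. -/
theorem pgroup_fix {G Ω : Type u} [Group G] [MulAction G Ω] [Finite G] {p : ℕ} [Fact p.Prime] {P : Subgroup G}
    (hP : IsPGroup p P) {a c : Ω} (hca : c ≠ a) (hPa : P ≤ stabilizer G a) {y : G} (hy : y ∈ P) (hyc : y • c = c)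
    (hfix : ∀ d : Ω, y • d = d → d = a ∨ d = c) : P ≤ stabilizer G c := by
  haveI := hP.isNilpotent
  set P1 : Subgroup P := (stabilizer G c).subgroupOf P with hP1
  by_contra hle
  have hlt : P1 < ⊤ := lt_top_iff_ne_top.mpr fun h => hle fun x hx =>
    Subgroup.mem_subgroupOf.mp (h ▸ Subgroup.mem_top (⟨x, hx⟩ : P) : (⟨x, hx⟩ : P) ∈ P1)
  obtain ⟨g, hgN, hgP1⟩ := SetLike.exists_of_lt (Group.normalizerCondition_of_isNilpotent P1 hlt)
  refine hgP1 (Subgroup.mem_subgroupOf.mpr (mem_stabilizer_iff.mpr ?_))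
  have hy1 : (⟨y, hy⟩ : P) ∈ P1 := Subgroup.mem_subgroupOf.mpr (mem_stabilizer_iff.mpr hyc)
  have h := mem_stabilizer_iff.mp (Subgroup.mem_subgroupOf.mp
    ((Subgroup.mem_normalizer_iff.mp (inv_mem hgN) _).mp hy1))
  simp only [inv_inv, Subgroup.coe_mul, Subgroup.coe_inv, mul_smul, inv_smul_eq_iff] at h
  rcases hfix _ h with e | e
  · exact absurd (smul_left_cancel (g : G) (e.trans (mem_stabilizer_iff.mp (hPa g.2)).symm)) hca
  · exact e

/-- The index of a subgroup in its join with a normalised subgroup divides the order of that subgroup. -/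
theorem relIndex_sup_dvd {G : Type u} [Group G] [Finite G] {C M : Subgroup G}
    (hn : C ≤ Subgroup.normalizer (M : Set G)) :
    C.relIndex (C ⊔ M) = C.relIndex M ∧ C.relIndex M ∣ Nat.card M := by
  refine ⟨?_, Subgroup.relIndex_dvd_card _ _⟩
  set L := C ⊔ M
  haveI : (M.subgroupOf L).Normal :=
    (Subgroup.normal_subgroupOf_iff_le_normalizer le_sup_right).mpr (sup_le hn Subgroup.le_normalizer)
  have h := Subgroup.relIndex_sup_right (H := C.subgroupOf L) (K := M.subgroupOf L)
  rw [← Subgroup.subgroupOf_sup le_sup_left le_sup_right, Subgroup.relIndex_subgroupOf le_rfl,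
    Subgroup.relIndex_subgroupOf le_sup_left] at h
  have e1 := Subgroup.card_mul_index (C.subgroupOf L)
  have e2 := Subgroup.card_mul_index (M.subgroupOf L)
  have e3 := Subgroup.card_mul_index ((C ⊓ M).subgroupOf C)
  have e4 := Subgroup.card_mul_index ((C ⊓ M).subgroupOf M)
  rw [Nat.card_congr (Subgroup.subgroupOfEquivOfLe (le_sup_left : C ≤ L)).toEquiv] at e1
  rw [Nat.card_congr (Subgroup.subgroupOfEquivOfLe (le_sup_right : M ≤ L)).toEquiv] at e2
  rw [Nat.card_congr (Subgroup.subgroupOfEquivOfLe (inf_le_left : C ⊓ M ≤ C)).toEquiv] at e3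
  rw [Nat.card_congr (Subgroup.subgroupOfEquivOfLe (inf_le_right : C ⊓ M ≤ M)).toEquiv] at e4
  change Nat.card C * C.relIndex L = _ at e1
  change Nat.card M * M.relIndex L = _ at e2
  change Nat.card ↥(C ⊓ M) * (C ⊓ M).relIndex C = _ at e3
  change Nat.card ↥(C ⊓ M) * (C ⊓ M).relIndex M = _ at e4
  rw [Subgroup.inf_relIndex_left] at e3
  rw [Subgroup.inf_relIndex_right] at e4
  rw [h] at e2
  refine Nat.eq_of_mul_eq_mul_left (Nat.card_pos (α := C)) ?_
  rw [e1, ← e2, ← e4, ← e3]
  ring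

namespace Frame

variable {G Ω : Type u} [Group G] [MulAction G Ω] [Finite G] [FaithfulSMul G Ω] (hF : OneFix G Ω)
  (hNB : NoBad G Ω) {a b : Ω} {u : G} {F C : Subgroup G} (hFr : Frame a b u F C)
include hF hNB hFr

theorem fix_pair {f : G} (hf : f ∈ F) (hf1 : f ≠ 1) {c : Ω} (hc : f • c = c) : c = a ∨ c = b :=
  fix_inverted hF hNB hFr.hab hFr.inv_u (inverted hF hNB hFr hf) (le_two hF hNB hFr hf) hf1 hc

/-- An odd subgroup normal in the point stabiliser meets `F` trivially. -/
theorem odd_inter_F {O : Subgroup G} (hO : O ≤ stabilizer G a)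
    (hOn : ∀ h ∈ stabilizer G a, ∀ y ∈ O, h * y * h⁻¹ ∈ O) (hodd : Odd (Nat.card O)) {f : G} (hfO : f ∈ O)
    (hf : f ∈ F) : f = 1 := by
  by_contra hf1
  obtain ⟨p, hp, hpd⟩ := Nat.exists_prime_and_dvd fun e => hf1 (orderOf_eq_one_iff.mp e)
  haveI := Fact.mk hp
  set y := f ^ (orderOf f / p)
  have hyo : orderOf y = p := orderOf_pow_orderOf_div (orderOf_pos f).ne' hpd
  have hy1 : y ≠ 1 := fun e => by rw [e, orderOf_one] at hyo; exact hp.ne_one hyo.symm
  obtain ⟨i, hi, hia⟩ := exists_inv_at hF a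
  have hin : i ∈ Subgroup.normalizer (O : Set G) := Subgroup.mem_normalizer_iff.mpr fun z =>
    ⟨hOn i hia z, fun h => by simpa [hi.inv, mul_assoc, ← mul_assoc i i, hi.2] using hOn i hia _ h⟩
  have hcard : Nat.card (Subgroup.zpowers i) = 2 := by
    rw [Nat.card_zpowers]; exact orderOf_eq_prime (by rw [pow_two]; exact hi.2) hi.1
  obtain ⟨S, hS⟩ := CfsgLib.coprime_exists_invariant_sylow (Subgroup.zpowers_le.mpr hin)
    (by rw [hcard]; exact (Nat.coprime_two_left).mpr hodd)
    (Or.inl (Group.isSolvable_of_comm fun a b => IsMulCommutative.is_comm.comm a b)) p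
  have hyO : y ∈ O := pow_mem hfO _
  obtain ⟨T, hT⟩ := IsPGroup.exists_le_sylow (IsPGroup.of_card (n := 1)
    (show Nat.card (Subgroup.zpowers (⟨y, hyO⟩ : O)) = p ^ 1 by
      rw [Nat.card_zpowers, pow_one, ← hyo, ← Subgroup.orderOf_coe]))
  obtain ⟨g, hg⟩ := MulAction.exists_smul_eq O T S
  have hgy : g * ⟨y, hyO⟩ * g⁻¹ ∈ (S : Subgroup O) := by
    rw [← hg]
    exact Subgroup.smul_mem_pointwise_smul _ (MulAut.conj g) (T : Subgroup O) (hT (Subgroup.mem_zpowers _))
  set P := (S : Subgroup O).map O.subtype with hPdef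
  have hyP : (g : G) * y * (g : G)⁻¹ ∈ P := ⟨_, hgy, rfl⟩
  have hga : (g : G) • a = a := hO g.2
  have hfixy : ∀ d : Ω, ((g : G) * y * (g : G)⁻¹) • d = d → d = a ∨ d = (g : G) • b := fun d hd => by
    rw [mul_smul, mul_smul, smul_eq_iff_eq_inv_smul] at hd
    rcases fix_pair hF hNB hFr (pow_mem hf _) hy1 hd with e | e
    · left; rw [inv_smul_eq_iff.mp e, hga]
    · right; exact inv_smul_eq_iff.mp e
  have hne : (g : G) • b ≠ a := fun e => hFr.hab (smul_left_cancel (g : G) (e.trans hga.symm))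
  have hPc : P ≤ stabilizer G ((g : G) • b) :=
    pgroup_fix (S.isPGroup'.map _) hne ((Subgroup.map_subtype_le _).trans hO) hyP
      (smul_conj (mem_two.mp (le_two hF hNB hFr (pow_mem hf _))).2) hfixy
  have hiP : i * ((g : G) * y * (g : G)⁻¹) * i⁻¹ ∈ P :=
    (Subgroup.mem_normalizer_iff.mp (hS (Subgroup.mem_zpowers i)) _).mp hyP
  have h := mem_stabilizer_iff.mp (hPc hiP)
  rw [mul_smul, mul_smul, smul_eq_iff_eq_inv_smul] at h
  rw [hi.inv] at h
  rcases hfixy _ h with e | e
  · exact hne (smul_left_cancel i (e.trans hia.symm))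
  · exact hne (eq_of_fix hF hi e hia)

/-- The class size of an involution at `a` under a normal subgroup of the point stabiliser. -/
theorem relIndex_cent_dvd {M : Subgroup G} (hM : M ≤ stabilizer G a)
    (hMn : ∀ h ∈ stabilizer G a, ∀ y ∈ M, h * y * h⁻¹ ∈ M) {i : G} (hi : IsInv i) (hia : i • a = a) :
    (Subgroup.centralizer ({i} : Set G)).relIndex M ∣ Nat.card (InvAt G a) ∧
      (Subgroup.centralizer ({i} : Set G)).relIndex M ∣ Nat.card M := by
  set H := stabilizer G a
  set Ci := Subgroup.centralizer ({i} : Set G) ⊓ H with hCi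
  have hfH : ∀ {f : G}, f ∈ F → f ∈ H := fun hf => (le_two hF hNB hFr hf).1
  have hindex : Ci.relIndex H = Nat.card (InvAt G a) := by
    rw [← card_F hF hNB hFr]
    refine (Nat.card_eq_of_bijective
      (fun f : F => ((⟨f, hfH f.2⟩ : H) : H ⧸ Ci.subgroupOf H)) ⟨fun f f' h => ?_, fun q => ?_⟩).symm
    · have h' := Subgroup.mem_centralizer_singleton_iff.mp (Subgroup.mem_inf.mp
        (Subgroup.mem_subgroupOf.mp (QuotientGroup.eq.mp h))).1
      exact Subtype.ext (inv_mul_eq_one.mp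
        (eq_one_of_fix hF hNB hFr (mul_mem (inv_mem f.2) f'.2) hi hia (by simpa using h')))
    · obtain ⟨x, rfl⟩ := QuotientGroup.mk_surjective q
      obtain ⟨f, ⟨hf, hfi⟩, -⟩ := exists_unique_conj hF hNB hFr hi hia (hi.conj (x : G))
        (show ((x : G) * i * (x : G)⁻¹) • a = a by
          rw [mul_smul, mul_smul, inv_smul_eq_iff.mpr (mem_stabilizer_iff.mp x.2).symm, hia,
            mem_stabilizer_iff.mp x.2])
      refine ⟨⟨f, hf⟩, QuotientGroup.eq.mpr (Subgroup.mem_subgroupOf.mpr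
        (Subgroup.mem_inf.mpr ⟨?_, mul_mem (inv_mem (hfH hf)) x.2⟩))⟩
      refine Subgroup.mem_centralizer_singleton_iff.mpr ?_
      show f⁻¹ * (x : G) * i = i * (f⁻¹ * (x : G))
      calc f⁻¹ * (x : G) * i = f⁻¹ * ((x : G) * i * (x : G)⁻¹) * x := by group
        _ = _ := by rw [← hfi]; group
  have hn : Ci ≤ Subgroup.normalizer (M : Set G) := fun h hh => Subgroup.mem_normalizer_iff.mpr fun y =>
    ⟨hMn h hh.2 y, fun hy => by simpa [mul_assoc] using hMn h⁻¹ (inv_mem hh.2) _ hy⟩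
  have hrel : Ci.relIndex M = (Subgroup.centralizer ({i} : Set G)).relIndex M := by
    rw [← Subgroup.inf_relIndex_right Ci, ← Subgroup.inf_relIndex_right (Subgroup.centralizer ({i} : Set G)),
      hCi, inf_assoc, inf_eq_right.mpr hM]
  obtain ⟨h1, h2⟩ := relIndex_sup_dvd hn
  rw [hrel] at h1 h2
  exact ⟨hindex ▸ h1 ▸ Dvd.intro _ (Subgroup.relIndex_mul_relIndex Ci (Ci ⊔ M) H le_sup_left
    (sup_le inf_le_right hM)), h2⟩

/-- For a prime dividing the number of involutions at `a`, a normal subgroup of the point stabiliser meets the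
two-point stabiliser in a subgroup of prime-to-`p` index. -/
theorem not_dvd_relIndex_two {M : Subgroup G} (hM : M ≤ stabilizer G a)
    (hMn : ∀ h ∈ stabilizer G a, ∀ y ∈ M, h * y * h⁻¹ ∈ M) {p : ℕ} [Fact p.Prime]
    (hp : p ∣ Nat.card (InvAt G a)) : ¬ p ∣ (M ⊓ two a b).relIndex M := by
  have hpp : p.Prime := Fact.out
  rw [← card_F hF hNB hFr] at hp
  obtain ⟨y, hy⟩ := exists_prime_orderOf_dvd_card' p hp
  rw [← Subgroup.orderOf_coe] at hy
  have hy1 : (y : G) ≠ 1 := fun e => by rw [e, orderOf_one] at hy; exact hpp.ne_one hy.symm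
  obtain ⟨R, hyR, hR⟩ := exists_maxP (p := p) (IsPGroup.of_card (n := 1)
    (show Nat.card (Subgroup.zpowers (y : G)) = p ^ 1 by rw [Nat.card_zpowers, pow_one, hy]))
    (Subgroup.zpowers_le.mpr (le_two hF hNB hFr y.2))
  obtain ⟨T, hRT, hT⟩ := exists_maxP hR.isPGroup (hR.le.trans inf_le_left)
  have hTb : T ≤ stabilizer G b :=
    pgroup_fix hT.isPGroup hFr.hab hT.le (hRT (hyR (Subgroup.mem_zpowers _))) (mem_two.mp (le_two hF hNB hFr y.2)).2
      fun d hd => fix_pair hF hNB hFr y.2 hy1 hd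
  obtain ⟨S, -, hS⟩ := exists_maxP (p := p) IsPGroup.of_bot (bot_le : ⊥ ≤ M)
  obtain ⟨T', hST', hT'⟩ := exists_maxP hS.isPGroup (hS.le.trans hM)
  obtain ⟨g, hg, hgT⟩ := hT'.conj hT
  have hle : S.map (MulAut.conj g).toMonoidHom ≤ M ⊓ two a b := by
    rintro _ ⟨s, hs, rfl⟩
    have hsT := (hgT s).mp (hST' hs)
    exact ⟨hMn g hg s (hS.le hs), hT.le hsT, hTb hsT⟩
  have hdvd := Subgroup.card_dvd_of_le hle
  rw [Subgroup.card_map_of_injective (f := (MulAut.conj g).toMonoidHom) (MulAut.conj g).injective, hS.card] at hdvd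
  intro hpd
  have h1 := Subgroup.card_mul_index ((M ⊓ two a b).subgroupOf M)
  rw [Nat.card_congr (Subgroup.subgroupOfEquivOfLe (inf_le_left : M ⊓ two a b ≤ M)).toEquiv] at h1
  refine Nat.pow_succ_factorization_not_dvd (n := Nat.card M) Nat.card_pos.ne' hpp ?_
  rw [pow_succ]
  conv_rhs => rw [← h1]
  exact Nat.mul_dvd_mul hdvd hpd

/-- Two distinct commuting involutions at `a`. -/
theorem exists_four : ∃ i j : G, IsInv i ∧ i • a = a ∧ IsInv j ∧ j • a = a ∧ i ≠ j ∧ i * j = j * i := by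
  haveI := hF.trans
  obtain ⟨x, y, hx, hy, hne, hx2, hy2, hxy⟩ := hF.four
  obtain ⟨d, hd⟩ := exists_fix hF ⟨hx, hx2⟩
  have hyd : y • d = d := commute_fix hF ⟨hx, hx2⟩ hd hxy.symm
  obtain ⟨g, rfl⟩ := exists_smul_eq G d a
  exact ⟨g * x * g⁻¹, g * y * g⁻¹, IsInv.conj ⟨hx, hx2⟩ g, smul_conj hd, IsInv.conj ⟨hy, hy2⟩ g,
    smul_conj hyd, fun e => hne (mul_left_cancel (mul_right_cancel e)), B1.four_conj hxy⟩

variable (hBel : B1.Below.{u} (Nat.card G)) (hnc : ¬ CommAt G a)
include hBel hnc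

/-- An odd subgroup normal in the point stabiliser centralises the involutions at the point. -/
theorem odd_normal_comm {O : Subgroup G} (hO : O ≤ stabilizer G a)
    (hOn : ∀ h ∈ stabilizer G a, ∀ y ∈ O, h * y * h⁻¹ ∈ O) (hodd : Odd (Nat.card O)) {i : G} (hi : IsInv i)
    (hia : i • a = a) {y : G} (hy : y ∈ O) : y * i = i * y := by
  have hfH : ∀ {f : G}, f ∈ F → f ∈ stabilizer G a := fun hf => (le_two hF hNB hFr hf).1
  have hOD : ∀ d ∈ O, d ∈ two a b → d = 1 := fun d hdO hd => by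
    obtain ⟨f, hf, c, hc, rfl⟩ := exists_mul hF hNB hFr hd
    have hcomm : ∀ f1 ∈ F, f * c * f1 = f1 * (f * c) := fun f1 hf1 => by
      have h1 := odd_inter_F hF hNB hFr hO hOn hodd
        (f := f * c * f1 * (f * c)⁻¹ * f1⁻¹)
        (by
          rw [show f * c * f1 * (f * c)⁻¹ * f1⁻¹ = f * c * (f1 * (f * c)⁻¹ * f1⁻¹) by group]
          exact mul_mem hdO (hOn f1 (hfH hf1) _ (inv_mem hdO)))
        (mul_mem (conj_F hF hNB hFr hd hf1) (inv_mem hf1))
      rwa [mul_inv_eq_one, mul_inv_eq_iff_eq_mul] at h1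
    have hc1 : c = 1 := by
      by_contra hne
      refine hnc (commAt_of_cent hF hNB hFr hBel hc hne fun f1 hf1 => ?_)
      have h2 : Commute f f1 := hFr.comm_F f hf f1 hf1
      have h3 : Commute (f⁻¹ * (f * c)) f1 := h2.inv_left.mul_left (hcomm f1 hf1)
      rwa [inv_mul_cancel_left] at h3
    rw [hc1, mul_one] at hdO ⊢
    exact odd_inter_F hF hNB hFr hO hOn hodd hdO hf
  -- `F` acts freely on the non-trivial elements
  letI act : MulAction F {y : G // y ∈ O ∧ y ≠ 1} :=
    { smul := fun f y => ⟨f * y * (f : G)⁻¹, hOn f (hfH f.2) _ y.2.1, fun e => y.2.2 (by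
        simpa using conj_eq_one_iff.mp e)⟩
      one_smul := fun y => Subtype.ext (show ((1 : F) : G) * y * ((1 : F) : G)⁻¹ = y by simp)
      mul_smul := fun f f' y => Subtype.ext (show ((f * f' : F) : G) * y * ((f * f' : F) : G)⁻¹ =
        f * (f' * y * (f' : G)⁻¹) * (f : G)⁻¹ by push_cast; group) }
  have hfree : ∀ y : {y : G // y ∈ O ∧ y ≠ 1}, MulAction.stabilizer F y = ⊥ := fun y => by
    refine (Subgroup.eq_bot_iff_forall _).mpr fun f hf => ?_
    by_contra hf1
    have h1 : (f : G) * y * (f : G)⁻¹ = y := congrArg Subtype.val (mem_stabilizer_iff.mp hf)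
    exact y.2.2 (hOD _ y.2.1 (cent_le hF hNB hFr f.2 (fun e => hf1 (Subtype.ext e))
      (mem_stabilizer_iff.mp (hO y.2.1)) (mul_inv_eq_iff_eq_mul.mp h1).symm))
  have hdvd := NCTools.index_dvd_card_of_stabilizer ⊥ hfree
  rw [Subgroup.index_bot, card_F hF hNB hFr] at hdvd
  have hsum : Nat.card {y : G // y ∈ O ∧ y ≠ 1} + 1 = Nat.card O := by
    rw [← Nat.card_congr (Equiv.subtypeSubtypeEquivSubtypeInter (· ∈ O) (· ≠ (1 : G)))]
    have h := Set.ncard_add_ncard_compl ({1} : Set O)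
    rw [Set.ncard_singleton, add_comm] at h
    convert h using 2
    rw [← Nat.card_coe_set_eq]
    exact Nat.card_congr (Equiv.subtypeEquivRight fun y => by simp)
  obtain ⟨h1, h2⟩ := relIndex_cent_dvd hF hNB hFr hO hOn hi hia
  rw [← hsum] at h2
  have hone : (Subgroup.centralizer ({i} : Set G)).relIndex O = 1 :=
    Nat.dvd_one.mp ((Nat.dvd_add_right (h1.trans hdvd)).mp h2)
  exact Subgroup.mem_centralizer_singleton_iff.mp (Subgroup.relIndex_eq_one.mp hone hy)

/-- The involutions at `a` do not all centralise one of them. -/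
theorem not_central {i : G} (hi : IsInv i) (hia : i • a = a) : ∃ j : G, IsInv j ∧ j • a = a ∧ i * j ≠ j * i := by
  by_contra h
  push Not at h
  refine hnc fun x y hx hy hxa hya => ?_
  obtain ⟨f, ⟨hf, hfi⟩, -⟩ := exists_unique_conj hF hNB hFr hi hia hx hxa
  have hfa := (mem_two.mp (le_two hF hNB hFr hf)).1
  have h1 := h (f⁻¹ * y * f) (by simpa using hy.conj f⁻¹) (by
    rw [mul_smul, mul_smul, hfa, hya, inv_smul_eq_iff, hfa])
  rw [← hfi]
  calc f * i * f⁻¹ * y = f * (i * (f⁻¹ * y * f)) * f⁻¹ := by group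
    _ = y * (f * i * f⁻¹) := by rw [h1]; group

/-- An element commuting with an involution `i` at `a` up to the odd core of the group generated by the involutions
commutes with it. -/
theorem comm_of_odd {M : Subgroup G} (hM : M ≤ invs (G := G) a)
    (hMn : ∀ g ∈ invs (G := G) a, ∀ y ∈ M, g * y * g⁻¹ ∈ M) (hodd : Odd (Nat.card M)) {i : G} (hi : IsInv i)
    (hia : i • a = a) {g : G} (hg : g * i * g⁻¹ * i ∈ M) : g * i = i * g := by
  set N := invs (G := G) a
  haveI : (M.subgroupOf N).Normal := ⟨fun y hy g => hMn g g.2 _ hy⟩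
  have hMO : M.subgroupOf N ≤ pPrimeCore 2 N := by
    refine CfsgLib.le_pPrimeCore ?_
    rw [Nat.card_congr (Subgroup.subgroupOfEquivOfLe hM).toEquiv]
    exact (Nat.coprime_two_right).mpr hodd
  set O := (pPrimeCore 2 N).map N.subtype
  have hOn : ∀ h ∈ stabilizer G a, ∀ y ∈ O, h * y * h⁻¹ ∈ O := by
    rintro h hh _ ⟨y, hy, rfl⟩
    refine ⟨invsConj a ⟨h, hh⟩ y, ?_, rfl⟩
    exact (Subgroup.characteristic_iff_map_le.mp (CfsgLib.pPrimeCore_characteristic 2) (invsConj a ⟨h, hh⟩))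
      ⟨y, hy, rfl⟩
  have hOodd : Odd (Nat.card O) := by
    rw [Subgroup.card_map_of_injective N.subtype_injective]
    exact (Nat.coprime_two_right).mp (CfsgLib.card_pPrimeCore_coprime (G := N) 2)
  have hOH : O ≤ stabilizer G a := (Subgroup.map_subtype_le _).trans invs_le
  have hcO : g * i * g⁻¹ * i ∈ O := ⟨⟨_, hM hg⟩, hMO hg, rfl⟩
  set c := g * i * g⁻¹ * i with hc
  have hci : c * i = i * c := odd_normal_comm hF hNB hFr hBel hnc hOH hOn hOodd hi hia hcO
  have hconj : g * i * g⁻¹ = c * i := by rw [hc, mul_assoc _ i i, hi.2, mul_one]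
  have hc2 : c ^ 2 = 1 := by
    have h1 := (hi.conj g).2
    rw [hconj] at h1
    rw [pow_two]
    calc c * c = c * (c * (i * i)) := by rw [hi.2, mul_one]
      _ = c * (c * i) * i := by group
      _ = c * (i * c) * i := by rw [hci]
      _ = c * i * (c * i) := by group
      _ = 1 := h1
  have hc1 := eq_one_of_two_odd hc2 (odd_orderOf hOodd hcO)
  rw [hc1, one_mul, mul_inv_eq_iff_eq_mul] at hconj
  exact hconj

/-- A normal subgroup of the group generated by the involutions at `a` containing one of them is the whole group. -/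
theorem eq_invs_of_mem {M : Subgroup G} (hM : M ≤ invs (G := G) a)
    (hMn : ∀ g ∈ invs (G := G) a, ∀ y ∈ M, g * y * g⁻¹ ∈ M) {i : G} (hi : IsInv i) (hia : i • a = a) (hiM : i ∈ M) :
    M = invs (G := G) a := by
  set N := invs (G := G) a
  let cl : G → Subgroup G := fun j => Subgroup.closure ((fun g => g * j * g⁻¹) '' (N : Set G))
  have hinvN : ∀ {j : G}, IsInv j → j • a = a → j ∈ N := fun hj hja => inv_mem_invs hj hja
  have hclmem : ∀ j : G, j ∈ cl j := fun j => Subgroup.subset_closure ⟨1, one_mem N, by simp⟩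
  have hclN : ∀ {j : G}, IsInv j → j • a = a → cl j ≤ N := fun hj hja => (Subgroup.closure_le _).mpr fun y hy => by
    obtain ⟨g, hg, rfl⟩ := hy
    exact mul_mem (mul_mem hg (hinvN hj hja)) (inv_mem hg)
  have hcln : ∀ (j : G), ∀ g ∈ N, ∀ y ∈ cl j, g * y * g⁻¹ ∈ cl j := fun j g hg y hy => by
    have hle : cl j ≤ (cl j).comap (MulAut.conj g).toMonoidHom := (Subgroup.closure_le _).mpr fun w hw => by
      obtain ⟨g', hg', rfl⟩ := hw
      exact Subgroup.subset_closure ⟨g * g', mul_mem hg hg', by simp [mul_assoc]⟩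
    exact hle hy
  have hclle : ∀ {j : G} {X : Subgroup G}, j ∈ X → (∀ g ∈ N, ∀ y ∈ X, g * y * g⁻¹ ∈ X) → cl j ≤ X := fun hj hX =>
    (Subgroup.closure_le _).mpr fun y hy => by
      obtain ⟨g, hg, rfl⟩ := hy
      exact hX g hg _ hj
  have hcard : ∀ {j k : G}, IsInv j → j • a = a → IsInv k → k • a = a → Nat.card (cl j) = Nat.card (cl k) := by
    intro j k hj hja hk hka
    obtain ⟨f, ⟨hf, hfj⟩, -⟩ := exists_unique_conj hF hNB hFr hj hja hk hka
    have hfN := stab_le_normalizer_invs (le_two hF hNB hFr hf).1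
    rw [← Subgroup.card_map_of_injective (K := cl j) (f := (MulAut.conj f).toMonoidHom) (MulAut.conj f).injective]
    refine congrArg (fun X : Subgroup G => Nat.card X) ?_
    rw [MonoidHom.map_closure, Set.image_image]
    refine congrArg Subgroup.closure (?_ : (_ : Set G) = _)
    ext y
    simp only [Set.mem_image, SetLike.mem_coe, MulEquiv.coe_toMonoidHom, MulAut.conj_apply]
    constructor
    · rintro ⟨g, hg, rfl⟩
      exact ⟨f * g * f⁻¹, (Subgroup.mem_normalizer_iff.mp hfN g).mp hg, by rw [← hfj]; group⟩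
    · rintro ⟨g, hg, rfl⟩
      refine ⟨f⁻¹ * g * f, (Subgroup.mem_normalizer_iff.mp hfN _).mpr ?_, by rw [← hfj]; group⟩
      simpa [mul_assoc] using hg
  have heq : ∀ {j k : G}, IsInv j → j • a = a → IsInv k → k • a = a → k ∈ cl j → cl k = cl j :=
    fun {j k} hj hja hk hka h => Subgroup.eq_of_le_of_card_ge (hclle h (hcln j)) (hcard hj hja hk hka).le
  have hcomm : ∀ {j k : G}, IsInv j → j • a = a → IsInv k → k • a = a → cl j ≠ cl k → j * k = k * j := by
    intro j k hj hja hk hka hne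
    refine (comm_of_odd hF hNB hFr hBel hnc (M := cl j ⊓ cl k) (inf_le_left.trans (hclN hj hja))
      (fun g hg y hy => ⟨hcln j g hg y hy.1, hcln k g hg y hy.2⟩) ?_ hj hja (g := k) ⟨?_, ?_⟩).symm
    · refine odd_card_of_forall fun w hw hwi => hne ?_
      have hwa : w • a = a := mem_stabilizer_iff.mp (invs_le (hclN hj hja hw.1))
      rw [← heq hj hja hwi hwa hw.1, heq hk hka hwi hwa hw.2]
    · exact mul_mem (hcln j k (hinvN hk hka) j (hclmem j)) (hclmem j)
    · rw [show k * j * k⁻¹ * j = k * (j * k⁻¹ * j) by group]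
      refine mul_mem (hclmem k) ?_
      have h := hcln k j (hinvN hj hja) _ (inv_mem (hclmem k))
      rwa [hj.inv] at h
  refine le_antisymm hM ?_
  refine le_trans ?_ (hclle hiM hMn)
  refine (Subgroup.closure_le _).mpr fun j ⟨hj, hja⟩ => ?_
  by_contra hjcl
  have hne : cl i ≠ cl j := fun e => hjcl (by rw [e]; exact hclmem j)
  have hij := hcomm hi hia hj hja hne
  set k := i * j with hk
  have hkI : IsInv k := ⟨fun e => hne (by rw [← inv_eq_of_mul_eq_one_right e, hi.inv]), by
    calc k * k = i * (j * i) * j := by rw [hk]; group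
      _ = 1 := by rw [← hij, ← mul_assoc, hi.2, one_mul, hj.2]⟩
  have hka : k • a = a := by rw [hk, mul_smul, hja, hia]
  have hki : cl k ≠ cl i := fun e => hjcl (by
    have h1 : i * k ∈ cl i := mul_mem (hclmem i) (e ▸ hclmem k)
    rwa [hk, ← mul_assoc, hi.2, one_mul] at h1)
  obtain ⟨l, hl, hla, hil⟩ := not_central hF hNB hFr hBel hnc hi hia
  refine hil ?_
  by_cases h : cl l = cl i
  · have h1 : l * j = j * l := hcomm hl hla hj hja (h ▸ hne)
    have h2 : l * k = k * l := hcomm hl hla hkI hka (h ▸ hki.symm)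
    have hik : i = k * j := by rw [hk, mul_assoc, hj.2, mul_one]
    rw [hik]
    exact ((show Commute k l from h2.symm).mul_left (show Commute j l from h1.symm)).eq
  · exact hcomm hi hia hl hla (Ne.symm h)

/-- The commutators with an involution at `a` generate normally the group generated by the involutions. -/
theorem eq_invs_of_comm_mem {M : Subgroup G} (hM : M ≤ invs (G := G) a)
    (hMn : ∀ g ∈ invs (G := G) a, ∀ y ∈ M, g * y * g⁻¹ ∈ M) {i : G} (hi : IsInv i) (hia : i • a = a)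
    (hc : ∀ g ∈ invs (G := G) a, g * i * g⁻¹ * i ∈ M) : M = invs (G := G) a := by
  by_cases h : ∀ w ∈ M, ¬ IsInv w
  · exfalso
    obtain ⟨j, hj, hja, hij⟩ := not_central hF hNB hFr hBel hnc hi hia
    exact hij (comm_of_odd hF hNB hFr hBel hnc hM hMn (odd_card_of_forall h) hi hia
      (hc j (inv_mem_invs hj hja))).symm
  · push Not at h
    obtain ⟨w, hwM, hw⟩ := h
    exact eq_invs_of_mem hF hNB hFr hBel hnc hM hMn hw (mem_stabilizer_iff.mp (invs_le (hM hwM))) hwM

end Frame

end CfsgLib.Bender.NC
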