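import Cfsg.Agent.Lib.Bender.FromB1.Lifts
import Cfsg.Agent.Lib.RankOne.Inverted

/-!
An element of rank one with three fixed points: the frame of the non-commuting case and the first facts.

Blueprint: `blueprint/bender/A5b.md`, section 1.
-/

set_option autoImplicit false
set_option linter.unusedSectionVars false
set_option linter.style.haveILetI false
set_option linter.unusedVariables false

namespace CfsgLib.Bender.NC

open MulAction Cfsg CfsgLib.Bender CfsgLib.Bender.OneFix CfsgLib.Bender.TwoClosed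
open CfsgLib.Bender.B1 (FourIn)

universe u

variable {G Ω : Type u} [Group G] [MulAction G Ω]

/-- An element of prime order with a third fixed point and no four group in its centraliser, with a commuting
swapper. -/
structure RankOneElt (a b : Ω) (u x : G) : Prop where
  hab : b ≠ a
  mem : x ∈ two a b
  prime : (orderOf x).Prime
  third : Third a b x
  no_four : ¬ FourIn (Subgroup.centralizer (Subgroup.zpowers x : Set G))
  inv_u : IsInv u
  swap : u • a = b
  comm : u * x = x * u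

/-- The two-point stabiliser split by the swapper: `F` is the inverted subgroup, `C` the centraliser. -/
structure Frame (a b : Ω) (u : G) (F C : Subgroup G) : Prop where
  hab : b ≠ a
  inv_u : IsInv u
  swap : u • a = b
  mem_F : ∀ y : G, y ∈ F ↔ y ∈ two a b ∧ u * y * u = y⁻¹
  C_eq : C = two a b ⊓ Subgroup.centralizer ({u} : Set G)
  comm_F : ∀ y ∈ F, ∀ y' ∈ F, y * y' = y' * y
  exists_elt : ∃ x : G, RankOneElt a b u x

variable [Finite G] [FaithfulSMul G Ω] (hF : OneFix G Ω) (hNB : NoBad G Ω) {a b : Ω}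
include hF hNB

theorem prime_ne_two {x : G} (hab : b ≠ a) (hx : x ∈ two a b) (hp : (orderOf x).Prime) : orderOf x ≠ 2 := fun e => by
  have := odd_orderOf (odd_two hF hab.symm) hx
  rw [e] at this
  exact absurd this (by decide)

theorem mem_fixSet_zpowers {x : G} {c : Ω} (h : x • c = c) : c ∈ fixSet Ω (Subgroup.zpowers x) := fun _ hy =>
  mem_stabilizer_iff.mp (Subgroup.zpowers_le.mpr (mem_stabilizer_iff.mpr h) hy)

theorem mem_cent_zpowers {x g : G} :
    g ∈ Subgroup.centralizer (Subgroup.zpowers x : Set G) ↔ g * x = x * g := by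
  rw [Subgroup.zpowers_eq_closure, Subgroup.centralizer_closure, Subgroup.mem_centralizer_singleton_iff]

/-- An element of rank one has a commuting swapper. -/
theorem exists_elt (hab : b ≠ a) {x : G} (hx : x ∈ two a b) (hp : (orderOf x).Prime) (h3 : Third a b x)
    (h4 : ¬ FourIn (Subgroup.centralizer (Subgroup.zpowers x : Set G))) : ∃ u : G, RankOneElt a b u x := by
  haveI := Fact.mk hp
  obtain ⟨e, hea, heb, hey⟩ := id h3
  obtain ⟨hxa, hxb⟩ := mem_two.mp hx
  obtain ⟨u, huX, hu, hua⟩ := exists_swap_cent hF hNB (prime_ne_two hF hNB hab hx hp)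
    (IsPGroup.of_card (n := 1) (by rw [Nat.card_zpowers, pow_one]) : IsPGroup (orderOf x) (Subgroup.zpowers x))
    (mem_fixSet_zpowers hF hNB hxa) (mem_fixSet_zpowers hF hNB hxb) (mem_fixSet_zpowers hF hNB hey)
    hab.symm hea.symm heb.symm
  exact ⟨u, hab, hx, hp, h3, h4, hu, hua, (mem_cent_zpowers hF hNB).mp huX⟩

/-- The elements of the two-point stabiliser centralising a swapper are those fixing its point. -/
theorem cent_iff_fix (hab : b ≠ a) {u : G} (hu : IsInv u) (hua : u • a = b) {g : Ω} (hg : u • g = g) {d : G}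
    (hd : d ∈ two a b) : d * u = u * d ↔ d • g = g := by
  refine ⟨fun h => commute_fix hF hu hg h, fun h => ?_⟩
  obtain ⟨hda, hdb⟩ := mem_two.mp hd
  set w := d * u * d⁻¹ * u with hw
  have hub := hu.swap_back hua
  have hw2 : w ∈ two a b := by
    have h1 := swap_conj_two hF hu hua d⁻¹ (inv_mem hd)
    rw [hw, mul_assoc, mul_assoc]
    rw [hu.inv, mul_assoc] at h1
    exact mul_mem hd h1
  have hinv : u * w * u = w⁻¹ := by
    rw [hw, mul_inv_rev, mul_inv_rev, mul_inv_rev, inv_inv, hu.inv]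
    simp only [mul_assoc, hu.2, mul_one]
  have hwg : w • g = g := by
    simp only [hw, mul_smul]
    rw [hg, inv_smul_eq_iff.mpr h.symm, hg, h]
  have hga : a ≠ g := fun e => hab (by
    rw [← hua, e, hg])
  have h1 := hNB u w g a hu hg hinv hwg hga (mem_two.mp hw2).1
  rw [hw, mul_eq_one_iff_eq_inv, hu.inv, mul_inv_eq_iff_eq_mul] at h1
  exact h1

/-- A prime dividing the order of an inverted element divides the number of involutions at a point. -/
theorem dvd_invAt_of_inverted (hab : b ≠ a) {u : G} (hu : IsInv u) (hua : u • a = b) {y : G} (hy : y ∈ two a b)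
    (hinv : u * y * u = y⁻¹) {p : ℕ} (hp : p.Prime) (hpy : p ∣ orderOf y) : p ∣ Nat.card (InvAt G a) := by
  by_contra hpm
  haveI := Fact.mk hp
  set C := two a b ⊓ Subgroup.centralizer ({u} : Set G) with hC
  set w := y ^ (orderOf y / p)
  have hwo : orderOf w = p := orderOf_pow_orderOf_div (orderOf_pos y).ne' hpy
  have hw1 : w ≠ 1 := fun e => by rw [e, orderOf_one] at hwo; exact hp.one_lt.ne hwo
  have hwD : w ∈ two a b := pow_mem hy _
  obtain ⟨R, hyR, hR⟩ := exists_maxP (p := p)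
    (IsPGroup.of_card (n := 1) (by rw [Nat.card_zpowers, hwo, pow_one]) : IsPGroup p (Subgroup.zpowers w))
    (Subgroup.zpowers_le.mpr hwD)
  obtain ⟨P, -, hP⟩ := exists_maxP (p := p) IsPGroup.of_bot (bot_le : ⊥ ≤ C)
  haveI : Nonempty (InvAt G a) := by
    obtain ⟨z, hz, hza⟩ := exists_inv_at hF a
    exact ⟨⟨z, hz, hza⟩⟩
  have hPD : MaxP p (two a b) P := by
    refine maxP_of_card hP.isPGroup (hP.le.trans inf_le_left) ?_
    rw [hP.card, card_two_eq hF hab hu hua, ← hC, Nat.factorization_mul Nat.card_pos.ne' Nat.card_pos.ne',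
      Finsupp.add_apply, Nat.factorization_eq_zero_of_not_dvd hpm, zero_add]
  obtain ⟨d, hd, hdR⟩ := hR.conj hPD
  obtain ⟨g, hg⟩ := exists_fix hF hu
  have hwC : d * w * d⁻¹ ∈ C := hP.le ((hdR w).mp (hyR (Subgroup.mem_zpowers w)))
  have h1 : (d * w * d⁻¹) • g = g := commute_fix hF hu hg (Subgroup.mem_centralizer_singleton_iff.mp hwC.2)
  have h2 : w • d⁻¹ • g = d⁻¹ • g := by
    rw [eq_inv_smul_iff, ← mul_smul, ← mul_smul]
    exact h1
  obtain ⟨hda, hdb⟩ := mem_two.mp hd
  have hgab : g ≠ a ∧ g ≠ b := ⟨fun e => hab (by rw [← hua, ← e, hg]), fun e => hab (by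
    have := hu.swap_back hua
    rw [← e, hg] at this
    rw [← this, ← e])⟩
  rcases fix_inverted hF hNB hab hu (inverted_pow hF hu hinv _) hwD hw1 h2 with e | e
  · exact hgab.1 (by rw [← smul_inv_smul d g, e, hda])
  · exact hgab.2 (by rw [← smul_inv_smul d g, e, hdb])

namespace RankOneElt

variable {u x : G} (hx : RankOneElt a b u x)
include hx

/-- At most one involution at `a` centralises the element. -/
theorem eq_inv {z z' : G} (hz : IsInv z) (hz' : IsInv z') (hza : z • a = a) (hza' : z' • a = a)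
    (hzx : z * x = x * z) (hzx' : z' * x = x * z') : z = z' := by
  haveI := Fact.mk hx.prime
  obtain ⟨e, hea, heb, hey⟩ := hx.third
  obtain ⟨hxa, hxb⟩ := mem_two.mp hx.mem
  exact (rank_one_case hF hNB (prime_ne_two hF hNB hx.hab hx.mem hx.prime)
    (IsPGroup.of_card (n := 1) (by rw [Nat.card_zpowers, pow_one]) : IsPGroup (orderOf x) (Subgroup.zpowers x))
    (mem_fixSet_zpowers hF hNB hxa) (mem_fixSet_zpowers hF hNB hxb) (mem_fixSet_zpowers hF hNB hey)
    hx.hab.symm hea.symm heb.symm hx.no_four).1 z z' hz hz' ((mem_cent_zpowers hF hNB).mpr hzx)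
    ((mem_cent_zpowers hF hNB).mpr hzx') hza hza'

theorem not_dvd_invAt : ¬ orderOf x ∣ Nat.card (InvAt G a) := by
  haveI := Fact.mk hx.prime
  obtain ⟨e, hea, heb, hey⟩ := hx.third
  obtain ⟨hxa, hxb⟩ := mem_two.mp hx.mem
  exact (rank_one_case hF hNB (prime_ne_two hF hNB hx.hab hx.mem hx.prime)
    (IsPGroup.of_card (n := 1) (by rw [Nat.card_zpowers, pow_one]) : IsPGroup (orderOf x) (Subgroup.zpowers x))
    (mem_fixSet_zpowers hF hNB hxa) (mem_fixSet_zpowers hF hNB hxb) (mem_fixSet_zpowers hF hNB hey)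
    hx.hab.symm hea.symm heb.symm hx.no_four).2

theorem exists_inv : ∃ z : G, IsInv z ∧ z • a = a ∧ z * x = x * z := by
  haveI := Fact.mk hx.prime
  obtain ⟨e, hea, heb, hey⟩ := hx.third
  obtain ⟨hxa, hxb⟩ := mem_two.mp hx.mem
  obtain ⟨z, hzC, hz, hza⟩ := exists_centre hF hNB (prime_ne_two hF hNB hx.hab hx.mem hx.prime) _
    (IsPGroup.of_card (n := 1) (by rw [Nat.card_zpowers, pow_one]) : IsPGroup (orderOf x) (Subgroup.zpowers x))
    a b e (mem_fixSet_zpowers hF hNB hxa) (mem_fixSet_zpowers hF hNB hxb) (mem_fixSet_zpowers hF hNB hey)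
    hx.hab.symm hea.symm heb.symm
  exact ⟨z, hz, hza, (mem_cent_zpowers hF hNB).mp hzC⟩

/-- The centraliser of the element in the two-point stabiliser centralises its involution at `a`. -/
theorem commute_inv {d z : G} (hd : d ∈ two a b) (hdx : d * x = x * d) (hz : IsInv z) (hza : z • a = a)
    (hzx : z * x = x * z) : d * z = z * d := by
  have hcom : Commute (d * z * d⁻¹) x :=
    ((show Commute d x from hdx).mul_left (show Commute z x from hzx)).mul_left (show Commute d x from hdx).inv_left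
  have h := eq_inv hF hNB hx (hz.conj d) hz
    (by rw [mul_smul, mul_smul, inv_smul_eq_iff.mpr (mem_two.mp hd).1.symm, hza, (mem_two.mp hd).1]) hza hcom.eq hzx
  exact mul_inv_eq_iff_eq_mul.mp h

/-- The centraliser of the element in the two-point stabiliser centralises the swapper. -/
theorem commute_swap {d : G} (hd : d ∈ two a b) (hdx : d * x = x * d) : d * u = u * d := by
  obtain ⟨z, hz, hza, hzx⟩ := exists_inv hF hNB hx
  set w := d * u * d⁻¹ * u with hw
  have hu := hx.inv_u
  have h1 := swap_conj_two hF hu hx.swap d⁻¹ (inv_mem hd)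
  have hwD : w ∈ two a b := by
    rw [hw, mul_assoc, mul_assoc]
    rw [hu.inv, mul_assoc] at h1
    exact mul_mem hd h1
  have hinv : u * w * u = w⁻¹ := by
    rw [hw, mul_inv_rev, mul_inv_rev, mul_inv_rev, inv_inv, hu.inv]
    simp only [mul_assoc, hu.2, mul_one]
  have hwx : Commute w x := by
    have hdx' : Commute d x := hdx
    have hux' : Commute u x := hx.comm
    exact ((hdx'.mul_left hux').mul_left hdx'.inv_left).mul_left hux'
  have hwz := commute_inv hF hNB hx hwD hwx.eq hz hza hzx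
  have h2 := inverted_commute hF hu hz (odd_orderOf (odd_two hF hx.hab.symm) hwD) hinv hwz hza
    (by rw [hx.swap]; exact hx.hab)
  rw [hw, mul_eq_one_iff_eq_inv, hu.inv, mul_inv_eq_iff_eq_mul] at h2
  exact h2

/-- An inverted element centralising the element is trivial. -/
theorem eq_one_of_commute {y : G} (hy : y ∈ two a b) (hinv : u * y * u = y⁻¹) (hyx : y * x = x * y) : y = 1 := by
  refine eq_one_of_inv_eq ?_ (odd_orderOf (odd_two hF hx.hab.symm) hy)
  rw [← hinv, mul_assoc, commute_swap hF hNB hx hy hyx, ← mul_assoc, hx.inv_u.2, one_mul]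

/-- An element of a normal quotient inverted by the swapper and centralised by the element is trivial. -/
theorem mem_of_fixed {S N : Subgroup G} (hSD : S ≤ two a b) (hNS : N ≤ S)
    (hn : ∀ s ∈ S, ∀ y ∈ N, s * y * s⁻¹ ∈ N) (hSu : ∀ y ∈ S, u * y * u ∈ S) (hNu : ∀ y ∈ N, u * y * u ∈ N)
    (hNx : ∀ y ∈ N, x * y * x⁻¹ ∈ N) {s : G} (hs : s ∈ S) (hsu : u * s * u * s ∈ N)
    (hsx : s⁻¹ * (x * s * x⁻¹) ∈ N) : s ∈ N := by
  classical
  haveI := Fact.mk hx.prime
  have hu := hx.inv_u
  have hodd : Odd (Nat.card S) :=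
    (odd_two hF hx.hab.symm).of_dvd_nat (Subgroup.card_dvd_of_le hSD)
  have hnorm : ∀ {X : Subgroup G}, (∀ y ∈ X, u * y * u ∈ X) → ∀ y ∈ X, u * y * u⁻¹ ∈ X := fun h y hy => by
    rw [hu.inv]; exact h y hy
  -- a lift inverted by `u`
  obtain ⟨⟨c, k⟩, ⟨hc, hk, hsck⟩, -⟩ := RankOne.Inverted.decomp hodd (hnorm hSu) hu.2 hs
  dsimp only at hc hk hsck
  obtain ⟨hcS, hcu⟩ := Subgroup.mem_inf.mp hc
  have hcu' := Subgroup.mem_centralizer_singleton_iff.mp hcu
  have hkinv : u * k * u = k⁻¹ := by rw [← hk.2, hu.inv]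
  have hcN : c ∈ N := by
    have h1 : u * s * u * s = c * (k⁻¹ * c * k⁻¹⁻¹) := by
      have hcu'' : u * c * u = c := by rw [← hcu', mul_assoc, hu.2, mul_one]
      calc u * s * u * s = (u * c * u) * (u * k * u) * s := by
            rw [show s = c * k from hsck]; simp only [mul_assoc, ← mul_assoc u u, hu.2, one_mul]
        _ = _ := by rw [hcu'', hkinv, show s = c * k from hsck]; group
    have h2 : c * k⁻¹ * c * k ∈ N := by
      rw [h1] at hsu
      simpa [mul_assoc] using hsu
    have h3 : (k⁻¹ * c * k) ∈ S := mul_mem (mul_mem (inv_mem hk.1) hcS) hk.1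
    have h4 : u * (k⁻¹ * c * k) * u = k * c * k⁻¹ := by
      have hcu'' : u * c * u = c := by rw [← hcu', mul_assoc, hu.2, mul_one]
      have hkinv' : u * k⁻¹ * u = k := by rw [← hkinv]; simp [mul_assoc, ← mul_assoc u u, hu.2]
      calc u * (k⁻¹ * c * k) * u = (u * k⁻¹ * u) * (u * c * u) * (u * k * u) := by
            simp only [mul_assoc, ← mul_assoc u u, hu.2, one_mul]
        _ = _ := by rw [hkinv', hcu'', hkinv]
    -- `c` is inverted by conjugation with `k` and with `k⁻¹` modulo `N`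
    have h5 : c * (k * c * k⁻¹) ∈ N := by
      have := hNu _ h2
      have hcu'' : u * c * u = c := by rw [← hcu', mul_assoc, hu.2, mul_one]
      rw [show u * (c * k⁻¹ * c * k) * u = (u * c * u) * (u * (k⁻¹ * c * k) * u) by
        simp only [mul_assoc, ← mul_assoc u u, hu.2, one_mul], hcu'', h4] at this
      exact this
    -- so `k²` centralises `c` modulo `N`; as `k` has odd order so does `k`
    haveI hNn : (N.subgroupOf S).Normal := ⟨fun y hy g => hn g g.2 y hy⟩
    let π := QuotientGroup.mk' (N.subgroupOf S)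
    set C' : S ⧸ N.subgroupOf S := π ⟨c, hcS⟩
    set K : S ⧸ N.subgroupOf S := π ⟨k, hk.1⟩
    have hzero : ∀ {e : G} (he : e ∈ S), e ∈ N → π ⟨e, he⟩ = 1 := fun he h =>
      (QuotientGroup.eq_one_iff _).mpr (Subgroup.mem_subgroupOf.mpr h)
    have e1 : C' * K⁻¹ * C' * K = 1 := by
      rw [← hzero (mul_mem (mul_mem (mul_mem hcS (inv_mem hk.1)) hcS) hk.1) h2]; rfl
    have e2 : C' * (K * C' * K⁻¹) = 1 := by
      rw [← hzero (mul_mem hcS (mul_mem (mul_mem hk.1 hcS) (inv_mem hk.1))) h5]; rfl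
    have e3 : K⁻¹ * C' * K = C'⁻¹ := eq_inv_of_mul_eq_one_right (by simpa [mul_assoc] using e1)
    have e4 : K * C' * K⁻¹ = C'⁻¹ := eq_inv_of_mul_eq_one_right e2
    have e5 : Commute (K * K) C' := by
      refine mul_inv_eq_iff_eq_mul.mp ?_
      calc K * K * C' * (K * K)⁻¹ = K * (K * C' * K⁻¹) * K⁻¹ := by group
        _ = K * C'⁻¹ * K⁻¹ := by rw [e4]
        _ = (K * C' * K⁻¹)⁻¹ := by group
        _ = C' := by rw [e4, inv_inv]
    have hKodd : Odd (orderOf K) := by
      refine Odd.of_dvd_nat ?_ (orderOf_map_dvd π ⟨k, hk.1⟩)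
      exact hodd.of_dvd_nat (orderOf_dvd_natCard _)
    obtain ⟨n, hn'⟩ := CfsgLib.Involutions.exists_sqrt hKodd
    have e6 : Commute K C' := by
      have h := e5.pow_left n
      rwa [(Commute.refl K).mul_pow, hn'] at h
    rw [e6.eq, mul_inv_cancel_right] at e4
    have hC' : C' = 1 := eq_one_of_inv_eq e4.symm (by
      refine Odd.of_dvd_nat ?_ (orderOf_map_dvd π ⟨c, hcS⟩)
      exact hodd.of_dvd_nat (orderOf_dvd_natCard _))
    exact Subgroup.mem_subgroupOf.mp ((QuotientGroup.eq_one_iff _).mp hC')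
  have hkN : ∀ {j : G}, k⁻¹ * j ∈ N → j ∈ N → s ∈ N := fun {j} h hj => by
    rw [show s = c * k from hsck]
    refine mul_mem hcN ?_
    have h' := mul_mem hj (inv_mem h)
    rwa [show j * (k⁻¹ * j)⁻¹ = k by group] at h'
  -- the inverted elements of the coset
  obtain ⟨r, hr, hrk⟩ := RankOne.Inverted.exists_sqrt_inverted hodd (hnorm hSu) hk
  have hrinv : u * r * u = r⁻¹ := by rw [← hr.2, hu.inv]
  let A := {v : G // v ∈ N ∧ u * v * u = v⁻¹}
  let L := {j : G // k⁻¹ * j ∈ N ∧ u * j * u = j⁻¹}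
  have hux : ∀ v : G, u * v * u = v⁻¹ → u * (x * v * x⁻¹) * u = (x * v * x⁻¹)⁻¹ := fun v hv => by
    have hxu : x⁻¹ * u = u * x⁻¹ := (show Commute u x from hx.comm).inv_right.symm.eq
    calc u * (x * v * x⁻¹) * u = (u * x) * v * (x⁻¹ * u) := by group
      _ = x * (u * v * u) * x⁻¹ := by rw [hx.comm, hxu]; group
      _ = _ := by rw [hv]; group
  have hLA : Nat.card L = Nat.card A := Nat.card_congr
    { toFun := fun j => ⟨r⁻¹ * j * r⁻¹, by
          rw [show r⁻¹ * j.1 * r⁻¹ = r * ((r * r)⁻¹ * j.1) * r⁻¹ by group, hrk]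
          exact hn r hr.1 _ j.2.1, by
          have h1 : u * r⁻¹ * u = r := by rw [← hrinv]; simp [mul_assoc, ← mul_assoc u u, hu.2]
          calc u * (r⁻¹ * j.1 * r⁻¹) * u = (u * r⁻¹ * u) * (u * j.1 * u) * (u * r⁻¹ * u) := by
                simp only [mul_assoc, ← mul_assoc u u, hu.2, one_mul]
            _ = _ := by rw [h1, j.2.2]; group⟩
      invFun := fun v => ⟨r * v * r, by
          rw [← hrk, show (r * r)⁻¹ * (r * v.1 * r) = r⁻¹ * v.1 * r⁻¹⁻¹ by group]
          exact hn _ (inv_mem hr.1) _ v.2.1, by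
          calc u * (r * v.1 * r) * u = (u * r * u) * (u * v.1 * u) * (u * r * u) := by
                simp only [mul_assoc, ← mul_assoc u u, hu.2, one_mul]
            _ = _ := by rw [hrinv, v.2.2]; group⟩
      left_inv := fun j => Subtype.ext (by show r * (r⁻¹ * j.1 * r⁻¹) * r = j.1; group)
      right_inv := fun v => Subtype.ext (by show r⁻¹ * (r * v.1 * r) * r⁻¹ = v.1; group) }
  have hnd : ¬ orderOf x ∣ Nat.card L := by
    intro hd
    set R := N ⊓ Subgroup.centralizer ({u} : Set G)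
    have hoddN : Odd (Nat.card N) := hodd.of_dvd_nat (Subgroup.card_dvd_of_le hNS)
    have hcard := RankOne.Inverted.card_eq hoddN (hnorm hNu) hu.2
    have hA : Nat.card A = Nat.card (invertedBy N u) := Nat.card_congr
      (Equiv.subtypeEquivRight fun v => by simp [invertedBy, hu.inv])
    obtain ⟨Q, hQ, hQu⟩ := exists_invariant_maxP (p := orderOf x) hoddN hu.2 (hnorm hNu)
    by_cases hall : ∀ y ∈ Q, y * u = u * y
    · refine Nat.pow_succ_factorization_not_dvd (n := Nat.card N) (p := orderOf x) Nat.card_pos.ne' hx.prime ?_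
      rw [pow_succ, ← hQ.card, hcard]
      exact Nat.mul_dvd_mul (Subgroup.card_dvd_of_le (le_inf hQ.le fun y hy =>
        Subgroup.mem_centralizer_singleton_iff.mpr (hall y hy))) (hA ▸ hLA ▸ hd)
    · push Not at hall
      obtain ⟨y, hy, hyu⟩ := hall
      obtain ⟨⟨c', j⟩, ⟨hc', hj, hycj⟩, -⟩ := RankOne.Inverted.decomp (hoddN.of_dvd_nat
        (Subgroup.card_dvd_of_le hQ.le)) (fun z hz => conj_mem_of_normalizer hQu hz) hu.2 hy
      have hj1 : j ≠ 1 := fun e => hyu (by
        rw [show y = c' * j from hycj, e, mul_one]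
        exact Subgroup.mem_centralizer_singleton_iff.mp (Subgroup.mem_inf.mp hc').2)
      have hjdvd : orderOf x ∣ orderOf j := by
        obtain ⟨n, hn'⟩ := IsPGroup.iff_card.mp hQ.isPGroup
        obtain ⟨i, -, hi⟩ := (Nat.dvd_prime_pow hx.prime).mp (hn' ▸ Subgroup.orderOf_dvd_natCard Q hj.1)
        rcases i with _ | i
        · exact absurd (orderOf_eq_one_iff.mp (by rw [hi, pow_zero])) hj1
        · rw [hi]; exact dvd_pow_self _ (Nat.succ_ne_zero i)
      exact not_dvd_invAt hF hNB hx (dvd_invAt_of_inverted hF hNB hx.hab hu hx.swap (hSD (hNS (hQ.le hj.1)))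
        (by rw [← hj.2, hu.inv]) hx.prime hjdvd)
  -- the element permutes them
  have hkx : k⁻¹ * (x * k * x⁻¹) ∈ N := by
    have h1 : c⁻¹ * (x * c * x⁻¹) ∈ N := mul_mem (inv_mem hcN) (hNx c hcN)
    have h2 : k⁻¹ * (c⁻¹ * (x * c * x⁻¹)) * k⁻¹⁻¹ ∈ N := hn _ (inv_mem hk.1) _ h1
    have h3 := mul_mem (inv_mem h2) hsx
    rw [show s = c * k from hsck] at h3
    rw [show (k⁻¹ * (c⁻¹ * (x * c * x⁻¹)) * k⁻¹⁻¹)⁻¹ * ((c * k)⁻¹ * (x * (c * k) * x⁻¹)) =
      k⁻¹ * (x * k * x⁻¹) by group] at h3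
    exact h3
  letI : MulAction (Subgroup.zpowers x) L := by
    refine
      { smul := fun e j => ⟨(e : G) * j * (e : G)⁻¹, ?_⟩
        one_smul := fun j => Subtype.ext (by show (1 : G) * j.1 * (1 : G)⁻¹ = j.1; group)
        mul_smul := fun e e' j => Subtype.ext (by
          show ((e : G) * e') * j.1 * ((e : G) * e')⁻¹ = (e : G) * ((e' : G) * j.1 * (e' : G)⁻¹) * (e : G)⁻¹
          group) }
    obtain ⟨n, hn'⟩ := (mem_powers_iff_mem_zpowers.mpr e.2)
    change x ^ n = (e : G) at hn'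
    rw [← hn']
    clear hn'
    induction n with
    | zero => simpa using j.2
    | succ n ih =>
      obtain ⟨h1, h2⟩ := ih
      refine ⟨?_, ?_⟩
      · have h := mul_mem hkx (hNx _ h1)
        rwa [show k⁻¹ * (x * k * x⁻¹) * (x * (k⁻¹ * (x ^ n * j.1 * (x ^ n)⁻¹)) * x⁻¹) =
          k⁻¹ * (x ^ (n + 1) * j.1 * (x ^ (n + 1))⁻¹) by rw [pow_succ']; group] at h
      · have h := hux _ h2
        rwa [show x * (x ^ n * j.1 * (x ^ n)⁻¹) * x⁻¹ = x ^ (n + 1) * j.1 * (x ^ (n + 1))⁻¹ by
          rw [pow_succ']; group] at h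
  have hP : IsPGroup (orderOf x) (Subgroup.zpowers x) :=
    IsPGroup.of_card (n := 1) (by rw [Nat.card_zpowers, pow_one])
  obtain ⟨j, hj⟩ := hP.nonempty_fixed_point_of_prime_not_dvd_card L hnd
  have hjx : x * j.1 * x⁻¹ = j.1 := congrArg Subtype.val (hj ⟨x, Subgroup.mem_zpowers x⟩)
  have hjS : j.1 ∈ S := by
    have := mul_mem hk.1 (hNS j.2.1)
    rwa [mul_inv_cancel_left] at this
  have hj1 := eq_one_of_commute hF hNB hx (hSD hjS) j.2.2 (by
    conv_lhs => rw [← hjx]
    rw [inv_mul_cancel_right])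
  exact hkN j.2.1 (hj1 ▸ one_mem N)

end RankOneElt

end CfsgLib.Bender.NC
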