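import Cfsg.Agent.Lib.Bender.FromB1.NC.Automiser
import Cfsg.Agent.Lib.Bender.NCTools.FpfCentral
import Cfsg.Agent.Lib.Bender.B1.RankOneEnd
import Cfsg.Agent.Lib.UniqueSubgroup
import Cfsg.Agent.Lib.CoprimeGen

/-!
The non-commuting case when every core of `C` acts faithfully on the part of `F` of order prime to it.

Blueprint: `blueprint/bender/A5c_audit.md`, section 4.
-/

set_option autoImplicit false
set_option linter.unusedSectionVars false
set_option linter.style.haveILetI false

namespace CfsgLib.Bender.NC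

open MulAction Cfsg CfsgLib.Bender CfsgLib.Bender.OneFix CfsgLib.Bender.TwoClosed
open CfsgLib.Bender.B1 (FourIn)
open CfsgLib.Bender.Ext (pCoreOf_le isPGroup_pCoreOf normalizer_le_pCoreOf)
open scoped commutatorElement

universe u

/-- Every `r`-subgroup normal in `C` acts faithfully on the part of `F` of order prime to `r`. -/
def FaithCores {G : Type u} [Group G] (F C : Subgroup G) : Prop :=
  ∀ r : ℕ, r.Prime → ∀ P : Subgroup G, P ≤ C → C ≤ Subgroup.normalizer (P : Set G) → IsPGroup r P →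
    ∀ y ∈ P, (∀ f ∈ F, ¬ r ∣ orderOf f → y * f = f * y) → y = 1

/-- A `p`-group of odd order in which commuting elements of order `p` generate the same subgroup is cyclic. -/
theorem pgroup_isCyclic {G : Type u} [Group G] [Finite G] {p : ℕ} [hp : Fact p.Prime] (hp2 : p ≠ 2) {P : Subgroup G}
    (hP : IsPGroup p P)
    (h : ∀ b ∈ P, ∀ b' ∈ P, orderOf b = p → orderOf b' = p → b * b' = b' * b → b' ∈ Subgroup.zpowers b) :
    IsCyclic P := by
  rcases subsingleton_or_nontrivial P with hs | hn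
  · exact isCyclic_of_subsingleton
  haveI := hP.center_nontrivial
  obtain ⟨m, hm⟩ := (hP.to_subgroup (Subgroup.center P)).exists_card_eq
  obtain ⟨c, hc⟩ : ∃ c : Subgroup.center P, orderOf c = p := by
    refine exists_prime_orderOf_dvd_card' p (hm ▸ dvd_pow_self p fun e => ?_)
    rw [e, pow_zero] at hm
    exact (Finite.one_lt_card (α := Subgroup.center P)).ne' hm
  rw [← Subgroup.orderOf_coe] at hc
  refine (UniqueSubgroup.cyclic_or_quaternion hP hc fun x hx => ?_).resolve_right fun hq => hp2 hq.1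
  rcases eq_or_ne x 1 with rfl | hx1
  · exact one_mem _
  have hxo : orderOf x = p := orderOf_eq_prime hx hx1
  rw [← Subgroup.orderOf_coe] at hxo
  obtain ⟨n, hn⟩ := Subgroup.mem_zpowers_iff.mp (h ((c : P) : G) (c : P).2 x x.2 (by rw [Subgroup.orderOf_coe]; exact hc)
    hxo (congrArg Subtype.val (Subgroup.mem_center_iff.mp c.2 x)).symm)
  exact Subgroup.mem_zpowers_iff.mpr ⟨n, Subtype.ext (by rw [Subgroup.coe_zpow]; exact hn)⟩

/-- An element commuting with two conjugates' powers: commutators act trivially on a cyclic group. -/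
theorem commutator_centralizes_cyclic {G : Type u} [Group G] {P : Subgroup G} [IsCyclic P] {s t : G}
    (hs : s ∈ Subgroup.normalizer (P : Set G)) (ht : t ∈ Subgroup.normalizer (P : Set G)) :
    ⁅s, t⁆ ∈ Subgroup.centralizer (P : Set G) := by
  obtain ⟨g, hg⟩ := IsCyclic.exists_generator (α := P)
  obtain ⟨i, hi⟩ := Subgroup.mem_zpowers_iff.mp (hg ⟨s * g * s⁻¹, (Subgroup.mem_normalizer_iff.mp hs g).mp g.2⟩)
  obtain ⟨j, hj⟩ := Subgroup.mem_zpowers_iff.mp (hg ⟨t * g * t⁻¹, (Subgroup.mem_normalizer_iff.mp ht g).mp g.2⟩)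
  have hi' : s * g * s⁻¹ = (g : G) ^ i := by
    have := congrArg Subtype.val hi; simpa using this.symm
  have hj' : t * g * t⁻¹ = (g : G) ^ j := by
    have := congrArg Subtype.val hj; simpa using this.symm
  have h1 : ∀ n : ℤ, s * (g : G) ^ n * s⁻¹ = (g : G) ^ (i * n) := fun n => by
    rw [← conj_zpow, hi', zpow_mul]
  have h2 : ∀ n : ℤ, t * (g : G) ^ n * t⁻¹ = (g : G) ^ (j * n) := fun n => by
    rw [← conj_zpow, hj', zpow_mul]
  have h3 : s * t * g * (s * t)⁻¹ = t * s * g * (t * s)⁻¹ := by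
    calc s * t * g * (s * t)⁻¹ = s * (t * g * t⁻¹) * s⁻¹ := by group
      _ = (g : G) ^ (j * i) := by rw [hj', h1, mul_comm]
      _ = t * (s * g * s⁻¹) * t⁻¹ := by rw [hi', h2]
      _ = t * s * g * (t * s)⁻¹ := by group
  have h4 : Commute ((t * s)⁻¹ * (s * t)) (g : G) := by
    show (t * s)⁻¹ * (s * t) * g = g * ((t * s)⁻¹ * (s * t))
    calc (t * s)⁻¹ * (s * t) * g = (t * s)⁻¹ * (s * t * g * (s * t)⁻¹) * (s * t) := by group
      _ = g * ((t * s)⁻¹ * (s * t)) := by rw [h3]; group
  refine Subgroup.mem_centralizer_iff.mpr fun y hy => ?_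
  obtain ⟨n, hn⟩ := Subgroup.mem_zpowers_iff.mp (hg ⟨y, hy⟩)
  have hn' : (g : G) ^ n = y := by have := congrArg Subtype.val hn; simpa using this
  -- `⁅s, t⁆` is conjugate to the element above by an element normalising the cyclic group
  have hts : t * s ∈ Subgroup.normalizer (P : Set G) := mul_mem ht hs
  obtain ⟨n', hn''⟩ := Subgroup.mem_zpowers_iff.mp
    (hg ⟨(t * s)⁻¹ * y * (t * s), (Subgroup.mem_normalizer_iff''.mp hts y).mp hy⟩)
  have hn3 : (g : G) ^ n' = (t * s)⁻¹ * y * (t * s) := by have := congrArg Subtype.val hn''; simpa using this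
  have h5 := (h4.zpow_right n').eq
  rw [hn3] at h5
  rw [commutatorElement_def]
  calc y * (s * t * s⁻¹ * t⁻¹) = (t * s) * ((t * s)⁻¹ * y * (t * s) * ((t * s)⁻¹ * (s * t))) * (t * s)⁻¹ := by group
    _ = s * t * s⁻¹ * t⁻¹ * y := by rw [← h5]; group

variable {G Ω : Type u} [Group G] [MulAction G Ω] [Finite G] [FaithfulSMul G Ω] (hF : OneFix G Ω)
  (hNB : NoBad G Ω) (hBel : B1.Below.{u} (Nat.card G)) {a b : Ω} {u : G} {F C : Subgroup G}
  (hFr : Frame a b u F C) (hCores : FaithCores F C)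
include hF hNB hBel hFr hCores

/-- A rank one element centralises the normal `r`-subgroups of `C` for `r` not its order. -/
theorem comm_of_core {x : G} (hx : RankOneElt a b u x) {r : ℕ} (hr : r.Prime) (hr2 : r ≠ 2) (hrx : r ≠ orderOf x)
    {P : Subgroup G} (hPC : P ≤ C) (hPn : C ≤ Subgroup.normalizer (P : Set G)) (hP : IsPGroup r P) {e : G}
    (he : e ∈ P) : e * x = x * e := by
  haveI := Fact.mk hr
  obtain ⟨Φ, hΦ⟩ := exists_primePart hF hNB hBel hFr hr
  have hxC := Frame.elt_mem hF hNB hFr hx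
  have hCΦ : C ≤ Subgroup.normalizer (Φ : Set G) := fun c hc => Subgroup.mem_normalizer_iff.mpr fun f => by
    rw [hΦ, hΦ, show orderOf (c * f * c⁻¹) = orderOf f by rw [← MulAut.conj_apply, MulEquiv.orderOf_eq]]
    exact and_congr_left' ⟨fun h => Frame.conj_F_of_C hF hNB hFr hc h, fun h => by
      simpa [mul_assoc] using Frame.conj_F_of_C hF hNB hFr (inv_mem hc) h⟩
  have hΦD : Φ ≤ two a b := fun f hf => Frame.le_two hF hNB hFr ((hΦ f).mp hf).1
  have hΦr : ¬ r ∣ Nat.card Φ := fun hd => by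
    obtain ⟨f, hf⟩ := exists_prime_orderOf_dvd_card' r hd
    rw [← Subgroup.orderOf_coe] at hf
    exact ((hΦ f).mp f.2).2 (hf.symm ▸ dvd_rfl)
  have h := NCTools.commutator_centralizes_abelian hr2 hx.prime hrx hP
    (fun s hs t ht => hFr.comm_F s ((hΦ s).mp hs).1 t ((hΦ t).mp ht).1)
    ((odd_two hF hFr.hab.symm).of_dvd_nat (Subgroup.card_dvd_of_le hΦD)).not_two_dvd_nat hΦr
    (hPn hxC) (hCΦ hxC) (hPC.trans hCΦ) (fun f hf hxf => Frame.cent_elt hF hNB hFr hx ((hΦ f).mp hf).1 hxf.symm) e he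
  have h1 := hCores r hr P hPC hPn hP (x * e * x⁻¹ * e⁻¹)
    (mul_mem ((Subgroup.mem_normalizer_iff.mp (hPn hxC) e).mp he) (inv_mem he))
    fun f hf hfr => (Subgroup.mem_centralizer_iff.mp h f ((hΦ f).mpr ⟨hf, hfr⟩)).symm
  rw [mul_inv_eq_one, mul_inv_eq_iff_eq_mul] at h1
  exact h1.symm

/-- The normal `r`-subgroups of `C` are cyclic, for `r` not the order of a rank one element. -/
theorem core_cyclic {x : G} (hx : RankOneElt a b u x) {r : ℕ} (hr : r.Prime) (hr2 : r ≠ 2) (hrx : r ≠ orderOf x)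
    {P : Subgroup G} (hPC : P ≤ C) (hPn : C ≤ Subgroup.normalizer (P : Set G)) (hP : IsPGroup r P) : IsCyclic P := by
  classical
  haveI := Fact.mk hr
  refine pgroup_isCyclic hr2 hP fun e1 he1 e2 he2 ho1 ho2 hcomm => ?_
  by_contra hnot
  set B := Subgroup.closure ({e1, e2} : Set G) with hB
  haveI : IsMulCommutative B := Subgroup.isMulCommutative_closure fun s hs t ht => by
    rcases hs with rfl | rfl <;> rcases ht with rfl | rfl <;> first | rfl | exact hcomm | exact hcomm.symm
  have hBP : B ≤ P := (Subgroup.closure_le _).mpr fun s hs => by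
    rcases hs with rfl | rfl
    · exact he1
    · exact he2
  have he1B : e1 ∈ B := Subgroup.subset_closure (Or.inl rfl)
  have he2B : e2 ∈ B := Subgroup.subset_closure (Or.inr rfl)
  have hnc : ¬ IsCyclic B := fun hcyc => by
    haveI := hcyc
    letI := Fintype.ofFinite B
    obtain ⟨g, hg⟩ := IsCyclic.exists_generator (α := B)
    set S := (Finset.univ : Finset B).filter fun s => s ^ r = 1
    have hS := IsCyclic.card_pow_eq_one_le (α := B) hr.pos
    have hsub : (Finset.range r).image (fun n => (⟨e1, he1B⟩ : B) ^ n) ⊆ S := fun s hs => by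
      obtain ⟨n, -, rfl⟩ := Finset.mem_image.mp hs
      refine Finset.mem_filter.mpr ⟨Finset.mem_univ _, Subtype.ext ?_⟩
      push_cast
      rw [← pow_mul, mul_comm, pow_mul, ← ho1, pow_orderOf_eq_one, one_pow]
    have hcard : ((Finset.range r).image fun n => (⟨e1, he1B⟩ : B) ^ n).card = r := by
      rw [Finset.card_image_of_injOn, Finset.card_range]
      intro m hm n hn h
      simp only [Finset.coe_range, Set.mem_Iio] at hm hn
      exact pow_injOn_Iio_orderOf (x := (⟨e1, he1B⟩ : B)) (by rw [Set.mem_Iio, Subgroup.orderOf_mk, ho1]; exact hm)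
        (by rw [Set.mem_Iio, Subgroup.orderOf_mk, ho1]; exact hn) h
    have heq := Finset.eq_of_subset_of_card_le hsub (hS.trans hcard.ge)
    have h2 : (⟨e2, he2B⟩ : B) ∈ S :=
      Finset.mem_filter.mpr ⟨Finset.mem_univ _, Subtype.ext (by push_cast; rw [← ho2, pow_orderOf_eq_one])⟩
    rw [← heq] at h2
    obtain ⟨n, -, hn⟩ := Finset.mem_image.mp h2
    exact hnot (Subgroup.mem_zpowers_iff.mpr ⟨n, by rw [zpow_natCast]; exact congrArg Subtype.val hn⟩)
  obtain ⟨Φ, hΦ⟩ := exists_primePart hF hNB hBel hFr hr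
  have hCΦ : C ≤ Subgroup.normalizer (Φ : Set G) := fun c hc => Subgroup.mem_normalizer_iff.mpr fun f => by
    rw [hΦ, hΦ, show orderOf (c * f * c⁻¹) = orderOf f by rw [← MulAut.conj_apply, MulEquiv.orderOf_eq]]
    exact and_congr_left' ⟨fun h => Frame.conj_F_of_C hF hNB hFr hc h, fun h => by
      simpa [mul_assoc] using Frame.conj_F_of_C hF hNB hFr (inv_mem hc) h⟩
  have hcop : (Nat.card B).Coprime (Nat.card Φ) := by
    obtain ⟨k, hk⟩ := IsPGroup.iff_card.mp (hP.to_le hBP)
    rw [hk]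
    refine (hr.coprime_iff_not_dvd.mpr fun hd => ?_).pow_left k
    obtain ⟨f, hf⟩ := exists_prime_orderOf_dvd_card' r hd
    rw [← Subgroup.orderOf_coe] at hf
    exact ((hΦ f).mp f.2).2 (hf.symm ▸ dvd_rfl)
  have hBpow : ∀ s ∈ B, s ^ r = 1 := fun s hs => by
    induction hs using Subgroup.closure_induction with
    | mem w hw =>
      rcases hw with rfl | rfl
      · rw [← ho1, pow_orderOf_eq_one]
      · rw [← ho2, pow_orderOf_eq_one]
    | one => exact one_pow _
    | mul s t hs ht h1 h2 =>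
      rw [(show Commute s t from congrArg Subtype.val
        (IsMulCommutative.is_comm.comm (⟨s, hs⟩ : B) ⟨t, ht⟩)).mul_pow, h1, h2, one_mul]
    | inv s _ h1 => rw [inv_pow, h1, inv_one]
  have hle : (⨆ e ∈ {e : G | e ∈ B ∧ e ≠ 1}, Φ ⊓ Subgroup.centralizer {e}) ≤ Subgroup.centralizer (B : Set G) := by
    refine iSup₂_le fun e ⟨heB, he1'⟩ f hf => Subgroup.mem_centralizer_iff.mpr fun s hs => ?_
    obtain ⟨hfΦ, hfe⟩ := Subgroup.mem_inf.mp hf
    rw [Subgroup.mem_centralizer_singleton_iff] at hfe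
    rcases eq_or_ne f 1 with rfl | hf1
    · rw [one_mul, mul_one]
    have heC : e ∈ C := hPC (hBP heB)
    have hep : (orderOf e).Prime := by rw [orderOf_eq_prime (hBpow e heB) he1']; exact hr
    have h4 := (Frame.four_iff hF hNB hFr heC hep).mpr ⟨f, ((hΦ f).mp hfΦ).1, hf1, hfe⟩
    have hnorm : ∀ g : G, Commute g e → g ∈ Subgroup.normalizer (Subgroup.zpowers e : Set G) := fun g hg =>
      Subgroup.mem_normalizer_iff.mpr fun w => by
        constructor
        · intro hw
          obtain ⟨n, rfl⟩ := Subgroup.mem_zpowers_iff.mp hw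
          rw [(hg.zpow_right n).eq, mul_inv_cancel_right]
          exact hw
        · intro hw
          obtain ⟨n, hn⟩ := Subgroup.mem_zpowers_iff.mp hw
          refine Subgroup.mem_zpowers_iff.mpr ⟨n, ?_⟩
          calc e ^ n = g⁻¹ * (g * e ^ n) := by rw [inv_mul_cancel_left]
            _ = g⁻¹ * (e ^ n * g) := by rw [(hg.zpow_right n).eq]
            _ = w := by rw [hn]; group
    have hse : Commute s e := congrArg Subtype.val (IsMulCommutative.is_comm.comm (⟨s, hs⟩ : B) ⟨e, heB⟩)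
    have h := (cent_of_normalises hF hNB hBel hFr heC hep h4 hx
      (hnorm x (show Commute e x from comm_of_core hF hNB hBel hFr hCores hx hr hr2 hrx hPC hPn hP (hBP heB)).symm)
      (hPC (hBP hs)) (hnorm s hse)).2 f ((hΦ f).mp hfΦ).1 hfe
    obtain ⟨n, hn⟩ := exists_pow_eq_self_of_coprime (x := s) (n := orderOf x)
      (Nat.Coprime.coprime_dvd_left (orderOf_dvd_of_pow_eq_one (hBpow s hs))
        ((Nat.coprime_primes hr hx.prime).mpr hrx)).symm
    rw [← hn]
    exact ((show Commute (s ^ orderOf x) f from h).pow_left n).eq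
  rw [CfsgLib.coprime_generated_by_centralizers hnc (hBP.trans (hPC.trans hCΦ)) hcop] at hle
  have h1 : e1 = 1 := hCores r hr P hPC hPn hP e1 he1 fun f hf hfr =>
    Subgroup.mem_centralizer_iff.mp (hle ((hΦ f).mpr ⟨hf, hfr⟩)) e1 he1B
  rw [h1, orderOf_one] at ho1
  exact hr.ne_one ho1.symm

variable (hnc : ¬ CommAt G a) (hAb : AbRankOne a b u F C)
include hnc hAb

/-- The case of faithful cores. -/
theorem false_of_faithCores : False := by
  classical
  refine false_of_no_good hF hNB hBel hFr hnc fun w hw hwp h4 => ?_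
  set W := wSub a F C with hW
  set K := ⁅W, W⁆ with hK
  set idx := K.relIndex W with hidx
  have hKW : K ≤ W := derived_le hF hNB hBel hFr
  have hWC : W ≤ C := inf_le_left
  have hCK : C ≤ Subgroup.normalizer (K : Set G) := fun c hc => Subgroup.mem_normalizer_iff.mpr fun y =>
    ⟨fun hy => conj_derived hF hNB hBel hFr hc hy, fun hy => by
      simpa [mul_assoc] using conj_derived hF hNB hBel hFr (inv_mem hc) hy⟩
  have hoddC : Odd (Nat.card C) :=
    (odd_two hF hFr.hab.symm).of_dvd_nat (Subgroup.card_dvd_of_le (Frame.C_le hF hNB hFr))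
  have hne2 : ∀ {r : ℕ} {g : G}, g ∈ C → r ∣ orderOf g → r ≠ 2 := fun hg hd e =>
    (hoddC.of_dvd_nat (Subgroup.orderOf_dvd_natCard _ hg)).not_two_dvd_nat (e ▸ hd)
  haveI hWsol : Group.IsSolvable W := solvable_wSub hF hNB hBel hFr
  haveI : Group.IsSolvable K :=
    Group.isSolvable_of_isSolvable_injective (f := Subgroup.inclusion hKW) (Subgroup.inclusion_injective _)
  -- a good element lies in `K`
  have hwK : w ∈ K := by
    by_contra hn
    exact (rankOne_of_order hF hNB hBel hFr hAb hwp (dvd_relIndex_of_not_mem hF hNB hBel hFr hw hwp hn) hw rfl).no_four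
      h4
  have hw1 : w ≠ 1 := fun e => by rw [e, orderOf_one] at hwp; exact Nat.not_prime_one hwp
  have hmapK : K = (commutator W).map W.subtype := (Subgroup.map_subtype_commutator W).symm
  -- a rank one element in `W`
  have hidx1 : idx ≠ 1 := fun e => by
    haveI : Nontrivial W := ⟨⟨⟨w, hw⟩, 1, fun h => hw1 (congrArg Subtype.val h)⟩⟩
    refine (Group.IsSolvable.commutator_lt_top_of_nontrivial (G := W)).ne (eq_top_iff.mpr fun s _ => ?_)
    have hs : (s : G) ∈ K := Subgroup.relIndex_eq_one.mp e s.2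
    rw [hmapK] at hs
    obtain ⟨t, ht, hts⟩ := hs
    rwa [← Subtype.ext (hts : (t : G) = s)]
  have hidxW : idx ∣ Nat.card W := Subgroup.relIndex_dvd_card _ _
  obtain ⟨l, hl, hlidx⟩ := Nat.exists_prime_and_dvd hidx1
  haveI := Fact.mk hl
  obtain ⟨x, hxo⟩ := exists_prime_orderOf_dvd_card' l (hlidx.trans hidxW)
  rw [← Subgroup.orderOf_coe] at hxo
  have hx := rankOne_of_order hF hNB hBel hFr hAb hl hlidx x.2 hxo
  -- the cores of `K`
  have hcore : ∀ r : ℕ, r.Prime → pCoreOf r K ≤ C ∧ C ≤ Subgroup.normalizer (pCoreOf r K : Set G) := fun r _ =>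
    ⟨(pCoreOf_le r K).trans (hKW.trans hWC), hCK.trans (normalizer_le_pCoreOf r K)⟩
  have hrcases : ∀ {r : ℕ}, r.Prime → ∀ {e : G}, e ∈ pCoreOf r K → e = 1 ∨ r ∣ orderOf e := fun {r} hr {e} he => by
    haveI := Fact.mk hr
    obtain ⟨k, hk⟩ := isPGroup_pCoreOf r K ⟨e, he⟩
    obtain ⟨n, -, hn⟩ := (Nat.dvd_prime_pow hr).mp (orderOf_dvd_of_pow_eq_one (congrArg Subtype.val hk))
    rcases n with _ | n
    · left; rw [pow_zero] at hn; exact orderOf_eq_one_iff.mp hn
    · right; rw [hn]; exact dvd_pow_self r n.succ_ne_zero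
  have hcent : ∀ {l' : ℕ}, l'.Prime → l' ∣ idx → ∀ {x' : G}, x' ∈ W → orderOf x' = l' →
      ∀ k ∈ K, k * x' = x' * k := fun {l'} hl' hl'idx {x'} hx' hx'o => by
    have hx'1 := rankOne_of_order hF hNB hBel hFr hAb hl' hl'idx hx' hx'o
    have hnd := not_dvd_card_derived hF hNB hBel hFr hAb hl' hl'idx
    have hcores : ∀ r : ℕ, r.Prime → ∀ e ∈ pCoreOf r K, e * x' = x' * e := fun r hr e he => by
      rcases hrcases hr he with rfl | hd
      · rw [one_mul, mul_one]
      refine comm_of_core hF hNB hBel hFr hCores hx'1 hr (hne2 ((hcore r hr).1 he) hd) (fun h => hnd ?_)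
        (hcore r hr).1 (hcore r hr).2 (isPGroup_pCoreOf r K) he
      rw [← hx'o, ← h]
      exact hd.trans (Subgroup.orderOf_dvd_natCard _ (pCoreOf_le r K he))
    have hxK : x' ∈ Subgroup.normalizer (K : Set G) := hCK (hWC hx')
    intro k hk
    have hgK : x' * k * x'⁻¹ * k⁻¹ ∈ K := mul_mem ((Subgroup.mem_normalizer_iff.mp hxK k).mp hk) (inv_mem hk)
    set g := x' * k * x'⁻¹ * k⁻¹ with hg
    have hgF : g ∈ fittingOf K := B1.mem_fittingOf_of_centralizes hgK fun r hr e he => by
      have he' : k⁻¹ * e * k ∈ pCoreOf r K :=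
        (Subgroup.mem_normalizer_iff''.mp (normalizer_le_pCoreOf r K (Subgroup.le_normalizer hk)) e).mp he
      have he2 : x'⁻¹ * e * x' = e := by rw [mul_assoc, hcores r hr e he, inv_mul_cancel_left]
      have h1 := hcores r hr _ he'
      calc e * g = e * x' * k * x'⁻¹ * k⁻¹ := by rw [hg]; group
        _ = x' * k * ((k⁻¹ * e * k) * x'⁻¹) * k⁻¹ := by rw [hcores r hr e he]; group
        _ = x' * k * (x'⁻¹ * (k⁻¹ * e * k)) * k⁻¹ := by
          congr 2
          exact ((show Commute (k⁻¹ * e * k) x' from h1).inv_right).eq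
        _ = g * e := by rw [hg]; group
    have hgx : g * x' = x' * g := by
      have hle : fittingOf K ≤ Subgroup.centralizer ({x'} : Set G) := by
        rw [fittingOf, CfsgLib.fittingSubgroup_eq_iSup_pCore, Subgroup.map_iSup]
        exact iSup_le fun p e he => Subgroup.mem_centralizer_singleton_iff.mpr (hcores p p.2 e he)
      exact Subgroup.mem_centralizer_singleton_iff.mp (hle hgF)
    have hiter : ∀ n : ℕ, x' ^ n * k * (x' ^ n)⁻¹ = g ^ n * k := fun n => by
      induction n with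
      | zero => simp
      | succ n ih =>
        calc x' ^ (n + 1) * k * (x' ^ (n + 1))⁻¹ = x' * (x' ^ n * k * (x' ^ n)⁻¹) * x'⁻¹ := by rw [pow_succ']; group
          _ = x' * g ^ n * k * x'⁻¹ := by rw [ih]; group
          _ = g ^ n * (x' * k * x'⁻¹) := by
            rw [((show Commute x' g from hgx.symm).pow_right n).eq]; group
          _ = g ^ n * (g * k) := by congr 1; rw [hg]; group
          _ = g ^ (n + 1) * k := by rw [pow_succ, mul_assoc (g ^ n) g k]
    have hgl : g ^ l' = 1 := by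
      have h := hiter l'
      rw [← hx'o, pow_orderOf_eq_one, one_mul, inv_one, mul_one, hx'o] at h
      exact mul_eq_right.mp h.symm
    have hg1 : g = 1 := orderOf_eq_one_iff.mp (Nat.eq_one_of_dvd_coprimes (hl'.coprime_iff_not_dvd.mpr hnd)
      (orderOf_dvd_of_pow_eq_one hgl) (Subgroup.orderOf_dvd_natCard _ hgK))
    rw [hg, mul_inv_eq_one, mul_inv_eq_iff_eq_mul] at hg1
    exact hg1.symm
  -- the cores of `K` are cyclic, so central in `K`
  have hKcore : ∀ r : ℕ, r.Prime → K ≤ Subgroup.centralizer (pCoreOf r K : Set G) := fun r hr => by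
    by_cases hbot : ∀ e ∈ pCoreOf r K, e = 1
    · exact fun k _ => Subgroup.mem_centralizer_iff.mpr fun e he => by rw [hbot e he, one_mul, mul_one]
    push Not at hbot
    obtain ⟨e, he, he1⟩ := hbot
    have hd := (hrcases hr he).resolve_left he1
    haveI := core_cyclic hF hNB hBel hFr hCores hx hr (hne2 ((hcore r hr).1 he) hd)
      (fun h => not_dvd_card_derived hF hNB hBel hFr hAb hl hlidx
        (hxo ▸ h ▸ hd.trans (Subgroup.orderOf_dvd_natCard _ (pCoreOf_le r K he))))
      (hcore r hr).1 (hcore r hr).2 (isPGroup_pCoreOf r K)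
    exact Subgroup.commutator_le.mpr fun s hs t ht =>
      commutator_centralizes_cyclic ((hcore r hr).2 (hWC hs)) ((hcore r hr).2 (hWC ht))
  have hKab : ∀ k ∈ K, ∀ k' ∈ K, k * k' = k' * k := fun k hk k' hk' => by
    have hkF : k ∈ fittingOf K := B1.mem_fittingOf_of_centralizes hk fun r hr e he =>
      Subgroup.mem_centralizer_iff.mp (hKcore r hr hk) e he
    have hle : fittingOf K ≤ Subgroup.centralizer ({k'} : Set G) := by
      rw [fittingOf, CfsgLib.fittingSubgroup_eq_iSup_pCore, Subgroup.map_iSup]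
      exact iSup_le fun p e he => Subgroup.mem_centralizer_singleton_iff.mpr
        (Subgroup.mem_centralizer_iff.mp (hKcore p p.2 hk') e he)
    exact Subgroup.mem_centralizer_singleton_iff.mp (hle hkF)
  -- `C` normalises `w`
  haveI := Fact.mk hwp
  have hwn : ∀ c ∈ C, c ∈ Subgroup.normalizer (Subgroup.zpowers w : Set G) := by
    let P : Subgroup G :=
      { carrier := {k | k ∈ K ∧ ∃ j : ℕ, k ^ orderOf w ^ j = 1}
        one_mem' := ⟨one_mem K, 0, by simp⟩
        mul_mem' := fun {s t} ⟨hs, i, hi⟩ ⟨ht, j, hj⟩ => ⟨mul_mem hs ht, i + j, by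
          rw [(show Commute s t from hKab s hs t ht).mul_pow, pow_add, pow_mul, hi, one_pow, one_mul, mul_comm,
            pow_mul, hj, one_pow]⟩
        inv_mem' := fun {s} ⟨hs, i, hi⟩ => ⟨inv_mem hs, i, by rw [inv_pow, hi, inv_one]⟩ }
    have hPC : P ≤ C := fun k hk => hWC (hKW hk.1)
    have hPn : C ≤ Subgroup.normalizer (P : Set G) := fun c hc => Subgroup.mem_normalizer_iff.mpr fun k => by
      show (k ∈ K ∧ ∃ j, k ^ orderOf w ^ j = 1) ↔ (c * k * c⁻¹ ∈ K ∧ ∃ j, (c * k * c⁻¹) ^ orderOf w ^ j = 1)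
      simp only [conj_pow, conj_eq_one_iff]
      exact and_congr_left' (Subgroup.mem_normalizer_iff.mp (hCK hc) k)
    have hP : IsPGroup (orderOf w) P := fun k => by
      obtain ⟨j, hj⟩ := k.2.2
      exact ⟨j, Subtype.ext hj⟩
    have hwP : w ∈ P := ⟨hwK, 1, by rw [pow_one, pow_orderOf_eq_one]⟩
    haveI := core_cyclic hF hNB hBel hFr hCores hx hwp (hne2 (hWC hw) dvd_rfl)
      (fun h => not_dvd_card_derived hF hNB hBel hFr hAb hl hlidx
        (hxo ▸ h ▸ Subgroup.orderOf_dvd_natCard _ hwK)) hPC hPn hP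
    obtain ⟨g, hg⟩ := IsCyclic.exists_generator (α := P)
    have hzle : ∀ k ∈ P, k ^ orderOf w = 1 → k ∈ Subgroup.zpowers w := fun k hk hk1 => by
      letI := Fintype.ofFinite P
      set S := (Finset.univ : Finset P).filter fun s => s ^ orderOf w = 1
      have hS := IsCyclic.card_pow_eq_one_le (α := P) hwp.pos
      have hsub : (Finset.range (orderOf w)).image (fun n => (⟨w, hwP⟩ : P) ^ n) ⊆ S := fun s hs => by
        obtain ⟨n, -, rfl⟩ := Finset.mem_image.mp hs
        refine Finset.mem_filter.mpr ⟨Finset.mem_univ _, Subtype.ext ?_⟩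
        push_cast
        rw [← pow_mul, mul_comm, pow_mul, pow_orderOf_eq_one, one_pow]
      have hcard : ((Finset.range (orderOf w)).image fun n => (⟨w, hwP⟩ : P) ^ n).card = orderOf w := by
        rw [Finset.card_image_of_injOn, Finset.card_range]
        intro m hm n hn h
        simp only [Finset.coe_range, Set.mem_Iio] at hm hn
        exact pow_injOn_Iio_orderOf (x := (⟨w, hwP⟩ : P)) (by rw [Set.mem_Iio, Subgroup.orderOf_mk]; exact hm)
          (by rw [Set.mem_Iio, Subgroup.orderOf_mk]; exact hn) h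
      have h2 : (⟨k, hk⟩ : P) ∈ S := Finset.mem_filter.mpr ⟨Finset.mem_univ _, Subtype.ext hk1⟩
      rw [← Finset.eq_of_subset_of_card_le hsub (hS.trans hcard.ge)] at h2
      obtain ⟨n, -, hn⟩ := Finset.mem_image.mp h2
      exact Subgroup.mem_zpowers_iff.mpr ⟨n, by rw [zpow_natCast]; exact congrArg Subtype.val hn⟩
    intro c hc
    refine Subgroup.mem_normalizer_fintype fun k hk => ?_
    obtain ⟨n, rfl⟩ := Subgroup.mem_zpowers_iff.mp hk
    exact hzle _ ((Subgroup.mem_normalizer_iff.mp (hPn hc) _).mp (zpow_mem hwP n))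
      (by rw [conj_pow, ← zpow_natCast, ← zpow_mul, mul_comm, zpow_mul, zpow_natCast, pow_orderOf_eq_one, one_zpow,
        mul_one, mul_inv_cancel])
  -- `K` is central in `W`
  have hexp : ∀ {p : ℕ}, p.Prime → p ∣ idx → ∀ c ∈ W, ∀ j : ℕ, c ^ p ^ j = 1 → c ^ p = 1 := fun hp hpidx c hc j hj =>
    pow_eq_one_of_normalises hF hNB hBel hFr hAb (hWC hw) hwp h4 hp hpidx hc (hwn c (hWC hc)) hj
  haveI : (K.subgroupOf W).Normal := ⟨fun y hy g => (Subgroup.mem_normalizer_iff.mp (hCK (hWC g.2)) _).mp hy⟩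
  have hcentral : ∀ k ∈ K, ∀ s ∈ W, k * s = s * k := fun k hk => by
    suffices h : W ≤ Subgroup.centralizer ({k} : Set G) from fun s hs =>
      (Subgroup.mem_centralizer_singleton_iff.mp (h hs)).symm
    intro s hs
    suffices hc : Nat.card W ∣ Nat.card ↥(W ⊓ Subgroup.centralizer ({k} : Set G)) by
      have heq : W ⊓ Subgroup.centralizer ({k} : Set G) = W :=
        Subgroup.eq_of_le_of_card_ge inf_le_left (Nat.le_of_dvd Nat.card_pos hc)
      exact (Subgroup.mem_inf.mp (heq.symm ▸ hs : s ∈ W ⊓ Subgroup.centralizer ({k} : Set G))).2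
    rw [Nat.dvd_iff_prime_pow_dvd_dvd]
    intro p n hp hpn
    haveI := Fact.mk hp
    obtain ⟨S, -, hS⟩ := exists_maxP (p := p) IsPGroup.of_bot (bot_le : ⊥ ≤ W)
    have hSle : S ≤ W ⊓ Subgroup.centralizer ({k} : Set G) := fun c hcS => by
      refine ⟨hS.le hcS, Subgroup.mem_centralizer_singleton_iff.mpr ?_⟩
      obtain ⟨j, hj⟩ := hS.isPGroup ⟨c, hcS⟩
      have hj' : c ^ p ^ j = 1 := congrArg Subtype.val hj
      by_cases hpidx : p ∣ idx
      · rcases eq_or_ne c 1 with rfl | hc1
        · rw [one_mul, mul_one]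
        · exact (hcent hp hpidx (hS.le hcS) (orderOf_eq_prime (hexp hp hpidx c (hS.le hcS) j hj') hc1) k hk).symm
      · refine hKab c ?_ k hk
        haveI : Finite (W ⧸ K.subgroupOf W) := inferInstance
        refine Subgroup.mem_subgroupOf.mp ((QuotientGroup.eq_one_iff (⟨c, hS.le hcS⟩ : W)).mp
          (orderOf_eq_one_iff.mp (Nat.eq_one_of_dvd_coprimes ((hp.coprime_iff_not_dvd.mpr hpidx).pow_left j)
            (orderOf_dvd_of_pow_eq_one ?_) (orderOf_dvd_natCard _))))
        rw [← QuotientGroup.mk_pow, show (⟨c, hS.le hcS⟩ : W) ^ p ^ j = 1 from Subtype.ext hj', QuotientGroup.mk_one]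
    refine (Nat.dvd_trans ?_ (Subgroup.card_dvd_of_le hSle))
    rw [hS.card]
    exact pow_dvd_pow p ((hp.pow_dvd_iff_le_factorization Nat.card_pos.ne').mp hpn)
  -- `W` is abelian
  have hsq : Squarefree idx := Nat.squarefree_iff_prime_squarefree.mpr fun p hp hpp => by
    haveI := Fact.mk hp
    have hpidx : p ∣ idx := (dvd_mul_left p p).trans hpp
    obtain ⟨S, -, hS⟩ := exists_maxP (p := p) IsPGroup.of_bot (bot_le : ⊥ ≤ W)
    haveI := (hAb p hp hpidx S hS).1
    obtain ⟨g, hg⟩ := IsCyclic.exists_generator (α := S)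
    have hcardS : Nat.card S = orderOf g := (orderOf_eq_card_of_forall_mem_zpowers hg).symm
    obtain ⟨j, hj⟩ := hS.isPGroup g
    have hdvd : Nat.card S ∣ p := by
      rw [hcardS, ← Subgroup.orderOf_coe]
      exact orderOf_dvd_of_pow_eq_one (hexp hp hpidx g (hS.le g.2) j (congrArg Subtype.val hj))
    have h2 : p ^ 2 ∣ p := by
      refine Nat.dvd_trans ?_ hdvd
      rw [hS.card]
      exact pow_dvd_pow p ((hp.pow_dvd_iff_le_factorization Nat.card_pos.ne').mp (by
        rw [pow_two]; exact hpp.trans hidxW))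
    have := Nat.le_of_dvd hp.pos h2
    have := hp.two_le
    nlinarith
  set Q := W ⧸ K.subgroupOf W
  haveI : Finite Q := inferInstance
  have hQcomm : ∀ s t : Q, s * t = t * s := by
    intro s t
    obtain ⟨s, rfl⟩ := QuotientGroup.mk_surjective s
    obtain ⟨t, rfl⟩ := QuotientGroup.mk_surjective t
    rw [← QuotientGroup.mk_mul, ← QuotientGroup.mk_mul, QuotientGroup.eq]
    refine Subgroup.mem_subgroupOf.mpr ?_
    have h := Subgroup.commutator_mem_commutator (inv_mem t.2 : (t : G)⁻¹ ∈ W) (inv_mem s.2 : (s : G)⁻¹ ∈ W)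
    show ((s * t : W) : G)⁻¹ * ((t * s : W) : G) ∈ K
    simpa [commutatorElement_def, mul_assoc] using h
  letI : CommGroup Q := { (inferInstance : Group Q) with mul_comm := hQcomm }
  haveI : IsZGroup Q := IsZGroup.of_squarefree hsq
  haveI : IsCyclic Q := inferInstance
  have hab := commutative_of_cyclic_center_quotient (QuotientGroup.mk' (K.subgroupOf W)) (by
    rw [QuotientGroup.ker_mk']
    exact fun s hs => Subgroup.mem_center_iff.mpr fun t => Subtype.ext (hcentral s hs t t.2).symm)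
  have hKbot : K ≤ ⊥ := Subgroup.commutator_le.mpr fun s hs t ht => Subgroup.mem_bot.mpr (by
    rw [commutatorElement_eq_one_iff_mul_comm]
    exact congrArg Subtype.val (hab ⟨s, hs⟩ ⟨t, ht⟩))
  exact hw1 (Subgroup.mem_bot.mp (hKbot hwK))

end CfsgLib.Bender.NC
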