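import Cfsg.Agent.Lib.Bender.FromB1.NC.Base
import Cfsg.Agent.Lib.Bender.NCTools.RegClass

/-!
The semiregular end of the non-commuting case.

Blueprint: `blueprint/bender/A5c_audit.md`, section 4 (END (NR)); `blueprint/bender/A5b.md`, section 8.
-/

set_option autoImplicit false
set_option linter.unusedSectionVars false
set_option linter.style.haveILetI false

namespace CfsgLib.Bender.NC

open MulAction Cfsg CfsgLib.Bender CfsgLib.Bender.OneFix CfsgLib.Bender.TwoClosed
open CfsgLib.Bender.B1 (FourIn)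

universe u

namespace Frame

variable {G Ω : Type u} [Group G] [MulAction G Ω] [Finite G] [FaithfulSMul G Ω] (hF : OneFix G Ω)
  (hNB : NoBad G Ω) {a b : Ω} {u : G} {F C : Subgroup G} (hFr : Frame a b u F C)
  (hBel : B1.Below.{u} (Nat.card G)) (hnc : ¬ CommAt G a)
include hF hNB hFr hBel hnc

/-- The elements of `C` generated by the involutions at `a` and `F` cannot all act semiregularly on `F`. -/
theorem false_of_semiregular
    (hsemi : ∀ c ∈ C, c ∈ invs (G := G) a ⊔ F → ∀ f ∈ F, f ≠ 1 → c * f = f * c → c = 1) : False := by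
  classical
  obtain ⟨i, j, hi, hia, hj, hja, hne, hij⟩ := exists_four hF hNB hFr
  set X1 := invs (G := G) a ⊔ F with hX1
  have hX1H : X1 ≤ stabilizer G a := sup_le invs_le fun f hf => (le_two hF hNB hFr hf).1
  have hinvX : ∀ {w : G}, IsInv w → w • a = a → w ∈ X1 := fun hw hwa =>
    (le_sup_left : invs (G := G) a ≤ X1) (inv_mem_invs hw hwa)
  have hFX : F ≤ X1 := le_sup_right
  haveI : Finite X1 := inferInstance
  letI := Fintype.ofFinite X1
  set J : Subgroup X1 := F.subgroupOf X1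
  set z : X1 := ⟨i, hinvX hi hia⟩
  have hconj : ∀ (x : X1) {w : G}, w • a = a → ((x : G) * w * (x : G)⁻¹) • a = a := fun x w hw => by
    have hx := mem_stabilizer_iff.mp (hX1H x.2)
    rw [mul_smul, mul_smul, inv_smul_eq_iff.mpr hx.symm, hw, hx]
  have hreg : ∀ g : X1, ∃! f : J, (f : X1) * z * (f : X1)⁻¹ = g * z * g⁻¹ := fun g => by
    obtain ⟨f, ⟨hf, hfi⟩, huniq⟩ := exists_unique_conj hF hNB hFr hi hia (hi.conj (g : G)) (hconj g hia)
    refine ⟨⟨⟨f, hFX hf⟩, hf⟩, Subtype.ext hfi, fun f' hf' => ?_⟩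
    exact Subtype.ext (Subtype.ext (huniq _ ⟨f'.2, congrArg Subtype.val hf'⟩))
  have hcent : ∀ y ∈ J, y ≠ 1 → Subgroup.centralizer ({y} : Set X1) = J := fun y hy hy1 => by
    have hy1' : (y : G) ≠ 1 := fun e => hy1 (Subtype.ext e)
    ext x
    rw [Subgroup.mem_centralizer_singleton_iff]
    refine ⟨fun hxy => ?_, fun hx => Subtype.ext (hFr.comm_F _ hx _ hy)⟩
    have hxy' : (x : G) * y = y * x := congrArg Subtype.val hxy
    obtain ⟨f, hf, c, hc, hfc⟩ := exists_mul hF hNB hFr
      (cent_le hF hNB hFr hy hy1' (mem_stabilizer_iff.mp (hX1H x.2)) hxy')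
    have hcX : c ∈ X1 := by
      have h : f⁻¹ * (x : G) ∈ X1 := mul_mem (inv_mem (hFX hf)) x.2
      rwa [hfc, inv_mul_cancel_left] at h
    have hcy : c * y = y * c := by
      have h1 : Commute (f⁻¹ * (x : G)) y := (show Commute f y from hFr.comm_F f hf _ hy).inv_left.mul_left hxy'
      rwa [hfc, inv_mul_cancel_left] at h1
    rw [hsemi c hc hcX _ hy hy1' hcy, mul_one] at hfc
    show (x : G) ∈ F
    rw [hfc]
    exact hf
  have hodd : ¬ 2 ∣ J.relIndex (Subgroup.normalizer (J : Set X1)) := by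
    obtain ⟨f, hf, hf1⟩ := exists_ne_one hF hNB hFr
    have hle : Subgroup.normalizer (J : Set X1) ≤ (two a b).subgroupOf X1 := fun x hx => by
      have hxa := mem_stabilizer_iff.mp (hX1H x.2)
      have h1 : (x : G) * f * (x : G)⁻¹ ∈ F := (Subgroup.mem_normalizer_iff.mp hx ⟨f, hFX hf⟩).mp hf
      refine Subgroup.mem_subgroupOf.mpr (mem_two.mpr ⟨hxa, ?_⟩)
      rcases fix_pair hF hNB hFr h1 (fun e => hf1 (conj_eq_one_iff.mp e))
        (smul_conj (mem_two.mp (le_two hF hNB hFr hf)).2) with e | e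
      · exact absurd (smul_left_cancel (x : G) (e.trans hxa.symm)) hFr.hab
      · exact e
    have hd : J.relIndex (Subgroup.normalizer (J : Set X1)) ∣ Nat.card (two a b : Subgroup G) := by
      refine (Subgroup.relIndex_dvd_card _ _).trans ((Subgroup.card_dvd_of_le hle).trans ?_)
      rw [← Subgroup.card_map_of_injective (K := (two a b).subgroupOf X1) X1.subtype_injective]
      exact Subgroup.card_dvd_of_le (Subgroup.map_le_iff_le_comap.mpr le_rfl)
    intro h2
    exact (odd_two hF hFr.hab.symm).not_two_dvd_nat (h2.trans hd)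
  have hfour : ∃ g h : X1, z * (g * z * g⁻¹) = h * z * h⁻¹ := by
    have hij1 : IsInv (i * j) := ⟨fun e => hne (by rw [← inv_eq_of_mul_eq_one_right e, hi.inv]), by
      calc i * j * (i * j) = i * (j * i) * j := by group
        _ = 1 := by rw [← hij, ← mul_assoc, hi.2, one_mul, hj.2]⟩
    obtain ⟨g, ⟨hg, hgj⟩, -⟩ := exists_unique_conj hF hNB hFr hi hia hj hja
    obtain ⟨h, ⟨hh, hhij⟩, -⟩ := exists_unique_conj hF hNB hFr hi hia hij1 (by rw [mul_smul, hja, hia])
    refine ⟨⟨g, hFX hg⟩, ⟨h, hFX hh⟩, Subtype.ext ?_⟩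
    show i * (g * i * g⁻¹) = h * i * h⁻¹
    rw [hgj, hhij]
  obtain ⟨k, hk, hka, hik⟩ := not_central hF hNB hFr hBel hnc hi hia
  obtain ⟨g, ⟨hg, hgk⟩, -⟩ := exists_unique_conj hF hNB hFr hi hia hk hka
  have h := congrArg Subtype.val (NCTools.commute_of_regular (z := z) (Subtype.ext hi.2)
    (fun e => hi.1 (congrArg Subtype.val e)) hreg hcent hodd hfour ⟨g, hFX hg⟩)
  refine hik ?_
  rw [← hgk]
  exact h.symm

end Frame

end CfsgLib.Bender.NC
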