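import Cfsg.Agent.Lib.Bender.FromB1.NC.Main
import Cfsg.Agent.Lib.Bender.FromB1.NC.Sylow
import Cfsg.Agent.Lib.Bender.FromB1.NC.Automiser
import Cfsg.Agent.Lib.Bender.GoodStep

/-!
The non-commuting case from its two final cases.

Blueprint: `blueprint/bender/A5b.md`.
-/

set_option autoImplicit false
set_option linter.unusedSectionVars false

namespace CfsgLib.Bender.NC

open MulAction Cfsg CfsgLib.Bender CfsgLib.Bender.OneFix CfsgLib.Bender.TwoClosed

universe u

/-- The primes of the abelianisation of `W` have rank one. -/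
theorem abRankOne {G Ω : Type u} [Group G] [MulAction G Ω] [Finite G] [FaithfulSMul G Ω] (hF : OneFix G Ω)
    (hNB : NoBad G Ω) (hBel : B1.Below.{u} (Nat.card G)) {a b : Ω} {u : G} {F C : Subgroup G}
    (hFr : Frame a b u F C) (hnc : ¬ CommAt G a) : AbRankOne a b u F C :=
  fun _ hl hdvd _ hR => sylow_cyclic hF hNB hBel hFr hnc hl hdvd hR

/-- The non-commuting case, given that no frame has the two properties. -/
theorem commHyp_of_cases
    (h : ∀ (G Ω : Type u) [Group G] [MulAction G Ω] [Finite G] [FaithfulSMul G Ω], OneFix G Ω → NoBad G Ω →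
      B1.Below.{u} (Nat.card G) → ∀ (a b : Ω) (u : G) (F C : Subgroup G), Frame a b u F C → ¬ CommAt G a →
        AbRankOne a b u F C → False) : Assembly.CommHyp.{u} := by
  intro G Ω _ _ _ _ hF hNB hBel _ a b x hab hx hp h3 h4
  by_contra hnc
  obtain ⟨u, F, C, hFr⟩ := exists_frame hF hNB hBel hab hx hp h3 h4
  exact h G Ω hF hNB hBel a b u F C hFr hnc (abRankOne hF hNB hBel hFr hnc)

end CfsgLib.Bender.NC
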