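import Cfsg.Agent.Lib.Bender.FromB1.NC.Transfer
import Cfsg.Agent.Lib.Bender.FromB1.NC.Galois

/-!
A commuting pair of elements of order `l`, one of rank one: `F` is generated by the centralisers of the other
lines, so at least two of them are good and the pair lies in the derived group of `W`.

Blueprint: `blueprint/bender/A5c_audit.md`, section 3.
-/

set_option autoImplicit false
set_option linter.unusedSectionVars false
set_option linter.style.haveILetI false

namespace CfsgLib.Bender.NC

open MulAction Cfsg CfsgLib.Bender CfsgLib.Bender.OneFix CfsgLib.Bender.TwoClosed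
open CfsgLib.Bender.B1 (FourIn)
open scoped commutatorElement

universe u v

/-- The product over the orbit of an automorphism of exponent `l` is fixed. -/
theorem fix_prod {A : Type v} [CommGroup A] {l : ℕ} {g : MulAut A} (hg : g ^ l = 1) (x : A) :
    g (∏ j ∈ Finset.range l, (g ^ j) x) = ∏ j ∈ Finset.range l, (g ^ j) x := by
  have h1 := Finset.prod_range_succ' (fun j => (g ^ j) x) l
  rw [Finset.prod_range_succ, hg, pow_zero] at h1
  rw [map_prod]
  refine (Finset.prod_congr rfl fun j _ => ?_).trans (mul_right_cancel h1).symm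
  rw [pow_succ', MulAut.mul_apply]

/-- Two commuting automorphisms of exponent `l`, the first without fixed points: every `l`-th power lies in a
subgroup containing the fixed points of the other lines. -/
theorem pow_mem_of_lines {A : Type v} [CommGroup A] {l : ℕ} (hl : l.Prime) {σ τ : MulAut A} (hσ : σ ^ l = 1)
    (hτ : τ ^ l = 1) (hc : Commute σ τ) (hfix : ∀ x : A, σ x = x → x = 1) {H : Subgroup A}
    (hH : ∀ i < l, ∀ x : A, (τ * σ ^ i) x = x → x ∈ H) (x : A) : x ^ l ∈ H := by
  have hsum : ∏ i ∈ Finset.range l, ∏ j ∈ Finset.range l, ((τ * σ ^ i) ^ j) x = x ^ l := by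
    rw [Finset.prod_comm, Finset.prod_eq_single 0]
    · simp [Finset.prod_const]
    · intro j hj hj0
      have hcop : Nat.Coprime j l := (hl.coprime_iff_not_dvd.mpr fun h =>
        hj0 (Nat.eq_zero_of_dvd_of_lt h (Finset.mem_range.mp hj))).symm
      have hone : ∏ i ∈ Finset.range l, ((σ ^ j) ^ i) x = 1 := by
        refine hfix _ ?_
        obtain ⟨m, hm⟩ := exists_pow_eq_self_of_coprime (x := σ)
          (hcop.coprime_dvd_right (orderOf_dvd_of_pow_eq_one hσ))
        have h1 := fix_prod (g := σ ^ j) (l := l) (by rw [← pow_mul, mul_comm, pow_mul, hσ, one_pow]) x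
        have h2 : ∀ n : ℕ, ((σ ^ j) ^ n) (∏ i ∈ Finset.range l, ((σ ^ j) ^ i) x) =
            ∏ i ∈ Finset.range l, ((σ ^ j) ^ i) x := fun n => by
          induction n with
          | zero => simp
          | succ n ih => rw [pow_succ', MulAut.mul_apply, ih, h1]
        have h3 := h2 m
        rwa [hm] at h3
      calc ∏ i ∈ Finset.range l, ((τ * σ ^ i) ^ j) x
          = ∏ i ∈ Finset.range l, (τ ^ j) (((σ ^ j) ^ i) x) := Finset.prod_congr rfl fun i _ => by
            rw [((hc.symm).pow_right i).mul_pow, ← pow_mul, ← pow_mul, mul_comm i j, MulAut.mul_apply]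
        _ = 1 := by rw [← map_prod, hone, map_one]
    · intro h
      exact absurd (Finset.mem_range.mpr hl.pos) h
  rw [← hsum]
  refine Subgroup.prod_mem _ fun i hi => hH i (Finset.mem_range.mp hi) _ (fix_prod ?_ x)
  rw [((hc.symm).pow_right i).mul_pow, hτ, ← pow_mul, mul_comm, pow_mul, hσ, one_pow, one_mul]

variable {G Ω : Type u} [Group G] [MulAction G Ω] [Finite G] [FaithfulSMul G Ω] (hF : OneFix G Ω)
  (hNB : NoBad G Ω) {a b : Ω} {u : G} {F C : Subgroup G} (hFr : Frame a b u F C)
include hF hNB hFr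

/-- An element of prime order of `C` is good or of rank one. -/
theorem Frame.good_or_elt {c : G} (hc : c ∈ C) (hp : (orderOf c).Prime) :
    FourIn (Subgroup.centralizer (Subgroup.zpowers c : Set G)) ∨ RankOneElt a b u c := by
  by_cases h : FourIn (Subgroup.centralizer (Subgroup.zpowers c : Set G))
  · exact Or.inl h
  · exact Or.inr ⟨hFr.hab, Frame.C_le hF hNB hFr hc, hp, Frame.third hF hNB hFr hc, h, hFr.inv_u, hFr.swap,
      ((Frame.mem_C hF hNB hFr).mp hc).2.symm⟩

/-- A rank one order does not divide the order of `F`. -/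
theorem Frame.coprime_card {x : G} (hx : RankOneElt a b u x) : (orderOf x).Coprime (Nat.card F) := by
  rw [Frame.card_F hF hNB hFr]
  exact (hx.prime.coprime_iff_not_dvd).mpr (RankOneElt.not_dvd_invAt hF hNB hx)

/-- What centralises the fixed points in `F` of all lines through a rank one element, other than its own,
centralises `F`. -/
theorem Frame.commute_of_lines {x w e : G} (hx : RankOneElt a b u x) (hw : w ∈ C) (hwl : w ^ orderOf x = 1)
    (hwx : w * x = x * w)
    (h : ∀ i < orderOf x, ∀ f ∈ F, f * (w * x ^ i) = w * x ^ i * f → e * f = f * e) :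
    ∀ f ∈ F, e * f = f * e := by
  classical
  letI : CommGroup F :=
    { (inferInstance : Group F) with mul_comm := fun f f' => Subtype.ext (hFr.comm_F f f.2 f' f'.2) }
  let ψ : C →* MulAut F :=
    { toFun := fun c =>
        { toFun := fun f => ⟨(c : G) * f * (c : G)⁻¹, Frame.conj_F_of_C hF hNB hFr c.2 f.2⟩
          invFun := fun f => ⟨(c : G)⁻¹ * f * c, by
            have := Frame.conj_F_of_C hF hNB hFr (inv_mem c.2) f.2
            rwa [inv_inv] at this⟩
          left_inv := fun f => Subtype.ext (by show (c : G)⁻¹ * ((c : G) * f * (c : G)⁻¹) * c = f; group)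
          right_inv := fun f => Subtype.ext (by show (c : G) * ((c : G)⁻¹ * f * c) * (c : G)⁻¹ = f; group)
          map_mul' := fun f f' => Subtype.ext (by
            show (c : G) * ((f : G) * f') * (c : G)⁻¹ = (c : G) * f * (c : G)⁻¹ * ((c : G) * f' * (c : G)⁻¹)
            group) }
      map_one' := MulEquiv.ext fun f => Subtype.ext (by show (1 : G) * f * (1 : G)⁻¹ = f; group)
      map_mul' := fun c c' => MulEquiv.ext fun f => Subtype.ext (by
        show ((c : G) * c') * f * ((c : G) * c')⁻¹ = (c : G) * ((c' : G) * f * (c' : G)⁻¹) * (c : G)⁻¹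
        group) }
  have hψfix : ∀ (c : C) (f : F), ψ c f = f → (f : G) * c = c * f := fun c f hf =>
    (mul_inv_eq_iff_eq_mul.mp (congrArg Subtype.val hf)).symm
  set xC : C := ⟨x, Frame.elt_mem hF hNB hFr hx⟩
  set wC : C := ⟨w, hw⟩
  let Ce : Subgroup F :=
    { carrier := {f | e * (f : G) = (f : G) * e}
      one_mem' := by show e * (1 : G) = (1 : G) * e; rw [mul_one, one_mul]
      mul_mem' := fun {f f'} hf hf' => by
        show e * ((f : G) * f') = (f : G) * f' * e
        exact ((show Commute e (f : G) from hf).mul_right (show Commute e (f' : G) from hf')).eq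
      inv_mem' := fun {f} hf => by
        show e * (f : G)⁻¹ = (f : G)⁻¹ * e
        exact ((show Commute e (f : G) from hf).inv_right).eq }
  intro f hf
  have hpow := pow_mem_of_lines hx.prime (σ := ψ xC) (τ := ψ wC)
    (by rw [← map_pow, show xC ^ orderOf x = 1 from Subtype.ext (pow_orderOf_eq_one x), map_one])
    (by rw [← map_pow, show wC ^ orderOf x = 1 from Subtype.ext hwl, map_one])
    ((show Commute xC wC from Subtype.ext hwx.symm).map ψ)
    (fun f hf' => Subtype.ext (Frame.cent_elt hF hNB hFr hx f.2 (hψfix xC f hf')))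
    (H := Ce) (fun i hi f hf' => h i hi f f.2 (hψfix (wC * xC ^ i) f (by rw [map_mul, map_pow]; exact hf')))
    (⟨f, hf⟩ : F)
  have h1 : Commute e (f ^ orderOf x) := hpow
  obtain ⟨m, hm⟩ := exists_pow_eq_self_of_coprime (x := f)
    ((Frame.coprime_card hF hNB hFr hx).coprime_dvd_right (Subgroup.orderOf_dvd_natCard F hf))
  have h2 := h1.pow_right m
  rwa [hm] at h2

variable (hBel : B1.Below.{u} (Nat.card G)) (hnc : ¬ CommAt G a)
include hBel hnc

/-- An `l`-element of `W` centralising a non-trivial element of `F` lies in the derived group. -/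
theorem mem_commutator_of_cent {l n : ℕ} (hl : l.Prime) {c : G} (hc : c ∈ wSub a F C) (ho : c ^ l ^ n = 1)
    {f : G} (hf : f ∈ F) (hf1 : f ≠ 1) (hcf : f * c = c * f) : c ∈ ⁅wSub a F C, wSub a F C⁆ := by
  obtain ⟨j, -, hj⟩ := (Nat.dvd_prime_pow hl).mp (orderOf_dvd_of_pow_eq_one ho)
  rcases j with _ | j
  · rw [pow_zero] at hj
    rw [orderOf_eq_one_iff.mp hj]
    exact one_mem _
  refine mem_commutator_of_good hF hNB hBel hFr hl hc hj ?_
  refine (Frame.four_iff hF hNB hFr (pow_mem hc.1 _) ?_).mpr ⟨f, hf, hf1, ((show Commute f c from hcf).pow_right _).eq⟩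
  rw [orderOf_pow_of_dvd (pow_ne_zero j hl.ne_zero) (by rw [hj]; exact pow_dvd_pow l j.le_succ), hj, pow_succ,
    Nat.mul_div_cancel_left _ (pow_pos hl.pos j)]
  exact hl

/-- A commuting pair: a line other than that of the rank one element is good, and both elements lie in the derived
group. -/
theorem lines_of_pair {x w : G} (hx : RankOneElt a b u x) (hxW : x ∈ wSub a F C) (hw : w ∈ wSub a F C)
    (hwl : w ^ orderOf x = 1) (hwx : w * x = x * w) (hwne : w ∉ Subgroup.zpowers x) :
    (∃ i : ℕ, orderOf (w * x ^ i) = orderOf x ∧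
      FourIn (Subgroup.centralizer (Subgroup.zpowers (w * x ^ i) : Set G))) ∧
    x ∈ ⁅wSub a F C, wSub a F C⁆ ∧ w ∈ ⁅wSub a F C, wSub a F C⁆ := by
  classical
  haveI := Fact.mk hx.prime
  have hxC := Frame.elt_mem hF hNB hFr hx
  have hne1 : ∀ i : ℕ, w * x ^ i ≠ 1 := fun i e => hwne (by
    rw [eq_inv_of_mul_eq_one_left e]
    exact inv_mem (pow_mem (Subgroup.mem_zpowers x) i))
  have hord : ∀ i : ℕ, orderOf (w * x ^ i) = orderOf x := fun i => orderOf_eq_prime (by
    rw [(show Commute w (x ^ i) from (show Commute w x from hwx).pow_right i).mul_pow, hwl, ← pow_mul, mul_comm,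
      pow_mul, pow_orderOf_eq_one, one_pow, one_mul]) (hne1 i)
  let S := fun i : ℕ => ∃ f ∈ F, f ≠ 1 ∧ f * (w * x ^ i) = w * x ^ i * f
  have hgood : ∀ i, S i → FourIn (Subgroup.centralizer (Subgroup.zpowers (w * x ^ i) : Set G)) ∧
      w * x ^ i ∈ ⁅wSub a F C, wSub a F C⁆ := fun i ⟨f, hf, hf1, hfc⟩ => by
    refine ⟨(Frame.four_iff hF hNB hFr (mul_mem hw.1 (pow_mem hxC i)) (by rw [hord]; exact hx.prime)).mpr
      ⟨f, hf, hf1, hfc⟩, mem_commutator_of_cent hF hNB hFr hBel hnc hx.prime (n := 1)
        (mul_mem hw (pow_mem hxW i)) ?_ hf hf1 hfc⟩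
    rw [pow_one, ← hord i, pow_orderOf_eq_one]
  obtain ⟨i, hi, hSi⟩ : ∃ i < orderOf x, S i := by
    by_contra h
    push Not at h
    obtain ⟨f, hf, hf1⟩ := Frame.exists_ne_one hF hNB hFr
    refine hf1 (Frame.cent_elt hF hNB hFr hx hf ?_)
    exact (Frame.commute_of_lines hF hNB hFr hx hw.1 hwl hwx (e := x) (fun i hi f' hf' hc =>
      by rw [by_contra fun h1 => h i hi ⟨f', hf', h1, hc⟩, mul_one, one_mul]) f hf).symm
  obtain ⟨j, hj, hji, hSj⟩ : ∃ j < orderOf x, j ≠ i ∧ S j := by
    by_contra h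
    push Not at h
    refine hnc (Frame.commAt_of_cent hF hNB hFr hBel (c := w * x ^ i) (mul_mem hw.1 (pow_mem hxC i)) (hne1 i) ?_)
    refine Frame.commute_of_lines hF hNB hFr hx hw.1 hwl hwx fun j hj f' hf' hc => ?_
    rcases eq_or_ne j i with rfl | hji
    · exact hc.symm
    · rw [by_contra fun h1 => h j hj hji ⟨f', hf', h1, hc⟩, mul_one, one_mul]
  obtain ⟨hi4, hiW⟩ := hgood i hSi
  obtain ⟨-, hjW⟩ := hgood j hSj
  set W' := ⁅wSub a F C, wSub a F C⁆ with hW'
  have hdiff : x ^ ((j : ℤ) - i) ∈ W' := by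
    have h := mul_mem (inv_mem hiW) hjW
    rwa [mul_inv_rev, mul_assoc, inv_mul_cancel_left, ← zpow_natCast x i, ← zpow_natCast x j, ← zpow_neg, ← zpow_add,
      neg_add_eq_sub] at h
  have hxW' : x ∈ W' := by
    set n := ((j : ℤ) - i).natAbs with hn
    have hmem : x ^ n ∈ W' := by
      rcases Int.natAbs_eq ((j : ℤ) - i) with e | e
      · rw [e, zpow_natCast] at hdiff
        exact hdiff
      · rw [e, zpow_neg, zpow_natCast, inv_mem_iff] at hdiff
        exact hdiff
    obtain ⟨m, hm⟩ := exists_pow_eq_self_of_coprime (x := x) (n := n)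
      ((hx.prime.coprime_iff_not_dvd.mpr fun h => by
        have := Nat.eq_zero_of_dvd_of_lt h (by omega)
        omega).symm)
    rw [← hm]
    exact pow_mem hmem m
  refine ⟨⟨i, hord i, hi4⟩, hxW', ?_⟩
  have h := mul_mem hiW (inv_mem (pow_mem hxW' i))
  rwa [mul_inv_cancel_right] at h

/-- An `l`-subgroup of `W` with a rank one element, centralising a good element of order `l`, lies in the derived
group, and its elements act on the centraliser of that element in `F` as powers of the rank one element. -/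
theorem le_commutator_of_central {R : Subgroup G} {x y : G} (hx : RankOneElt a b u x)
    (hR : IsPGroup (orderOf x) R) (hRW : R ≤ wSub a F C) (hxR : x ∈ R) (hy : y ∈ wSub a F C)
    (hyo : orderOf y = orderOf x) (h4 : FourIn (Subgroup.centralizer (Subgroup.zpowers y : Set G)))
    (hRy : ∀ c ∈ R, c * y = y * c) : R ≤ ⁅wSub a F C, wSub a F C⁆ := by
  have hyp : (orderOf y).Prime := by rw [hyo]; exact hx.prime
  have hxy := hRy x hxR
  have hN : ∀ c ∈ R, c ∈ Subgroup.normalizer (Subgroup.zpowers y : Set G) := fun c hc =>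
    mem_normalizer_of_conj fun v hv => by
      obtain ⟨j, rfl⟩ := Subgroup.mem_zpowers_iff.mp hv
      rw [((show Commute c y from hRy c hc).zpow_right j).eq, mul_inv_cancel_right]
      exact Subgroup.zpow_mem _ (Subgroup.mem_zpowers y) j
  obtain ⟨f, hf, hf1, hfy⟩ := (Frame.four_iff hF hNB hFr hy.1 hyp).mp h4
  have hyx : y ∉ Subgroup.zpowers x := fun h => hf1 (Frame.cent_elt hF hNB hFr hx hf (by
    obtain ⟨k, hk⟩ := mem_powers_iff_mem_zpowers.mpr h
    change x ^ k = y at hk
    have hcop : k.Coprime (orderOf x) := (hx.prime.coprime_iff_not_dvd.mpr fun hd =>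
      hyp.one_lt.ne' (orderOf_eq_one_iff.mpr (hk ▸ orderOf_dvd_iff_pow_eq_one.mp hd))).symm
    obtain ⟨m, hm⟩ := exists_pow_eq_self_of_coprime hcop
    rw [← hm, hk]
    exact ((show Commute f y from hfy).pow_right m).eq))
  obtain ⟨-, hxW', -⟩ := lines_of_pair hF hNB hFr hBel hnc hx (hRW hxR) hy
    (by rw [← hyo, pow_orderOf_eq_one]) hxy.symm hyx
  intro c hc
  obtain ⟨-, hgal⟩ := galois hF hNB hBel hFr hy.1 hyp h4 hx (hN x hxR)
  obtain ⟨k, hk⟩ := hgal c (hRW hc).1 (hN c hc)
  have hmem : (x ^ k)⁻¹ * c ∈ ⁅wSub a F C, wSub a F C⁆ := by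
    obtain ⟨n, hn⟩ := hR ⟨(x ^ k)⁻¹ * c, mul_mem (inv_mem (pow_mem hxR k)) hc⟩
    refine mem_commutator_of_cent hF hNB hFr hBel hnc hx.prime (mul_mem (inv_mem (pow_mem (hRW hxR) k)) (hRW hc))
      (congrArg Subtype.val hn) hf hf1 ?_
    have h1 := hk f hf hfy
    calc f * ((x ^ k)⁻¹ * c) = (x ^ k)⁻¹ * (x ^ k * f * (x ^ k)⁻¹) * c := by group
      _ = (x ^ k)⁻¹ * c * f := by rw [← h1]; group
  have := mul_mem (pow_mem hxW' k) hmem
  rwa [mul_inv_cancel_left] at this

end CfsgLib.Bender.NC
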