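import Cfsg.Agent.Lib.Bender.FromB1.NC.Abelian

/-!
The frame of the non-commuting case.

Blueprint: `blueprint/bender/A5b.md`, section 2.
-/

set_option autoImplicit false
set_option linter.unusedSectionVars false
set_option linter.style.haveILetI false
set_option linter.unusedVariables false

namespace CfsgLib.Bender.NC

open MulAction Cfsg CfsgLib.Bender CfsgLib.Bender.OneFix CfsgLib.Bender.TwoClosed
open CfsgLib.Bender.B1 (FourIn)

universe u

variable {G Ω : Type u} [Group G] [MulAction G Ω] [Finite G] [FaithfulSMul G Ω]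

/-- An element of rank one with three fixed points gives a frame. -/
theorem exists_frame (hF : OneFix G Ω) (hNB : NoBad G Ω) (hBel : B1.Below.{u} (Nat.card G)) {a b : Ω} (hab : b ≠ a)
    {x : G} (hx : x ∈ two a b) (hp : (orderOf x).Prime) (h3 : Third a b x)
    (h4 : ¬ FourIn (Subgroup.centralizer (Subgroup.zpowers x : Set G))) :
    ∃ (u : G) (F C : Subgroup G), Frame a b u F C := by
  obtain ⟨u, hu⟩ := exists_elt hF hNB hab hx hp h3 h4
  have hDu : ∀ s ∈ two a b, u * s * u ∈ two a b := fun s hs => by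
    have := swap_conj_two hF hu.inv_u hu.swap s hs
    rwa [hu.inv_u.inv] at this
  have hDx : ∀ s ∈ two a b, x * s * x⁻¹ ∈ two a b := fun s hs => mul_mem (mul_mem hx hs) (inv_mem hx)
  have hc := RankOneElt.commute_inverted hF hNB hBel hu (S := two a b) le_rfl hDu hDx
  let F : Subgroup G :=
    { carrier := {y | y ∈ two a b ∧ u * y * u = y⁻¹}
      one_mem' := ⟨one_mem _, by simp [hu.inv_u.2]⟩
      mul_mem' := fun {v w} hv hw => ⟨mul_mem hv.1 hw.1, by
        rw [mul_conj_u hF hu, hv.2, hw.2, mul_inv_rev]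
        exact ((show Commute v w from hc v hv.1 hv.2 w hw.1 hw.2).inv_inv).eq⟩
      inv_mem' := fun {v} hv => ⟨inv_mem hv.1, by rw [inv_conj_u hF hu, hv.2]⟩ }
  exact ⟨u, F, two a b ⊓ Subgroup.centralizer ({u} : Set G),
    ⟨hab, hu.inv_u, hu.swap, fun y => Iff.rfl, rfl, fun y hy y' hy' => hc y hy.1 hy.2 y' hy'.1 hy'.2, x, hu⟩⟩

end CfsgLib.Bender.NC
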