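import Cfsg.Agent.Lib.Bender.FromB1.NC.Regular

/-!
Movers of a good element: a 2-element of `G_a` centralising it centralises the subgroup trivial on its fixed points,
hence may be chosen commuting with any commuting element of the two-point stabiliser fixing the target point.

Blueprint: `blueprint/bender/A5b.md`, section 5.
-/

set_option autoImplicit false
set_option linter.unusedSectionVars false
set_option linter.style.haveILetI false

namespace CfsgLib.Bender.OneFix

open MulAction Cfsg CfsgLib.Bender.TwoClosed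
open CfsgLib.Bender.B1 (FourIn)

universe u

variable {G Ω : Type u} [Group G] [MulAction G Ω] [Finite G] [FaithfulSMul G Ω] (hF : OneFix G Ω)
  (hNB : NoBad G Ω) (hBel : B1.Below.{u} (Nat.card G)) {a b : Ω} (hab : b ≠ a)
include hF hNB hBel hab

/-- A 2-element of `G_a` normalising a subgroup of `G_ab` whose elements of prime order with three fixed points have
four groups in their centralisers centralises it. -/
theorem two_commute : ∀ k : ℕ, ∀ g : G, g • a = a → g ^ 2 ^ k = 1 → ∀ K : Subgroup G, K ≤ two a b →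
    (∀ w ∈ K, (orderOf w).Prime → Third a b w → FourIn (Subgroup.centralizer (Subgroup.zpowers w : Set G))) →
    (∀ e ∈ K, g * e * g⁻¹ ∈ K) → ∀ e ∈ K, g * e = e * g := by
  intro k
  induction k with
  | zero =>
    intro g _ hg K _ _ _ e _
    rw [pow_zero, pow_one] at hg
    rw [hg, one_mul, mul_one]
  | succ k ih =>
    intro g hga hg K hK h4 hn e he
    by_contra hne
    set y := g * e * g⁻¹ * e⁻¹ with hy
    have hyK : y ∈ K := mul_mem (hn e he) (inv_mem he)
    have hy1 : y ≠ 1 := fun h => hne (by rwa [hy, mul_inv_eq_one, mul_inv_eq_iff_eq_mul] at h)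
    have h2 : g * g * e = e * (g * g) := ih (g * g) (by rw [mul_smul, hga, hga])
      (by rw [← pow_two, ← pow_mul, ← pow_succ']; exact hg) K hK h4 (fun z hz => by
        have := hn _ (hn z hz)
        rwa [show g * (g * z * g⁻¹) * g⁻¹ = g * g * z * (g * g)⁻¹ by group] at this) e he
    have hgy : g * y * g⁻¹ = y⁻¹ := by
      calc g * y * g⁻¹ = g * g * e * (g * g)⁻¹ * (g * e⁻¹ * g⁻¹) := by rw [hy]; group
        _ = e * (g * e⁻¹ * g⁻¹) := by rw [h2, mul_inv_cancel_right]
        _ = y⁻¹ := by rw [hy]; group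
    obtain ⟨q, hq, hqd⟩ := Nat.exists_prime_and_dvd fun h => hy1 (orderOf_eq_one_iff.mp h)
    set w := y ^ (orderOf y / q)
    have hwo : orderOf w = q := orderOf_pow_orderOf_div (orderOf_pos y).ne' hqd
    have hwK : w ∈ K := pow_mem hyK _
    have hgw : g * w * g⁻¹ = w⁻¹ := by rw [← conj_pow, hgy, inv_pow]
    have hwfix := mem_two.mp (hK hwK)
    have hgb : g • b ≠ b := fun h => by
      have h1 : g = 1 := orderOf_eq_one_iff.mp (Nat.eq_one_of_dvd_coprimes
        ((Nat.coprime_two_left.mpr (odd_two hF hab.symm)).pow_left (k + 1))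
        (orderOf_dvd_of_pow_eq_one hg) (Subgroup.orderOf_dvd_natCard _ (mem_two.mpr ⟨hga, h⟩)))
      exact hne (by rw [h1, one_mul, mul_one])
    have hgba : g • b ≠ a := fun h => hab (smul_left_cancel g (h.trans hga.symm))
    have hwgb : w • g • b = g • b := by
      have h : g * w⁻¹ * g⁻¹ = w := by
        calc g * w⁻¹ * g⁻¹ = (g * w * g⁻¹)⁻¹ := by group
          _ = w := by rw [hgw, inv_inv]
      conv_lhs => rw [← h]
      rw [mul_smul, mul_smul, inv_smul_smul, inv_smul_eq_iff.mpr hwfix.2.symm]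
    have hwp : (orderOf w).Prime := by rw [hwo]; exact hq
    have hw3 : Third a b w := ⟨g • b, hgba, hgb, hwgb⟩
    obtain ⟨h, hha, hhw, -, hhb, -⟩ :=
      exists_lift hF hNB hBel hab (hK hwK) hwp hw3 (h4 w hwK hwp hw3) hgba hwgb
    have hhw' : h⁻¹ * w * h = w := by
      rw [mul_assoc, ← hhw, ← mul_assoc, inv_mul_cancel, one_mul]
    have hδ : h⁻¹ * g ∈ two a b := mem_two.mpr ⟨by
      rw [mul_smul, hga, inv_smul_eq_iff, hha], by
      rw [mul_smul, ← hhb, inv_smul_smul]⟩
    have hδw : h⁻¹ * g * w * (h⁻¹ * g)⁻¹ = w⁻¹ := by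
      calc h⁻¹ * g * w * (h⁻¹ * g)⁻¹ = h⁻¹ * (g * w * g⁻¹) * h := by group
        _ = (h⁻¹ * w * h)⁻¹ := by rw [hgw]; group
        _ = w⁻¹ := by rw [hhw']
    set δ := h⁻¹ * g
    have hsq : Commute (δ * δ) w := by
      refine mul_inv_eq_iff_eq_mul.mp ?_
      calc δ * δ * w * (δ * δ)⁻¹ = δ * (δ * w * δ⁻¹) * δ⁻¹ := by group
        _ = (δ * w * δ⁻¹)⁻¹ := by
            conv_lhs => rw [hδw]
            group
        _ = w := by rw [hδw, inv_inv]
    obtain ⟨n, hn'⟩ := CfsgLib.Involutions.exists_sqrt (odd_orderOf (odd_two hF hab.symm) hδ)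
    have hcom : Commute δ w := by
      have h' := hsq.pow_left n
      rwa [(Commute.refl δ).mul_pow, hn'] at h'
    have hw1 : w = 1 := eq_one_of_inv_eq (by rw [← hδw, hcom.eq, mul_inv_cancel_right])
      (odd_orderOf (odd_two hF hab.symm) (hK hwK))
    rw [hw1, orderOf_one] at hwo
    exact hq.one_lt.ne hwo

end CfsgLib.Bender.OneFix

namespace CfsgLib.Bender.NC

open MulAction Cfsg CfsgLib.Bender CfsgLib.Bender.OneFix CfsgLib.Bender.TwoClosed
open CfsgLib.Bender.B1 (FourIn)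

universe u

variable {G Ω : Type u} [Group G] [MulAction G Ω] [Finite G] [FaithfulSMul G Ω] (hF : OneFix G Ω)
  (hNB : NoBad G Ω) (hBel : B1.Below.{u} (Nat.card G)) {a b : Ω} {u : G} {F C : Subgroup G}
  (hFr : Frame a b u F C) {y : G} (hy : y ∈ C) (hp : (orderOf y).Prime)
  (h4 : FourIn (Subgroup.centralizer (Subgroup.zpowers y : Set G)))
include hF hNB hBel hFr hy hp h4

/-- A good element has a mover commuting with a commuting element of the two-point stabiliser fixing the target. -/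
theorem Frame.exists_mover {e : G} (he : e ∈ two a b) (hey : e * y = y * e) {d : Ω} (hda : d ≠ a)
    (hyd : y • d = d) (hed : e • d = d) :
    ∃ g : G, g • a = a ∧ (∃ k : ℕ, g ^ 2 ^ k = 1) ∧ g • b = d ∧ g * y = y * g ∧ g * e = e * g := by
  obtain ⟨hya, hyb⟩ := mem_two.mp (Frame.C_le hF hNB hFr hy)
  obtain ⟨g, hga, hgy, ⟨k, hk⟩, hgb, hcom⟩ := exists_lift hF hNB hBel hFr.hab (Frame.C_le hF hNB hFr hy) hp
    (Frame.third hF hNB hFr hy) h4 hda hyd
  refine ⟨g, hga, ⟨k, hk⟩, hgb, hgy, ?_⟩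
  -- the subgroup trivial on the fixed points of `y`
  set K : Subgroup G := Subgroup.centralizer ({y} : Set G) ⊓ ⨅ c : {c : Ω // y • c = c}, stabilizer G (c : Ω)
  have hKmem : ∀ {v : G}, v ∈ K ↔ v * y = y * v ∧ ∀ c : Ω, y • c = c → v • c = c := fun {v} => by
    simp only [K, Subgroup.mem_inf, Subgroup.mem_centralizer_singleton_iff, Subgroup.mem_iInf, mem_stabilizer_iff,
      Subtype.forall]
  have hKC : K ≤ C := fun v hv => by
    obtain ⟨-, hfix⟩ := hKmem.mp hv
    obtain ⟨g', hg'⟩ := exists_fix hF hFr.inv_u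
    have hvD : v ∈ two a b := mem_two.mpr ⟨hfix a hya, hfix b hyb⟩
    exact (Frame.mem_C hF hNB hFr).mpr ⟨hvD, (cent_iff_fix hF hNB hFr.hab hFr.inv_u hFr.swap hg' hvD).mpr
      (hfix g' (commute_fix hF hFr.inv_u hg' ((Frame.mem_C hF hNB hFr).mp hy).2))⟩
  have hKn : ∀ z : G, z * y = y * z → ∀ v ∈ K, z * v * z⁻¹ ∈ K := fun z hz v hv => by
    obtain ⟨hvy, hfix⟩ := hKmem.mp hv
    refine hKmem.mpr ⟨(((show Commute z y from hz).mul_left (show Commute v y from hvy)).mul_left
      (show Commute z y from hz).inv_left).eq, fun c hc => ?_⟩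
    have hzc : y • z⁻¹ • c = z⁻¹ • c := by
      rw [← mul_smul, ← ((show Commute z y from hz).inv_left).eq, mul_smul, hc]
    rw [mul_smul, mul_smul, hfix _ hzc, smul_inv_smul]
  obtain ⟨f, hf, hf1, hfy⟩ := (Frame.four_iff hF hNB hFr hy hp).mp h4
  have hKgood : ∀ w ∈ K, (orderOf w).Prime → Third a b w →
      FourIn (Subgroup.centralizer (Subgroup.zpowers w : Set G)) := fun w hw hwp _ => by
    refine (Frame.four_iff hF hNB hFr (hKC hw) hwp).mpr ⟨f, hf, hf1, ?_⟩
    have h1 : f * w * f⁻¹ * w⁻¹ ∈ C := mul_mem (hKC (hKn f hfy w hw)) (inv_mem (hKC hw))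
    have h2 : f * w * f⁻¹ * w⁻¹ ∈ F := by
      rw [show f * w * f⁻¹ * w⁻¹ = f * (w * f⁻¹ * w⁻¹) by group]
      exact mul_mem hf (Frame.conj_F_of_C hF hNB hFr (hKC hw) (inv_mem hf))
    exact mul_inv_eq_iff_eq_mul.mp (mul_inv_eq_one.mp (Frame.eq_one_of_mem hF hNB hFr h2 h1))
  have hgK := two_commute hF hNB hBel hFr.hab k g hga hk K
    (fun v hv => Frame.C_le hF hNB hFr (hKC hv)) hKgood (hKn g hgy)
  set k₀ := g * e * g⁻¹ * e⁻¹ with hk₀
  have hk₀K : k₀ ∈ K := hKmem.mpr ⟨by
    have hg' : Commute g y := hgy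
    have he' : Commute e y := hey
    exact (((hg'.mul_left he').mul_left hg'.inv_left).mul_left he'.inv_left).eq,
    fun c hc => hcom e hey (mem_two.mp he).1 (mem_two.mp he).2 hed c hc⟩
  have hiter : ∀ n : ℕ, g ^ n * e * (g ^ n)⁻¹ = k₀ ^ n * e := by
    intro n
    induction n with
    | zero => simp
    | succ n ih =>
      calc g ^ (n + 1) * e * (g ^ (n + 1))⁻¹ = g * (g ^ n * e * (g ^ n)⁻¹) * g⁻¹ := by rw [pow_succ']; group
        _ = (g * k₀ ^ n) * e * g⁻¹ := by rw [ih]; group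
        _ = k₀ ^ n * (g * e * g⁻¹) := by
          rw [((show Commute g k₀ from hgK k₀ hk₀K).pow_right n).eq]; group
        _ = k₀ ^ (n + 1) * e := by rw [show g * e * g⁻¹ = k₀ * e by rw [hk₀]; group, pow_succ]; group
  have h1 := hiter (2 ^ k)
  rw [hk, one_mul, inv_one, mul_one, right_eq_mul] at h1
  have h0 : k₀ = 1 := orderOf_eq_one_iff.mp (Nat.eq_one_of_dvd_coprimes
    ((Nat.coprime_two_left.mpr (odd_orderOf (odd_two hF hFr.hab.symm) (Frame.C_le hF hNB hFr (hKC hk₀K)))).pow_left k)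
    (orderOf_dvd_of_pow_eq_one h1) dvd_rfl)
  rwa [hk₀, mul_inv_eq_one, mul_inv_eq_iff_eq_mul] at h0

end CfsgLib.Bender.NC
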