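import Cfsg.Agent.Lib.Bender.FromB1.NC.Torus
import Cfsg.Agent.Lib.Bender.FromB1.NC.PGroupAux

/-!
The inverted elements of an invariant `p`-subgroup of the two-point stabiliser commute.

Blueprint: `blueprint/bender/A5b.md`, section 2a.
-/

set_option autoImplicit false
set_option linter.unusedSectionVars false
set_option linter.style.haveILetI false
set_option linter.unusedVariables false

namespace CfsgLib.Bender.NC

open MulAction Cfsg CfsgLib.Bender CfsgLib.Bender.OneFix CfsgLib.Bender.TwoClosed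
open CfsgLib.Bender.B1 (FourIn)
open scoped commutatorElement

universe u

variable {G : Type u} [Group G]

/-- A minimal counterexample: a subgroup generated by its inverted elements, not all commuting, invariant under `u`
and `x`, whose proper invariant subgroups have commuting inverted elements. -/
structure Bad (u x : G) (p : ℕ) (P : Subgroup G) : Prop where
  isP : IsPGroup p P
  conj_u : ∀ s ∈ P, u * s * u ∈ P
  conj_x : ∀ s ∈ P, x * s * x⁻¹ ∈ P
  gen : Subgroup.closure {j : G | j ∈ P ∧ u * j * u = j⁻¹} = P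
  non_comm : ¬ ∀ j ∈ P, u * j * u = j⁻¹ → ∀ j' ∈ P, u * j' * u = j'⁻¹ → j * j' = j' * j
  min : ∀ T, T < P → (∀ s ∈ T, u * s * u ∈ T) → (∀ s ∈ T, x * s * x⁻¹ ∈ T) →
    ∀ j ∈ T, u * j * u = j⁻¹ → ∀ j' ∈ T, u * j' * u = j'⁻¹ → j * j' = j' * j

namespace Bad

variable {u x : G} {p : ℕ} {P : Subgroup G} (hB : Bad u x p P)
include hB

theorem not_comm : ¬ ∀ s ∈ P, ∀ s' ∈ P, s * s' = s' * s := fun h =>
  hB.non_comm fun j hj _ j' hj' _ => h j hj j' hj'

theorem commute_of_gen {w : G} (h : ∀ j ∈ P, u * j * u = j⁻¹ → w * j = j * w) {s : G} (hs : s ∈ P) :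
    w * s = s * w := by
  have : P ≤ Subgroup.centralizer ({w} : Set G) := by
    conv_lhs => rw [← hB.gen]
    exact (Subgroup.closure_le _).mpr fun j hj => Subgroup.mem_centralizer_singleton_iff.mpr (h j hj.1 hj.2).symm
  exact (Subgroup.mem_centralizer_singleton_iff.mp (this hs)).symm

/-- Conjugation by `u` on the subgroup. -/
def fu (hu : u * u = 1) : P →* P where
  toFun s := ⟨u * s * u, hB.conj_u s s.2⟩
  map_one' := Subtype.ext (by simp [hu])
  map_mul' s t := Subtype.ext (by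
    show u * ((s : G) * t) * u = u * s * u * (u * t * u)
    simp only [mul_assoc, ← mul_assoc u u, hu, one_mul])

/-- Conjugation by `x` on the subgroup. -/
def fx : P →* P where
  toFun s := ⟨x * s * x⁻¹, hB.conj_x s s.2⟩
  map_one' := Subtype.ext (by simp)
  map_mul' s t := Subtype.ext (by
    show x * ((s : G) * t) * x⁻¹ = x * s * x⁻¹ * (x * t * x⁻¹)
    group)

theorem pq_fu (hu : u * u = 1) (g : P) : pq p (hB.fu hu g) = (pq p g)⁻¹ := by
  obtain ⟨g, hg⟩ := g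
  have hmem : ∀ y ∈ Subgroup.closure {j : G | j ∈ P ∧ u * j * u = j⁻¹}, ∀ hy : y ∈ P,
      pq p (hB.fu hu ⟨y, hy⟩) = (pq p (⟨y, hy⟩ : P))⁻¹ := by
    intro y hy
    induction hy using Subgroup.closure_induction with
    | mem y hy =>
      intro h
      rw [← map_inv]
      exact congrArg _ (Subtype.ext hy.2)
    | one => intro h; rw [show (⟨1, h⟩ : P) = 1 from rfl, map_one, map_one, inv_one]
    | mul y z hy hz ihy ihz =>
      intro h
      have hy' : y ∈ P := hB.gen.le hy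
      have hz' : z ∈ P := hB.gen.le hz
      rw [show (⟨y * z, h⟩ : P) = ⟨y, hy'⟩ * ⟨z, hz'⟩ from rfl, map_mul, map_mul, map_mul, ihy hy', ihz hz', mul_inv_rev,
        mul_comm]
    | inv y hy ih =>
      intro h
      have hy' : y ∈ P := hB.gen.le hy
      rw [show (⟨y⁻¹, h⟩ : P) = (⟨y, hy'⟩ : P)⁻¹ from rfl, map_inv, map_inv, map_inv, ih hy']
  exact hmem g (by rw [hB.gen]; exact hg) hg

variable [Finite G] [hp : Fact p.Prime]

/-- The fixed elements die in the elementary abelian quotient. -/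
theorem pq_of_commute (hu : u * u = 1) (hodd : Odd (Nat.card P)) {g : P} (hg : (g : G) * u = u * g) : pq p g = 1 := by
  have h := hB.pq_fu hu g
  rw [show hB.fu hu g = g from Subtype.ext (show u * (g : G) * u = g by rw [← hg, mul_assoc, hu, mul_one])] at h
  exact eq_one_of_inv_eq h.symm (hodd.of_dvd_nat ((orderOf_map_dvd (pq p) g).trans (orderOf_dvd_natCard g)))

/-- The weight of `x` on the fixed elements is the product of the weights of the generators. -/
theorem weight_eq (hu : u * u = 1) (hxu0 : x * u = u * x) (hodd : Odd (Nat.card P)) {k kT : P}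
    (hk : u * (k : G) * u = (k : G)⁻¹) (hkT : u * (kT : G) * u = (kT : G)⁻¹)
    (hPgen : Subgroup.closure {k, kT} = ⊤) {a b i : ℕ} (hka : x * (k : G) * x⁻¹ = (k : G) ^ a)
    (hkTb : pq p (hB.fx kT) = pq p (kT ^ b)) (hC : ∀ w ∈ P, w * u = u * w → x * w * x⁻¹ = w ^ i) :
    (i : ZMod p) = (a * b : ℕ) := by
  have hnc : commutator P ≠ ⊥ := fun h => hB.not_comm fun s hs t ht => by
    have h1 : ⁅(⟨s, hs⟩ : P), ⟨t, ht⟩⁆ ∈ commutator P :=
      Subgroup.commutator_mem_commutator (Subgroup.mem_top _) (Subgroup.mem_top _)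
    rw [h, Subgroup.mem_bot, commutatorElement_eq_one_iff_mul_comm] at h1
    exact congrArg Subtype.val h1
  obtain ⟨L, hLn, hL, hcen, hexp⟩ := exists_class_two hB.isP hnc
  set ψ := QuotientGroup.mk' L with hψ
  -- the kernel of the projection is central in the quotient
  have hker : ∀ g : P, pq p g = 1 → ∀ h : P, ⁅ψ g, ψ h⁆ = 1 := fun g hg h =>
    pq_ker_le hg
      { toFun := fun v => ⁅ψ v, ψ h⁆
        map_one' := by simp [commutatorElement_def]
        map_mul' := fun v w => by rw [map_mul, comm_mul_left (hcen w h)] }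
      (fun v w => Subgroup.mem_center_iff.mp (hcen w h) _) (fun v => hexp v h)
  -- `u` fixes the commutators in the quotient
  have hfix : ∀ e ∈ commutator P, ψ (hB.fu hu e) = ψ e := by
    intro e he
    have hle : commutator P ≤ (ψ.comp (hB.fu hu)).eqLocus ψ := by
      rw [commutator_def, Subgroup.commutator_le]
      intro g _ h _
      show ψ (hB.fu hu ⁅g, h⁆) = ψ ⁅g, h⁆
      have hdec : ∀ g : P, ∃ ζ : P, pq p ζ = 1 ∧ hB.fu hu g = g⁻¹ * ζ := fun g =>
        ⟨g * hB.fu hu g, by rw [map_mul, hB.pq_fu hu g, mul_inv_cancel], by rw [inv_mul_cancel_left]⟩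
      obtain ⟨ζ, hζ, hg⟩ := hdec g
      obtain ⟨η, hη, hh⟩ := hdec h
      rw [map_commutatorElement, hg, hh, map_commutatorElement, map_commutatorElement, map_mul, map_mul, map_inv,
        map_inv]
      have hc1 : ∀ v : P, ∀ z : P, ⁅ψ v, ψ z⁆ ∈ Subgroup.center (P ⧸ L) := hcen
      rw [comm_mul_left (by rw [← map_inv ψ h, ← map_mul]; exact hcen _ _),
        show ⁅ψ ζ, (ψ h)⁻¹ * ψ η⁆ = 1 by rw [← map_inv ψ h, ← map_mul]; exact hker ζ hζ _, mul_one,
        comm_mul_right (by rw [← map_inv ψ g]; exact hcen _ _),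
        show ⁅(ψ g)⁻¹, ψ η⁆ = 1 by
          rw [← map_inv ψ g, ← commutatorElement_inv, hker η hη g⁻¹, inv_one], mul_one]
      have hc := hcen g h
      calc ⁅(ψ g)⁻¹, (ψ h)⁻¹⁆ = (ψ h * ψ g)⁻¹ * (⁅ψ g, ψ h⁆ * (ψ h * ψ g)) := by
            simp only [commutatorElement_def]; group
        _ = (ψ h * ψ g)⁻¹ * ((ψ h * ψ g) * ⁅ψ g, ψ h⁆) := by rw [Subgroup.mem_center_iff.mp hc (ψ h * ψ g)]
        _ = _ := inv_mul_cancel_left _ _
    exact hle he
  set γ : P := ⁅k, kT⁆ with hγ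
  set c := ψ γ with hc
  have hc1 : c ≠ 1 := by
    intro h
    apply hL
    rw [commutator_def, Subgroup.commutator_le]
    have hcomm : ∀ g : P, ∀ h' : P, Commute (ψ g) (ψ h') := by
      have hgen : Subgroup.closure ({ψ k, ψ kT} : Set (P ⧸ L)) = ⊤ := by
        have := ψ.map_closure ({k, kT} : Set P)
        rw [hPgen, Subgroup.map_top_of_surjective _ (QuotientGroup.mk'_surjective L), Set.image_insert_eq,
          Set.image_singleton] at this
        exact this.symm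
      have hkk : Commute (ψ k) (ψ kT) := commutatorElement_eq_one_iff_commute.mp (by
        rw [← map_commutatorElement]; exact h)
      have hcen' : ∀ v : P ⧸ L, Commute v (ψ k) ∧ Commute v (ψ kT) := by
        intro v
        have hv : v ∈ Subgroup.closure ({ψ k, ψ kT} : Set (P ⧸ L)) := hgen ▸ Subgroup.mem_top v
        induction hv using Subgroup.closure_induction with
        | mem v hv =>
          rcases hv with rfl | rfl
          · exact ⟨Commute.refl _, hkk⟩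
          · exact ⟨hkk.symm, Commute.refl _⟩
        | one => exact ⟨Commute.one_left _, Commute.one_left _⟩
        | mul v w _ _ ihv ihw => exact ⟨ihv.1.mul_left ihw.1, ihv.2.mul_left ihw.2⟩
        | inv v _ ih => exact ⟨ih.1.inv_left, ih.2.inv_left⟩
      intro g h'
      suffices key : ∀ v ∈ Subgroup.closure ({ψ k, ψ kT} : Set (P ⧸ L)), Commute (ψ g) v from
        key _ (hgen ▸ Subgroup.mem_top _)
      intro v hv
      induction hv using Subgroup.closure_induction with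
      | mem v hv =>
        rcases hv with rfl | rfl
        · exact (hcen' _).1
        · exact (hcen' _).2
      | one => exact Commute.one_right _
      | mul v w _ _ ihv ihw => exact ihv.mul_right ihw
      | inv v _ ih => exact ih.inv_right
    intro g _ h' _
    rw [← QuotientGroup.eq_one_iff]
    show ψ ⁅g, h'⁆ = 1
    rw [map_commutatorElement]
    exact commutatorElement_eq_one_iff_commute.mpr (hcomm g h')
  have hcp : c ^ p = 1 := by rw [hc, hγ, map_commutatorElement]; exact hexp k kT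
  -- the decomposition of the commutator
  have hγmem : γ ∈ commutator P := Subgroup.commutator_mem_commutator (Subgroup.mem_top _) (Subgroup.mem_top _)
  set D := (commutator P).map P.subtype with hD
  have hDmap : ∀ f : P →* P, ∀ e ∈ commutator P, f e ∈ commutator P := fun f e he => by
    have hle : commutator P ≤ (commutator P).comap f := by
      rw [commutator_def, Subgroup.commutator_le]
      intro g _ h _
      rw [Subgroup.mem_comap, map_commutatorElement]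
      exact Subgroup.commutator_mem_commutator (Subgroup.mem_top _) (Subgroup.mem_top _)
    exact hle he
  have hinvj : u⁻¹ = u := (eq_inv_of_mul_eq_one_left hu).symm
  have hDu : ∀ e ∈ D, u * e * u⁻¹ ∈ D := by
    rintro _ ⟨e, he, rfl⟩
    rw [hinvj]
    exact ⟨hB.fu hu e, hDmap _ e he, rfl⟩
  have hDodd : Odd (Nat.card D) := hodd.of_dvd_nat (Subgroup.card_dvd_of_le (Subgroup.map_subtype_le _))
  obtain ⟨⟨w, j⟩, ⟨hw, hj, hwj⟩, -⟩ := RankOne.Inverted.decomp hDodd hDu hu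
    (show (γ : G) ∈ D from ⟨γ, hγmem, rfl⟩)
  dsimp only at hw hj hwj
  obtain ⟨hwD, hwu⟩ := Subgroup.mem_inf.mp hw
  obtain ⟨w', hw', rfl⟩ := hwD
  obtain ⟨hjD, hjinv⟩ := hj
  obtain ⟨j', hj', rfl⟩ := hjD
  have hodd' : ∀ v : P, Odd (orderOf (ψ v)) := fun v =>
    hodd.of_dvd_nat ((orderOf_map_dvd ψ v).trans (orderOf_dvd_natCard v))
  have hzero : ∀ e ∈ commutator P, u * (e : G) * u = (e : G)⁻¹ → ψ e = 1 := fun e he hinv => by
    have h := hfix e he
    rw [show hB.fu hu e = e⁻¹ from Subtype.ext hinv, map_inv] at h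
    exact eq_one_of_inv_eq h (hodd' e)
  rw [hinvj] at hjinv
  have hj1 : ψ j' = 1 := hzero j' hj' hjinv
  have hwu' : (w' : G) * u = u * w' := Subgroup.mem_centralizer_singleton_iff.mp hwu
  have hγw : γ = w' * j' := Subtype.ext hwj
  have hwc : ψ w' = c := by rw [hc, hγw, map_mul, hj1, mul_one]
  have hxu : ∀ {e : P}, u * (e : G) * u = (e : G)⁻¹ → x * u = u * x →
      u * (hB.fx e : G) * u = (hB.fx e : G)⁻¹ := by
    intro e he hxu
    have hxu' : Commute x u := hxu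
    show u * (x * e * x⁻¹) * u = (x * e * x⁻¹)⁻¹
    calc u * (x * e * x⁻¹) * u = (u * x) * e * (x⁻¹ * u) := by group
      _ = x * (u * e * u) * x⁻¹ := by rw [← hxu, hxu'.inv_left.eq]; group
      _ = _ := by rw [he]; group
  -- the image of the commutator under `x`
  have himg : ψ (hB.fx γ) = c ^ (a * b) := by
    rw [hγ, map_commutatorElement, map_commutatorElement,
      show hB.fx k = k ^ a from Subtype.ext (by show x * (k : G) * x⁻¹ = _; rw [hka]; rfl)]
    have hker' : pq p ((kT ^ b)⁻¹ * hB.fx kT) = 1 := by rw [map_mul, map_inv, hkTb, inv_mul_cancel]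
    rw [show hB.fx kT = kT ^ b * ((kT ^ b)⁻¹ * hB.fx kT) by rw [mul_inv_cancel_left], map_mul ψ (kT ^ b),
      comm_mul_right (hcen _ _),
      show ⁅ψ (k ^ a), ψ ((kT ^ b)⁻¹ * hB.fx kT)⁆ = 1 by rw [← commutatorElement_inv, hker _ hker', inv_one],
      mul_one, map_pow, map_pow, comm_pow_left (by rw [← map_pow]; exact hcen _ _), comm_pow_right (hcen _ _),
      ← map_commutatorElement, ← pow_mul, mul_comm b a]
  refine zmod_of_pow_eq hcp hc1 ?_
  rw [← himg, hγw, map_mul hB.fx, map_mul ψ, show hB.fx w' = w' ^ i from Subtype.ext (by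
    show x * (w' : G) * x⁻¹ = _
    rw [hC w' w'.2 hwu']; rfl), map_pow, hwc]
  rw [hzero (hB.fx j') (hDmap _ j' hj') (hxu hjinv hxu0), mul_one]

end Bad

section Main

variable {Ω : Type u} [MulAction G Ω] [Finite G] [FaithfulSMul G Ω] (hF : OneFix G Ω) (hNB : NoBad G Ω)
  (hBel : B1.Below.{u} (Nat.card G)) {a b : Ω} {u x : G} (hx : RankOneElt a b u x) {p : ℕ} [hp : Fact p.Prime]
  {P : Subgroup G} (hB : Bad u x p P) (hPD : P ≤ two a b)
include hF hNB hBel hx hB hPD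

omit hBel in
theorem Bad.odd_card : Odd (Nat.card P) :=
  (odd_two hF hx.hab.symm).of_dvd_nat (Subgroup.card_dvd_of_le hPD)

omit hBel in
theorem Bad.dvd_invAt : p ∣ Nat.card (InvAt G a) := by
  by_contra hd
  refine hB.non_comm fun j hj hjinv j' _ _ => ?_
  suffices j = 1 by rw [this, one_mul, mul_one]
  by_contra h1
  obtain ⟨n, hn⟩ := hB.isP ⟨j, hj⟩
  have hn' : j ^ p ^ n = 1 := congrArg Subtype.val hn
  obtain ⟨i, -, hi⟩ := (Nat.dvd_prime_pow hp.out).mp (orderOf_dvd_of_pow_eq_one hn')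
  rcases i with _ | i
  · exact h1 (orderOf_eq_one_iff.mp (by rw [hi, pow_zero]))
  · exact hd (dvd_invAt_of_inverted hF hNB hx.hab hx.inv_u hx.swap (hPD hj) hjinv hp.out
      (hi ▸ dvd_pow_self p (Nat.succ_ne_zero i)))

/-- The inverted elements commuting with a fixed element of order `p` are powers of one of them. -/
theorem Bad.exists_gen {y : G} (hy : y ∈ P) (hyu : y * u = u * y) (hyo : orderOf y = p) :
    ∃ j0 ∈ P, j0 * y = y * j0 ∧ u * j0 * u = j0⁻¹ ∧
      ∀ j ∈ P, u * j * u = j⁻¹ → j * y = y * j → j ∈ Subgroup.zpowers j0 := by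
  have hp' : (orderOf y).Prime := hyo ▸ hp.out
  have h4 := four_of_dvd hF hNB hx.hab hx.inv_u hx.swap (hPD hy) hyu hp' (hyo ▸ Bad.dvd_invAt hF hNB hx hB hPD)
  have hu := hx.inv_u
  obtain ⟨j0, hj0, hj0inv, hgen⟩ := CfsgLib.Bender.NC.exists_gen hF hNB hBel hx.hab hu hx.swap (hPD hy) hyu hp' h4
    (S := P ⊓ Subgroup.centralizer ({y} : Set G)) (inf_le_left.trans hPD)
    (fun s hs => Subgroup.mem_centralizer_singleton_iff.mp hs.2)
    (fun s hs => ⟨hB.conj_u s hs.1, Subgroup.mem_centralizer_singleton_iff.mpr (by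
      have h1 : Commute u y := hyu.symm
      have h2 : Commute s y := Subgroup.mem_centralizer_singleton_iff.mp hs.2
      exact ((h1.mul_left h2).mul_left h1).eq)⟩)
  exact ⟨j0, hj0.1, Subgroup.mem_centralizer_singleton_iff.mp hj0.2, hj0inv, fun j hj hjinv hjy =>
    hgen j ⟨hj, Subgroup.mem_centralizer_singleton_iff.mpr hjy⟩ hjinv⟩

/-- A fixed element commuting with all inverted elements is trivial. -/
theorem Bad.eq_one_of_central {w : G} (hw : w ∈ P) (hwu : w * u = u * w)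
    (h : ∀ j ∈ P, u * j * u = j⁻¹ → w * j = j * w) : w = 1 := by
  by_contra h1
  obtain ⟨n, hn⟩ := hB.isP ⟨w, hw⟩
  have hn' : w ^ p ^ n = 1 := congrArg Subtype.val hn
  obtain ⟨i, -, hi⟩ := (Nat.dvd_prime_pow hp.out).mp (orderOf_dvd_of_pow_eq_one hn')
  have hpd : p ∣ orderOf w := by
    rcases i with _ | i
    · exact absurd (orderOf_eq_one_iff.mp (by rw [hi, pow_zero])) h1
    · exact hi ▸ dvd_pow_self p (Nat.succ_ne_zero i)
  obtain ⟨j0, -, -, -, hgen⟩ := Bad.exists_gen hF hNB hBel hx hB hPD (pow_mem hw (orderOf w / p))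
    ((show Commute w u from hwu).pow_left _).eq (orderOf_pow_orderOf_div (orderOf_pos w).ne' hpd)
  have hc : ∀ j ∈ P, u * j * u = j⁻¹ → j ∈ Subgroup.zpowers j0 := fun j hj hjinv =>
    hgen j hj hjinv ((show Commute w j from h j hj hjinv).pow_left _).symm.eq
  refine hB.non_comm fun j hj hjinv j' hj' hjinv' => ?_
  obtain ⟨m, rfl⟩ := Subgroup.mem_zpowers_iff.mp (hc j hj hjinv)
  obtain ⟨m', rfl⟩ := Subgroup.mem_zpowers_iff.mp (hc j' hj' hjinv')
  exact ((Commute.refl j0).zpow_zpow m m').eq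

/-- A central element of order `p`, inverted and moved by `x`, and a fixed element of order `p` mapped by commutation
onto its powers, moved by `x` to one of its powers. -/
theorem Bad.centre_data : ∃ y z : G, (y ∈ P ∧ y * u = u * y ∧ orderOf y = p) ∧
    (z ∈ P ∧ u * z * u = z⁻¹ ∧ orderOf z = p ∧ ∀ g ∈ P, g * z = z * g) ∧
    (∀ g ∈ P, g * y * g⁻¹ * y⁻¹ ∈ Subgroup.zpowers z) ∧ (∃ g ∈ P, g * y * g⁻¹ * y⁻¹ ≠ 1) ∧
    (∃ i : ℕ, x * y * x⁻¹ = y ^ i) ∧
    ∃ τ : ℕ, x * z * x⁻¹ = z ^ τ ∧ (τ : ZMod p) ≠ 1 ∧ (τ : ZMod p) ^ orderOf x = 1 := by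
  classical
  have hu := hx.inv_u
  have hxu : Commute x u := hx.comm.symm
  have hodd := Bad.odd_card hF hNB hx hB hPD
  set Z := P ⊓ Subgroup.centralizer (P : Set G) with hZ
  have hZc : ∀ {z : G}, z ∈ Z → ∀ g ∈ P, g * z = z * g := fun hz g hg =>
    Subgroup.mem_centralizer_iff.mp hz.2 g hg
  have hZm : ∀ {z : G}, z ∈ P → (∀ g ∈ P, g * z = z * g) → z ∈ Z := fun hz h =>
    ⟨hz, Subgroup.mem_centralizer_iff.mpr h⟩
  have hnormZ : ∀ {v : G}, (∀ s ∈ P, v * s * v⁻¹ ∈ P) → ∀ z ∈ Z, v * z * v⁻¹ ∈ Z := by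
    intro v hv z hz
    have hmem : v ∈ Subgroup.normalizer (P : Set G) := Subgroup.mem_normalizer_fintype hv
    refine hZm (hv z hz.1) fun g hg => ?_
    have h2 := hZc hz _ ((Subgroup.mem_normalizer_iff''.mp hmem g).mp hg)
    calc g * (v * z * v⁻¹) = v * (v⁻¹ * g * v * z) * v⁻¹ := by group
      _ = v * (z * (v⁻¹ * g * v)) * v⁻¹ := by rw [h2]
      _ = _ := by group
  have hPu' : ∀ s ∈ P, u * s * u⁻¹ ∈ P := fun s hs => by rw [hu.inv]; exact hB.conj_u s hs
  -- central elements are inverted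
  have hZinv : ∀ z ∈ Z, u * z * u = z⁻¹ := by
    intro z hz
    have hz' : u * z * u ∈ Z := by
      have := hnormZ hPu' z hz
      rwa [hu.inv] at this
    have h1 : z * (u * z * u) = 1 := by
      refine Bad.eq_one_of_central hF hNB hBel hx hB hPD (mul_mem hz.1 hz'.1) ?_ fun j hj _ =>
        (hZc (mul_mem hz hz') j hj).symm
      calc z * (u * z * u) * u = z * u * z := by simp only [mul_assoc, hu.2, mul_one]
        _ = u * ((u * z * u) * z) := by simp only [mul_assoc, ← mul_assoc u u, hu.2, one_mul]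
        _ = _ := by rw [hZc hz _ hz'.1]
    exact eq_inv_of_mul_eq_one_right h1
  -- the second centre
  let Z2 : Subgroup G :=
    { carrier := {s | s ∈ P ∧ ∀ g ∈ P, s * g * s⁻¹ * g⁻¹ ∈ Z}
      one_mem' := ⟨one_mem P, fun g _ => by simp⟩
      mul_mem' := fun {s t} hs ht => ⟨mul_mem hs.1 ht.1, fun g hg => by
        have h := ht.2 g hg
        rw [show s * t * g * (s * t)⁻¹ * g⁻¹ = s * (t * g * t⁻¹ * g⁻¹) * s⁻¹ * (s * g * s⁻¹ * g⁻¹) by group,
          hZc h s hs.1, mul_inv_cancel_right]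
        exact mul_mem h (hs.2 g hg)⟩
      inv_mem' := fun {s} hs => ⟨inv_mem hs.1, fun g hg => by
        have h := hs.2 g hg
        rw [show s⁻¹ * g * s⁻¹⁻¹ * g⁻¹ = s⁻¹ * (s * g * s⁻¹ * g⁻¹)⁻¹ * s by group,
          hZc (inv_mem h) _ (inv_mem hs.1), inv_mul_cancel_right]
        exact inv_mem h⟩ }
  have hmemZ2 : ∀ {s : G}, s ∈ Z2 ↔ s ∈ P ∧ ∀ g ∈ P, s * g * s⁻¹ * g⁻¹ ∈ Z := Iff.rfl
  have hnormZ2 : ∀ {v : G}, (∀ s ∈ P, v * s * v⁻¹ ∈ P) → ∀ s ∈ Z2, v * s * v⁻¹ ∈ Z2 := by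
    intro v hv s hs
    have hmem : v ∈ Subgroup.normalizer (P : Set G) := Subgroup.mem_normalizer_fintype hv
    refine ⟨hv s hs.1, fun g hg => ?_⟩
    have h := hnormZ hv _ (hs.2 _ ((Subgroup.mem_normalizer_iff''.mp hmem g).mp hg))
    rwa [show v * (s * (v⁻¹ * g * v) * s⁻¹ * (v⁻¹ * g * v)⁻¹) * v⁻¹ = v * s * v⁻¹ * g * (v * s * v⁻¹)⁻¹ * g⁻¹ by group]
      at h
  have hZ2j : ∀ j ∈ Z2, u * j * u = j⁻¹ → j ∈ Z := by
    intro j hj hjinv
    refine hZm hj.1 fun g hg => (hB.commute_of_gen (w := j) (fun e he heinv => ?_) hg).symm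
    set z := j * e * j⁻¹ * e⁻¹ with hz
    have hzZ : z ∈ Z := hj.2 e he
    have h1 : u * z * u = j⁻¹ * e⁻¹ * j * e := by
      have hj' : u * j⁻¹ * u = j := by rw [← hjinv]; simp [mul_assoc, ← mul_assoc u u, hu.2]
      have he' : u * e⁻¹ * u = e := by rw [← heinv]; simp [mul_assoc, ← mul_assoc u u, hu.2]
      calc u * z * u = (u * j * u) * (u * e * u) * (u * j⁻¹ * u) * (u * e⁻¹ * u) := by
            simp only [hz, mul_assoc, ← mul_assoc u u, hu.2, one_mul]
        _ = _ := by rw [hjinv, heinv, hj', he']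
    have h2 : j⁻¹ * e⁻¹ * j * e = z := by
      calc j⁻¹ * e⁻¹ * j * e = (e * j)⁻¹ * (z * (e * j)) := by rw [hz]; group
        _ = (e * j)⁻¹ * ((e * j) * z) := by rw [hZc hzZ _ (mul_mem he hj.1)]
        _ = z := inv_mul_cancel_left _ _
    rw [h2, hZinv z hzZ] at h1
    have h3 : z = 1 := eq_one_of_inv_eq h1 (hodd.of_dvd_nat (Subgroup.orderOf_dvd_natCard P hzZ.1))
    rw [hz, mul_inv_eq_one, mul_inv_eq_iff_eq_mul] at h3
    exact h3
  have hZ2ex : ∃ s ∈ Z2, s ∉ Z := by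
    have hne : Subgroup.center P ≠ ⊤ := fun h => hB.not_comm fun s hs t ht =>
      congrArg Subtype.val (Subgroup.mem_center_iff.mp (h ▸ Subgroup.mem_top (⟨t, ht⟩ : P)) ⟨s, hs⟩)
    haveI : Nontrivial (P ⧸ Subgroup.center P) := QuotientGroup.nontrivial_iff.mpr hne
    haveI := (hB.isP.to_quotient (Subgroup.center P)).center_nontrivial
    obtain ⟨⟨q, hq⟩, hq1⟩ := exists_ne (1 : Subgroup.center (P ⧸ Subgroup.center P))
    obtain ⟨s, rfl⟩ := QuotientGroup.mk'_surjective _ q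
    refine ⟨s, ⟨s.2, fun g hg => ?_⟩, fun hsZ => hq1 (Subtype.ext ((QuotientGroup.eq_one_iff s).mpr
      (Subgroup.mem_center_iff.mpr fun v => Subtype.ext (hZc hsZ v v.2))))⟩
    have h : QuotientGroup.mk' (Subgroup.center P) (s * ⟨g, hg⟩ * s⁻¹ * (⟨g, hg⟩ : P)⁻¹) = 1 := by
      rw [map_mul, map_mul, map_mul, map_inv, map_inv, ← Subgroup.mem_center_iff.mp hq (QuotientGroup.mk' _ ⟨g, hg⟩)]
      group
    have h' := Subgroup.mem_center_iff.mp ((QuotientGroup.eq_one_iff _).mp h)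
    exact hZm (mul_mem (mul_mem (mul_mem s.2 hg) (inv_mem s.2)) (inv_mem hg))
      fun v hv => congrArg Subtype.val (h' ⟨v, hv⟩)
  -- its fixed elements
  obtain ⟨s, hs, hsZ⟩ := hZ2ex
  obtain ⟨⟨c, j⟩, ⟨hc, hj, hscj⟩, -⟩ := RankOne.Inverted.decomp
    (hodd.of_dvd_nat (Subgroup.card_dvd_of_le fun v hv => (hmemZ2.mp hv).1)) (hnormZ2 hPu') hu.2 hs
  dsimp only at hc hj hscj
  obtain ⟨hcZ2, hcu⟩ := Subgroup.mem_inf.mp hc
  have hcu' := Subgroup.mem_centralizer_singleton_iff.mp hcu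
  have hc1 : c ≠ 1 := fun e => hsZ (by
    rw [show s = c * j from hscj, e, one_mul]
    exact hZ2j j hj.1 (by rw [← hj.2, hu.inv]))
  obtain ⟨n, hn⟩ := hB.isP ⟨c, hcZ2.1⟩
  have hn' : c ^ p ^ n = 1 := congrArg Subtype.val hn
  obtain ⟨i, -, hi⟩ := (Nat.dvd_prime_pow hp.out).mp (orderOf_dvd_of_pow_eq_one hn')
  have hpd : p ∣ orderOf c := by
    rcases i with _ | i
    · exact absurd (orderOf_eq_one_iff.mp (by rw [hi, pow_zero])) hc1
    · exact hi ▸ dvd_pow_self p (Nat.succ_ne_zero i)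
  set y0 := c ^ (orderOf c / p) with hy0
  have hy0o : orderOf y0 = p := orderOf_pow_orderOf_div (orderOf_pos c).ne' hpd
  have hy0Z2 : y0 ∈ Z2 := pow_mem hcZ2 _
  have hy0u : y0 * u = u * y0 := ((show Commute c u from hcu').pow_left _).eq
  -- commutation with a fixed element of order `p`
  have hχpow : ∀ {y : G}, y ∈ Z2 → ∀ g ∈ P, ∀ n : ℕ,
      (y * g * y⁻¹ * g⁻¹) ^ n = y ^ n * g * (y ^ n)⁻¹ * g⁻¹ := by
    intro y hy g hg n
    induction n with
    | zero => simp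
    | succ n ih =>
      rw [pow_succ', ih]
      calc y * g * y⁻¹ * g⁻¹ * (y ^ n * g * (y ^ n)⁻¹ * g⁻¹)
          = y * g * y⁻¹ * g⁻¹ * (y ^ n * g * (y ^ n)⁻¹ * g⁻¹) * (y * y⁻¹) := by rw [mul_inv_cancel, mul_one]
        _ = (y * (y ^ n * g * (y ^ n)⁻¹ * g⁻¹) * y⁻¹) * (y * g * y⁻¹ * g⁻¹) := by
          have hzc := hZc ((hmemZ2.mp (pow_mem hy n)).2 g hg)
          rw [hzc y hy.1, mul_inv_cancel_right, mul_inv_cancel, mul_one,
            hzc _ (mul_mem (mul_mem (mul_mem hy.1 hg) (inv_mem hy.1)) (inv_mem hg))]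
        _ = _ := by rw [pow_succ']; group
  have hexp : ∀ {y : G}, y ∈ Z2 → y ^ p = 1 → ∀ g ∈ P, (y * g * y⁻¹ * g⁻¹) ^ p = 1 := fun hy hyp g hg => by
    rw [hχpow hy g hg, hyp]
    simp
  have hy0g : ∃ g ∈ P, y0 * g * y0⁻¹ * g⁻¹ ≠ 1 := by
    by_contra hno
    push Not at hno
    have : y0 = 1 := Bad.eq_one_of_central hF hNB hBel hx hB hPD hy0Z2.1 hy0u fun e he _ => by
      have := hno e he
      rwa [mul_inv_eq_one, mul_inv_eq_iff_eq_mul] at this
    rw [this, orderOf_one] at hy0o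
    exact hp.out.one_lt.ne hy0o
  obtain ⟨g0, hg0, hz0⟩ := hy0g
  set z := y0 * g0 * y0⁻¹ * g0⁻¹ with hz
  have hzZ : z ∈ Z := hy0Z2.2 g0 hg0
  have hzo : orderOf z = p := orderOf_eq_prime (hexp hy0Z2 (hy0o ▸ pow_orderOf_eq_one y0) g0 hg0) hz0
  obtain ⟨j0, -, -, -, hgen⟩ := Bad.exists_gen hF hNB hBel hx hB hPD hy0Z2.1 hy0u hy0o
  have hgenZ : ∀ e ∈ Z, e ∈ Subgroup.zpowers j0 := fun e he =>
    hgen e he.1 (hZinv e he) (hZc he y0 hy0Z2.1).symm
  have hΩ : ∀ e ∈ Z, e ^ p = 1 → e ∈ Subgroup.zpowers z := fun e he hep =>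
    mem_zpowers_of_prime (hgenZ z hzZ) (hgenZ e he) hzo hep
  -- the weight on the centre
  have hxP : ∀ s ∈ P, x * s * x⁻¹ ∈ P := hB.conj_x
  have hzx : x * z * x⁻¹ ∈ Subgroup.zpowers z := hΩ _ (hnormZ hxP z hzZ) (by
    rw [conj_pow, hexp hy0Z2 (hy0o ▸ pow_orderOf_eq_one y0) g0 hg0, mul_one, mul_inv_cancel])
  obtain ⟨τ, hτ : z ^ τ = x * z * x⁻¹⟩ := mem_powers_iff_mem_zpowers.mpr hzx
  have hzp : z ^ p = 1 := hzo ▸ pow_orderOf_eq_one z
  have hτ1 : (τ : ZMod p) ≠ 1 := fun e => hz0 (by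
    have h1 : z ^ τ = z ^ 1 := pow_congr_zmod hzp (by rw [e, Nat.cast_one])
    rw [hτ, pow_one, mul_inv_eq_iff_eq_mul] at h1
    exact RankOneElt.eq_one_of_commute hF hNB hx (hPD hzZ.1) (hZinv z hzZ) h1.symm)
  have hiter : ∀ n : ℕ, x ^ n * z * (x ^ n)⁻¹ = z ^ τ ^ n := by
    intro n
    induction n with
    | zero => simp
    | succ n ih =>
      rw [pow_succ', show x * x ^ n * z * (x * x ^ n)⁻¹ = x * (x ^ n * z * (x ^ n)⁻¹) * x⁻¹ by group, ih, ← conj_pow,
        ← hτ, ← pow_mul, pow_succ']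
  have hτl : (τ : ZMod p) ^ orderOf x = 1 := by
    have h := hiter (orderOf x)
    rw [pow_orderOf_eq_one, one_mul, inv_one, mul_one] at h
    rw [← Nat.cast_pow, ← Nat.cast_one (R := ZMod p)]
    exact zmod_of_pow_eq hzp hz0 (by rw [← h, pow_one])
  have hlp : (orderOf x : ZMod p) ≠ 0 := fun e => by
    have he : orderOf x = p :=
      ((Nat.prime_dvd_prime_iff_eq hp.out hx.prime).mp ((ZMod.natCast_eq_zero_iff _ p).mp e)).symm
    rw [he, ZMod.pow_card] at hτl
    exact hτ1 hτl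
  -- an eigenvector among the fixed elements
  let Y : Subgroup G :=
    { carrier := {v | v ∈ Z2 ∧ v * u = u * v ∧ v ^ p = 1}
      one_mem' := ⟨one_mem Z2, by simp, one_pow p⟩
      mul_mem' := fun {v w} hv hw => by
        refine ⟨mul_mem hv.1 hw.1, ((show Commute v u from hv.2.1).mul_left hw.2.1).eq, ?_⟩
        have hvw : Commute v w := by
          have hm := hv.1.2 w hw.1.1
          have h1 : v * w * v⁻¹ * w⁻¹ = 1 := Bad.eq_one_of_central hF hNB hBel hx hB hPD hm.1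
            ((((show Commute v u from hv.2.1).mul_left hw.2.1).mul_left (show Commute v u from hv.2.1).inv_left).mul_left
              (show Commute w u from hw.2.1).inv_left).eq fun e he _ => (hZc hm e he).symm
          rw [mul_inv_eq_one, mul_inv_eq_iff_eq_mul] at h1
          exact h1
        rw [hvw.mul_pow, hv.2.2, hw.2.2, one_mul]
      inv_mem' := fun {v} hv => ⟨inv_mem hv.1, (show Commute v u from hv.2.1).inv_left.eq,
        by rw [inv_pow, hv.2.2, inv_one]⟩ }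
  have hYc : ∀ v ∈ Y, ∀ w ∈ Y, v * w = w * v := fun v hv w hw => by
    have hm := hv.1.2 w hw.1.1
    have h1 : v * w * v⁻¹ * w⁻¹ = 1 := Bad.eq_one_of_central hF hNB hBel hx hB hPD hm.1
      ((((show Commute v u from hv.2.1).mul_left hw.2.1).mul_left (show Commute v u from hv.2.1).inv_left).mul_left
        (show Commute w u from hw.2.1).inv_left).eq fun e he _ => (hZc hm e he).symm
    rw [mul_inv_eq_one, mul_inv_eq_iff_eq_mul] at h1
    exact h1
  letI : CommGroup Y := { (inferInstance : Group Y) with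
    mul_comm := fun v w => Subtype.ext (hYc v v.2 w w.2) }
  let f : Y →* Y :=
    { toFun := fun v => ⟨x * v * x⁻¹, hnormZ2 hxP v v.2.1,
        ((hxu.mul_left (show Commute (v : G) u from v.2.2.1)).mul_left hxu.inv_left).eq,
        by rw [conj_pow, v.2.2.2, mul_one, mul_inv_cancel]⟩
      map_one' := Subtype.ext (by simp)
      map_mul' := fun v w => Subtype.ext (by
        show x * ((v : G) * w) * x⁻¹ = x * v * x⁻¹ * (x * w * x⁻¹)
        group) }
  have hfiter : ∀ (n : ℕ) (v : Y), (((f^[n]) v : Y) : G) = x ^ n * v * (x ^ n)⁻¹ := by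
    intro n
    induction n with
    | zero => simp
    | succ n ih =>
      intro v
      rw [Function.iterate_succ_apply', pow_succ']
      show x * (((f^[n]) v : Y) : G) * x⁻¹ = _
      rw [ih]
      group
  obtain ⟨v, hv1, i, hi⟩ := exists_eigen (A := Y) (p := p) (l := orderOf x) (fun v => Subtype.ext v.2.2.2) f
    (fun v => Subtype.ext (by rw [hfiter, pow_orderOf_eq_one]; simp)) hτl hτ1 hx.prime hlp ⊥
    (v := ⟨y0, hy0Z2, hy0u, hy0o ▸ pow_orderOf_eq_one y0⟩)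
    (fun h => by
      rw [Subgroup.mem_bot, Subtype.ext_iff] at h
      have h' : y0 = 1 := h
      rw [h', orderOf_one] at hy0o
      exact hp.out.one_lt.ne hy0o)
  obtain ⟨y, hyZ2, hyu, hyp⟩ := v
  have hy1 : y ≠ 1 := fun e => hv1 (Subgroup.mem_bot.mpr (Subtype.ext e))
  have hmemz : ∀ g ∈ P, g * y * g⁻¹ * y⁻¹ ∈ Subgroup.zpowers z := fun g hg => by
    have h := inv_mem (hΩ _ (hyZ2.2 g hg) (hexp hyZ2 hyp g hg))
    rwa [show (y * g * y⁻¹ * g⁻¹)⁻¹ = g * y * g⁻¹ * y⁻¹ by group] at h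
  refine ⟨y, z, ⟨hyZ2.1, hyu, orderOf_eq_prime hyp hy1⟩, ⟨hzZ.1, hZinv z hzZ, hzo, hZc hzZ⟩, hmemz, ?_,
    ⟨i, congrArg Subtype.val hi⟩, τ, hτ.symm, hτ1, hτl⟩
  by_contra hno
  push Not at hno
  exact hy1 (Bad.eq_one_of_central hF hNB hBel hx hB hPD hyZ2.1 hyu fun e he _ => by
    have := hno e he
    rw [mul_inv_eq_one, mul_inv_eq_iff_eq_mul] at this
    exact this.symm)

/-- The element acts on the fixed elements as a power map, with the exponent of the fixed element of order `p`. -/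
theorem Bad.cent_power {y z k kT : G} {i : ℕ} (hy : y ∈ P) (hyu : y * u = u * y) (hyo : orderOf y = p)
    (hz : z ∈ P) (hzinv : u * z * u = z⁻¹) (hzo : orderOf z = p) (hzc : ∀ g ∈ P, g * z = z * g)
    (hi : x * y * x⁻¹ = y ^ i) {T : Subgroup G} (hTP : T ≤ P)
    (hTc : ∀ j ∈ T, u * j * u = j⁻¹ → ∀ j' ∈ T, u * j' * u = j'⁻¹ → j * j' = j' * j)
    (hkTT : kT ∈ T) (hkT : u * kT * u = kT⁻¹) (hkT1 : ∀ h : kT ∈ P, pq p (⟨kT, h⟩ : P) ≠ 1)
    (hT : ∀ j (h : j ∈ P), j ∈ T ↔ pq p (⟨j, h⟩ : P) ∈ Subgroup.zpowers (pq p (⟨kT, hTP hkTT⟩ : P)))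
    (hxT : ∀ s ∈ T, x * s * x⁻¹ ∈ T) (hk : k ∈ P) (hkinv : u * k * u = k⁻¹)
    (hker : ∀ j (h : j ∈ P), u * j * u = j⁻¹ → pq p (⟨j, h⟩ : P) = 1 → ∃ m : ℕ, j = (k ^ p) ^ m)
    (hgen : ∀ w ∈ P, w * k = k * w → w * kT = kT * w → ∀ g ∈ P, w * g = g * w)
    (hka : ∃ e : ℕ, x * k * x⁻¹ = k ^ e) (hkC : ∀ w ∈ P, w * u = u * w → ∃ e : ℕ, w * k * w⁻¹ = k ^ e)
    (hzk : ∃ m : ℕ, z = (k ^ p) ^ m) :
    ∃ e : ℕ, (e : ZMod p) = i ∧ ∀ w ∈ P, w * u = u * w → x * w * x⁻¹ = w ^ e := by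
  classical
  have hu := hx.inv_u
  have hodd := Bad.odd_card hF hNB hx hB hPD
  set π : P →* PQuot p P := pq p with hπ
  set t : P := ⟨kT, hTP hkTT⟩
  have hπC : ∀ (w : G) (h : w ∈ P), w * u = u * w → π ⟨w, h⟩ = 1 := fun w h hw => hB.pq_of_commute hu.2 hodd hw
  have hconjinv : ∀ {w j : G}, w * u = u * w → u * j * u = j⁻¹ → u * (w * j * w⁻¹) * u = (w * j * w⁻¹)⁻¹ := by
    intro w j hwu hj
    have hwu' : Commute u w := hwu.symm
    calc u * (w * j * w⁻¹) * u = (u * w) * j * (w⁻¹ * u) := by group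
      _ = w * (u * j * u) * w⁻¹ := by rw [hwu'.eq, hwu'.inv_right.symm.eq]; group
      _ = _ := by rw [hj]; group
  have hmulinv : ∀ {j j' : G}, j ∈ T → j' ∈ T → u * j * u = j⁻¹ → u * j' * u = j'⁻¹ →
      u * (j * j') * u = (j * j')⁻¹ := by
    intro j j' hj hj' hji hj'i
    rw [show u * (j * j') * u = (u * j * u) * (u * j' * u) by simp only [mul_assoc, ← mul_assoc u u, hu.2, one_mul],
      hji, hj'i, mul_inv_rev]
    exact ((show Commute j j' from hTc j hj hji j' hj' hj'i).inv_inv).eq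
  have hpowinv : ∀ {j : G}, u * j * u = j⁻¹ → ∀ n : ℕ, u * j ^ n * u = (j ^ n)⁻¹ := fun hj n =>
    inverted_pow hF hu hj n
  have hkerT : ∀ {j : G} (h : j ∈ P), π ⟨j, h⟩ = 1 → j ∈ T := fun h e => (hT _ h).mpr (by rw [e]; exact one_mem _)
  -- the `p`-th power of the generator of `T`
  have htp : π ⟨kT ^ p, pow_mem (hTP hkTT) p⟩ = 1 := by
    rw [show (⟨kT ^ p, pow_mem (hTP hkTT) p⟩ : P) = t ^ p from rfl, map_pow, hπ, pq_pow]
  obtain ⟨m, hm⟩ := hker _ (pow_mem (hTP hkTT) p) (hpowinv hkT p) htp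
  by_cases hpm : p ∣ m
  · -- a second element of order `p`
    obtain ⟨n, rfl⟩ := hpm
    have hkn : π ⟨(k ^ p) ^ n, pow_mem (pow_mem hk p) n⟩ = 1 := by
      rw [show (⟨(k ^ p) ^ n, pow_mem (pow_mem hk p) n⟩ : P) = ((⟨k, hk⟩ : P) ^ p) ^ n from rfl, map_pow, map_pow, hπ,
        pq_pow, one_pow]
    have hknT := hkerT _ hkn
    have hkninv : u * ((k ^ p) ^ n)⁻¹ * u = ((k ^ p) ^ n)⁻¹⁻¹ := by
      rw [inv_inv]
      have h := hpowinv (hpowinv hkinv p) n
      calc u * ((k ^ p) ^ n)⁻¹ * u = (u * (k ^ p) ^ n * u)⁻¹ := by rw [mul_inv_rev, mul_inv_rev, hu.inv]; group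
        _ = _ := by rw [h, inv_inv]
    set k' := kT * ((k ^ p) ^ n)⁻¹ with hk'
    have hk'T : k' ∈ T := mul_mem hkTT (inv_mem hknT)
    have hk'inv : u * k' * u = k'⁻¹ := hmulinv hkTT (inv_mem hknT) hkT hkninv
    have hk'π : π ⟨k', hTP hk'T⟩ = π t := by
      rw [show (⟨k', hTP hk'T⟩ : P) = t * (⟨(k ^ p) ^ n, pow_mem (pow_mem hk p) n⟩ : P)⁻¹ from rfl, map_mul, map_inv,
        hkn, inv_one, mul_one]
    have hk'p : k' ^ p = 1 := by
      have hc : Commute kT (((k ^ p) ^ n)⁻¹) := hTc kT hkTT hkT _ (inv_mem hknT) hkninv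
      rw [hk', hc.mul_pow, hm, inv_pow, ← pow_mul (k ^ p) n p, mul_comm n p, mul_inv_cancel]
    have hk'z : k' ∉ Subgroup.zpowers z := fun h => by
      obtain ⟨m', hm'⟩ := hzk
      have hzπ : π ⟨z, hz⟩ = 1 := by
        rw [show (⟨z, hz⟩ : P) = ((⟨k, hk⟩ : P) ^ p) ^ m' from Subtype.ext hm', map_pow, map_pow, hπ, pq_pow, one_pow]
      obtain ⟨r, hr⟩ := Subgroup.mem_zpowers_iff.mp h
      refine hkT1 (hTP hkTT) ?_
      rw [← hk'π, show (⟨k', hTP hk'T⟩ : P) = (⟨z, hz⟩ : P) ^ r from Subtype.ext hr.symm, map_zpow, hzπ,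
        one_zpow]
    -- the commutators with it
    have hd : ∀ w ∈ P, w * u = u * w → ∃ d : ℕ, w * k' * w⁻¹ = z ^ d * k' := by
      intro w hw hwu
      have hwk : w * k' * w⁻¹ ∈ P := mul_mem (mul_mem hw (hTP hk'T)) (inv_mem hw)
      have hπw : π ⟨w * k' * w⁻¹, hwk⟩ = π t := by
        rw [show (⟨w * k' * w⁻¹, hwk⟩ : P) = ⟨w, hw⟩ * ⟨k', hTP hk'T⟩ * (⟨w, hw⟩ : P)⁻¹ from rfl, map_mul, map_mul,
          map_inv, hπC w hw hwu, one_mul, inv_one, mul_one, hk'π]
      have hwkT : w * k' * w⁻¹ ∈ T := (hT _ hwk).mpr (by rw [hπw]; exact Subgroup.mem_zpowers _)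
      have hwkinv := hconjinv hwu hk'inv
      have hk'i : u * k'⁻¹ * u = k'⁻¹⁻¹ := by
        rw [inv_inv]
        calc u * k'⁻¹ * u = (u * k' * u)⁻¹ := by simp only [mul_inv_rev, hu.inv, mul_assoc]
          _ = _ := by rw [hk'inv, inv_inv]
      set d := w * k' * w⁻¹ * k'⁻¹ with hd
      have hdT : d ∈ T := mul_mem hwkT (inv_mem hk'T)
      have hdinv : u * d * u = d⁻¹ := hmulinv hwkT (inv_mem hk'T) hwkinv hk'i
      have hdπ : π ⟨d, hTP hdT⟩ = 1 := by
        rw [show (⟨d, hTP hdT⟩ : P) = ⟨w * k' * w⁻¹, hwk⟩ * (⟨k', hTP hk'T⟩ : P)⁻¹ from rfl, map_mul, map_inv, hπw,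
          hk'π, mul_inv_cancel]
      have hdp : d ^ p = 1 := by
        have hc : Commute (w * k' * w⁻¹) k'⁻¹ := hTc _ hwkT hwkinv _ (inv_mem hk'T) hk'i
        rw [hd, hc.mul_pow, conj_pow, inv_pow, hk'p, mul_one, mul_inv_cancel, inv_one, mul_one]
      obtain ⟨m', hm'⟩ := hker d (hTP hdT) hdinv hdπ
      obtain ⟨m'', hm''⟩ := hzk
      have hdz := mem_zpowers_of_prime (g := k ^ p) (hm'' ▸ Subgroup.pow_mem _ (Subgroup.mem_zpowers _) m'')
        (hm' ▸ Subgroup.pow_mem _ (Subgroup.mem_zpowers _) m') hzo hdp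
      obtain ⟨r, hr : z ^ r = d⟩ := mem_powers_iff_mem_zpowers.mpr hdz
      exact ⟨r, by rw [hr, hd, inv_mul_cancel_right]⟩
    -- the fixed elements commuting with it are trivial
    have hinj : ∀ w ∈ P, w * u = u * w → w * k' = k' * w → w = 1 := by
      intro w hw hwu hwk
      by_contra h1
      obtain ⟨N, hN⟩ := hB.isP ⟨w, hw⟩
      have hN' : w ^ p ^ N = 1 := congrArg Subtype.val hN
      obtain ⟨r, -, hr⟩ := (Nat.dvd_prime_pow hp.out).mp (orderOf_dvd_of_pow_eq_one hN')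
      have hpd : p ∣ orderOf w := by
        rcases r with _ | r
        · exact absurd (orderOf_eq_one_iff.mp (by rw [hr, pow_zero])) h1
        · exact hr ▸ dvd_pow_self p (Nat.succ_ne_zero r)
      obtain ⟨j0, -, -, -, hg⟩ := Bad.exists_gen hF hNB hBel hx hB hPD (pow_mem hw (orderOf w / p))
        ((show Commute w u from hwu).pow_left _).eq (orderOf_pow_orderOf_div (orderOf_pos w).ne' hpd)
      exact hk'z (mem_zpowers_of_prime (hg z hz hzinv ((show Commute w z from hzc w hw).pow_left _).symm.eq)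
        (hg k' (hTP hk'T) hk'inv ((show Commute w k' from hwk).pow_left _).symm.eq) hzo hk'p)
    obtain ⟨dy, hdy⟩ := hd y hy hyu
    have hzp : z ^ p = 1 := hzo ▸ pow_orderOf_eq_one z
    have hz1 : z ≠ 1 := fun e => by rw [e, orderOf_one] at hzo; exact hp.out.one_lt.ne hzo
    have hdy0 : (dy : ZMod p) ≠ 0 := fun e => by
      rw [pow_congr_zmod hzp (n := 0) (by rw [e, Nat.cast_zero]), pow_zero, one_mul, mul_inv_eq_iff_eq_mul] at hdy
      have h1 := hinj y hy hyu hdy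
      rw [h1, orderOf_one] at hyo
      exact hp.out.one_lt.ne hyo
    refine ⟨i, rfl, fun w hw hwu => ?_⟩
    -- they are powers of `y`
    obtain ⟨dw, hdw⟩ := hd w hw hwu
    set e := ((dw : ZMod p) * (dy : ZMod p)⁻¹).val with he
    have hye : ∀ n : ℕ, y ^ n * k' * (y ^ n)⁻¹ = z ^ (dy * n) * k' := by
      intro n
      induction n with
      | zero => simp
      | succ n ih =>
        rw [pow_succ, show y ^ n * y * k' * (y ^ n * y)⁻¹ = y ^ n * (y * k' * y⁻¹) * (y ^ n)⁻¹ by group, hdy,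
          show y ^ n * (z ^ dy * k') * (y ^ n)⁻¹ = (y ^ n * z ^ dy * (y ^ n)⁻¹) * (y ^ n * k' * (y ^ n)⁻¹) by group, ih,
          ((show Commute y z from hzc y hy).pow_pow n dy).eq, mul_inv_cancel_right, ← mul_assoc, ← pow_add,
          Nat.mul_succ, add_comm]
    have hwe : w * k' * w⁻¹ = y ^ e * k' * (y ^ e)⁻¹ := by
      rw [hye, hdw, pow_congr_zmod hzp (n := dy * e) ?_]
      rw [he, Nat.cast_mul, ZMod.natCast_val, ZMod.cast_id', id, mul_comm, mul_assoc, inv_mul_cancel₀ hdy0, mul_one]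
    have h1 : (y ^ e)⁻¹ * w = 1 := by
      refine hinj _ (mul_mem (inv_mem (pow_mem hy e)) hw)
        (((show Commute y u from hyu).pow_left e).inv_left.mul_left hwu).eq ?_
      calc (y ^ e)⁻¹ * w * k' = (y ^ e)⁻¹ * (w * k' * w⁻¹) * w := by group
        _ = k' * ((y ^ e)⁻¹ * w) := by rw [hwe]; group
    rw [inv_mul_eq_one] at h1
    rw [← h1, ← conj_pow, hi, ← pow_mul, ← pow_mul, mul_comm]
  · -- `T` has cyclic inverted part
    have hpk : (k ^ p) ∈ Subgroup.zpowers (kT ^ p) := by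
      obtain ⟨N, hN⟩ := hB.isP ⟨k ^ p, pow_mem hk p⟩
      have hN' : (k ^ p) ^ p ^ N = 1 := congrArg Subtype.val hN
      have hc : m.Coprime (orderOf (k ^ p)) :=
        (((hp.out.coprime_iff_not_dvd.mpr hpm).pow_left N).symm).coprime_dvd_right (orderOf_dvd_of_pow_eq_one hN')
      obtain ⟨r, hr⟩ := exists_pow_eq_self_of_coprime hc
      rw [← hr, ← hm]
      exact Subgroup.pow_mem _ (Subgroup.mem_zpowers _) r
    have hJT : ∀ j ∈ T, u * j * u = j⁻¹ → ∃ e : ℕ, j = kT ^ e := by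
      intro j hj hjinv
      have hin : j ∈ Subgroup.zpowers kT := by
        obtain ⟨r, hr : π t ^ r = π ⟨j, hTP hj⟩⟩ := mem_powers_iff_mem_zpowers.mpr ((hT j (hTP hj)).mp hj)
        have hti : u * (kT ^ r)⁻¹ * u = (kT ^ r)⁻¹⁻¹ := by
          rw [inv_inv]
          calc u * (kT ^ r)⁻¹ * u = (u * kT ^ r * u)⁻¹ := by rw [mul_inv_rev, mul_inv_rev, hu.inv]; group
            _ = _ := by rw [hpowinv hkT r, inv_inv]
        have hπj : π ⟨j * (kT ^ r)⁻¹, mul_mem (hTP hj) (inv_mem (pow_mem (hTP hkTT) r))⟩ = 1 := by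
          rw [show (⟨j * (kT ^ r)⁻¹, mul_mem (hTP hj) (inv_mem (pow_mem (hTP hkTT) r))⟩ : P) =
            ⟨j, hTP hj⟩ * (t ^ r)⁻¹ from rfl, map_mul, map_inv, map_pow, hr, mul_inv_cancel]
        obtain ⟨m', hm'⟩ := hker _ _ (hmulinv hj (inv_mem (pow_mem hkTT r)) hjinv hti) hπj
        have h1 : j * (kT ^ r)⁻¹ ∈ Subgroup.zpowers kT := hm' ▸ Subgroup.pow_mem _
          (Subgroup.zpowers_le.mpr (Subgroup.pow_mem _ (Subgroup.mem_zpowers kT) p) hpk) m'
        simpa using mul_mem h1 (Subgroup.pow_mem _ (Subgroup.mem_zpowers kT) r)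
      obtain ⟨e, he : kT ^ e = j⟩ := mem_powers_iff_mem_zpowers.mpr hin
      exact ⟨e, he.symm⟩
    have hxu : Commute x u := hx.comm.symm
    have hfix : ∀ w ∈ P, w * u = u * w → x * w = w * x := by
      intro w hw hwu
      obtain ⟨a1, ha1⟩ := hJT _ (hxT kT hkTT) (hconjinv hxu.eq hkT)
      have hwT : w * kT * w⁻¹ ∈ T := (hT _ (mul_mem (mul_mem hw (hTP hkTT)) (inv_mem hw))).mpr (by
        rw [show (⟨w * kT * w⁻¹, mul_mem (mul_mem hw (hTP hkTT)) (inv_mem hw)⟩ : P) =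
          ⟨w, hw⟩ * t * (⟨w, hw⟩ : P)⁻¹ from rfl, map_mul, map_mul, map_inv, hπC w hw hwu, one_mul, inv_one, mul_one]
        exact Subgroup.mem_zpowers _)
      obtain ⟨c1, hc1⟩ := hJT _ hwT (hconjinv hwu hkT)
      obtain ⟨a2, ha2⟩ := hka
      obtain ⟨c2, hc2⟩ := hkC w hw hwu
      set v := (w * x)⁻¹ * (x * w) with hv
      have hkey : ∀ {g : G} {α β : ℕ}, x * g * x⁻¹ = g ^ α → w * g * w⁻¹ = g ^ β → v * g = g * v := by
        intro g α β h1 h2
        have e1 : (x * w) * g * (x * w)⁻¹ = g ^ (β * α) := by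
          rw [show (x * w) * g * (x * w)⁻¹ = x * (w * g * w⁻¹) * x⁻¹ by group, h2, ← conj_pow, h1, ← pow_mul, mul_comm]
        have e2 : (w * x) * g * (w * x)⁻¹ = g ^ (β * α) := by
          rw [show (w * x) * g * (w * x)⁻¹ = w * (x * g * x⁻¹) * w⁻¹ by group, h1, ← conj_pow, h2, ← pow_mul]
        calc v * g = (w * x)⁻¹ * ((x * w) * g * (x * w)⁻¹) * (x * w) := by rw [hv]; group
          _ = (w * x)⁻¹ * ((w * x) * g * (w * x)⁻¹) * (x * w) := by rw [e1, e2]
          _ = g * v := by rw [hv]; group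
      have hvP : v ∈ P := by
        have hxi : ∀ n : ℕ, ∀ s ∈ P, x ^ n * s * (x ^ n)⁻¹ ∈ P := by
          intro n
          induction n with
          | zero => simp
          | succ n ih =>
            intro s hs
            have := hB.conj_x _ (ih s hs)
            rwa [show x * (x ^ n * s * (x ^ n)⁻¹) * x⁻¹ = x ^ (n + 1) * s * (x ^ (n + 1))⁻¹ by rw [pow_succ']; group]
              at this
        have hx1 : x ^ (orderOf x - 1) = x⁻¹ := eq_inv_of_mul_eq_one_left (by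
          rw [← pow_succ, Nat.sub_add_cancel hx.prime.one_le, pow_orderOf_eq_one])
        have h1 := hxi (orderOf x - 1) _ (inv_mem hw)
        rw [hx1, inv_inv] at h1
        rw [hv, show (w * x)⁻¹ * (x * w) = x⁻¹ * w⁻¹ * x * w by group]
        exact mul_mem h1 hw
      have hwu' : Commute w u := hwu
      have hv1 : v = 1 := Bad.eq_one_of_central hF hNB hBel hx hB hPD hvP
        (((hwu'.mul_left hxu).inv_left).mul_left (hxu.mul_left hwu')).eq
        fun j hj _ => hgen v hvP (hkey ha2 hc2) (hkey ha1 hc1) j hj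
      rw [hv, inv_mul_eq_one] at hv1
      exact hv1.symm
    refine ⟨1, ?_, fun w hw hwu => by rw [hfix w hw hwu, mul_inv_cancel_right, pow_one]⟩
    have h1 := hi
    rw [hfix y hy hyu, mul_inv_cancel_right] at h1
    exact zmod_of_pow_eq (hyo ▸ pow_orderOf_eq_one y)
      (fun e => by rw [e, orderOf_one] at hyo; exact hp.out.one_lt.ne hyo) (by rw [pow_one]; exact h1)

end Main

/-- The inverted elements of an invariant `p`-subgroup of the two-point stabiliser commute. -/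
theorem RankOneElt.commute_pgroup {Ω : Type u} [MulAction G Ω] [Finite G] [FaithfulSMul G Ω] (hF : OneFix G Ω)
    (hNB : NoBad G Ω) (hBel : B1.Below.{u} (Nat.card G)) {a b : Ω} {u x : G} (hx : RankOneElt a b u x) {p : ℕ}
    [hp : Fact p.Prime] :
    ∀ {P : Subgroup G}, IsPGroup p P → P ≤ two a b → (∀ s ∈ P, u * s * u ∈ P) → (∀ s ∈ P, x * s * x⁻¹ ∈ P) →
      ∀ j ∈ P, u * j * u = j⁻¹ → ∀ j' ∈ P, u * j' * u = j'⁻¹ → j * j' = j' * j := by
  classical
  intro P
  induction P using WellFoundedLT.induction with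
  | ind P IH =>
  intro hP hPD hPu hPx
  by_contra hnc
  have hu := hx.inv_u
  have hxu : Commute x u := hx.comm.symm
  have hxinv : ∀ {j : G}, u * j * u = j⁻¹ → u * (x * j * x⁻¹) * u = (x * j * x⁻¹)⁻¹ := by
    intro j hj
    calc u * (x * j * x⁻¹) * u = (u * x) * j * (x⁻¹ * u) := by group
      _ = x * (u * j * u) * x⁻¹ := by rw [← hxu.eq, hxu.inv_left.eq]; group
      _ = _ := by rw [hj]; group
  have hmin : ∀ T, T < P → (∀ s ∈ T, u * s * u ∈ T) → (∀ s ∈ T, x * s * x⁻¹ ∈ T) →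
      ∀ j ∈ T, u * j * u = j⁻¹ → ∀ j' ∈ T, u * j' * u = j'⁻¹ → j * j' = j' * j := fun T hT h1 h2 =>
    IH T hT (hP.to_le hT.le) (hT.le.trans hPD) h1 h2
  have hgen : Subgroup.closure {j : G | j ∈ P ∧ u * j * u = j⁻¹} = P := by
    set K := Subgroup.closure {j : G | j ∈ P ∧ u * j * u = j⁻¹}
    refine (lt_or_eq_of_le ((Subgroup.closure_le _).mpr fun j hj => hj.1 : K ≤ P)).resolve_left fun hlt => ?_
    refine hnc fun j hj hjinv j' hj' hjinv' => hmin K hlt (fun s hs => ?_) (fun s hs => ?_) j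
      (Subgroup.subset_closure ⟨hj, hjinv⟩) hjinv j' (Subgroup.subset_closure ⟨hj', hjinv'⟩) hjinv'
    · induction hs using Subgroup.closure_induction with
      | mem s hs => rw [hs.2]; exact inv_mem (Subgroup.subset_closure hs)
      | one => simp [hu.2]
      | mul s t _ _ ihs iht =>
        rw [show u * (s * t) * u = u * s * u * (u * t * u) by simp only [mul_assoc, ← mul_assoc u u, hu.2, one_mul]]
        exact mul_mem ihs iht
      | inv s _ ih =>
        rw [show u * s⁻¹ * u = (u * s * u)⁻¹ by rw [mul_inv_rev, mul_inv_rev, hu.inv, mul_assoc]]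
        exact inv_mem ih
    · induction hs using Subgroup.closure_induction with
      | mem s hs => exact Subgroup.subset_closure ⟨hPx s hs.1, hxinv hs.2⟩
      | one => simp
      | mul s t _ _ ihs iht =>
        rw [show x * (s * t) * x⁻¹ = x * s * x⁻¹ * (x * t * x⁻¹) by group]
        exact mul_mem ihs iht
      | inv s _ ih =>
        rw [show x * s⁻¹ * x⁻¹ = (x * s * x⁻¹)⁻¹ by group]
        exact inv_mem ih
  have hB : Bad u x p P := ⟨hP, hPu, hPx, hgen, hnc, hmin⟩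
  obtain ⟨y, z, ⟨hy, hyu, hyo⟩, ⟨hz, hzinv, hzo, hzc⟩, hmemz, ⟨g1, hg1, hg1y⟩, ⟨i, hi⟩, τ, hτ, hτ1, hτl⟩ :=
    Bad.centre_data hF hNB hBel hx hB hPD
  have hodd := Bad.odd_card hF hNB hx hB hPD
  have hzp : z ^ p = 1 := hzo ▸ pow_orderOf_eq_one z
  have hz1 : z ≠ 1 := fun e => by rw [e, orderOf_one] at hzo; exact hp.out.one_lt.ne hzo
  have hyp : y ^ p = 1 := hyo ▸ pow_orderOf_eq_one y
  have hy1 : y ≠ 1 := fun e => by rw [e, orderOf_one] at hyo; exact hp.out.one_lt.ne hyo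
  obtain ⟨k, hk, hky, hkinv, hgenk⟩ := Bad.exists_gen hF hNB hBel hx hB hPD hy hyu hyo
  set π : P →* PQuot p P := pq p with hπ
  set f := pqMap p hB.fx with hf
  -- commutation with `y`
  let χ : P →* G :=
    { toFun := fun g => (g : G) * y * (g : G)⁻¹ * y⁻¹
      map_one' := by simp
      map_mul' := fun g h => by
        obtain ⟨r, hr⟩ := Subgroup.mem_zpowers_iff.mp (hmemz h h.2)
        show (g : G) * h * y * ((g : G) * h)⁻¹ * y⁻¹ = _
        calc (g : G) * h * y * ((g : G) * h)⁻¹ * y⁻¹ = g * ((h : G) * y * (h : G)⁻¹ * y⁻¹) * y * (g : G)⁻¹ * y⁻¹ := by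
              group
          _ = g * z ^ r * y * (g : G)⁻¹ * y⁻¹ := by rw [hr]
          _ = z ^ r * ((g : G) * y * (g : G)⁻¹ * y⁻¹) := by
              rw [((show Commute (g : G) z from hzc g g.2).zpow_right r).eq]; group
          _ = (g : G) * y * (g : G)⁻¹ * y⁻¹ * z ^ r :=
              ((show Commute ((g : G) * y * (g : G)⁻¹ * y⁻¹) z from
                hzc _ (mul_mem (mul_mem (mul_mem g.2 hy) (inv_mem g.2)) (inv_mem hy))).zpow_right r).symm.eq
          _ = _ := by rw [← hr] }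
  have hχ : ∀ g : P, ∃ n : ℕ, χ g = z ^ n := fun g => by
    obtain ⟨n, hn : z ^ n = _⟩ := mem_powers_iff_mem_zpowers.mpr (hmemz g g.2)
    exact ⟨n, hn.symm⟩
  have hχker : ∀ g : P, π g = 1 → χ g = 1 := fun g hg => pq_ker_le hg χ
    (fun v w => by obtain ⟨n, hn⟩ := hχ v; obtain ⟨m, hm⟩ := hχ w; rw [hn, hm]; exact Commute.pow_pow_self z n m)
    (fun v => by obtain ⟨n, hn⟩ := hχ v; rw [hn, ← pow_mul, mul_comm, pow_mul, hzp, one_pow])
  have hχ1 : ∀ g : P, χ g = 1 → (g : G) * y = y * g := fun g h => by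
    have h' : (g : G) * y * (g : G)⁻¹ * y⁻¹ = 1 := h
    rwa [mul_inv_eq_one, mul_inv_eq_iff_eq_mul] at h'
  have hπu : ∀ g : P, (g : G) * u = u * g → π g = 1 := fun g h => hB.pq_of_commute hu.2 hodd h
  have hdec : ∀ (g : P), ∃ c j : P, g = c * j ∧ (c : G) * u = u * c ∧ u * (j : G) * u = (j : G)⁻¹ ∧ π g = π j := by
    intro g
    obtain ⟨⟨c, j⟩, ⟨hc, hj, hgcj⟩, -⟩ := RankOne.Inverted.decomp hodd
      (fun s hs => by rw [hu.inv]; exact hPu s hs) hu.2 g.2
    dsimp only at hc hj hgcj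
    obtain ⟨hcP, hcu⟩ := Subgroup.mem_inf.mp hc
    have hcu' := Subgroup.mem_centralizer_singleton_iff.mp hcu
    have e : g = ⟨c, hcP⟩ * ⟨j, hj.1⟩ := Subtype.ext hgcj
    refine ⟨⟨c, hcP⟩, ⟨j, hj.1⟩, e, hcu', by show u * j * u = j⁻¹; rw [← hj.2, hu.inv], ?_⟩
    rw [e, map_mul, hπu ⟨c, hcP⟩ hcu', one_mul]
  set K := Subgroup.zpowers (π ⟨k, hk⟩) with hK
  -- the kernel of commutation with `y` maps to the powers of `k`
  have hSK : ∀ g : P, χ g = 1 → π g ∈ K := by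
    intro g hg
    obtain ⟨c, j, hgcj, hcu, hjinv, hπg⟩ := hdec g
    have hj : χ j = 1 := by
      rw [hgcj, map_mul, hχker c (hπu c hcu), one_mul] at hg
      exact hg
    obtain ⟨r, hr⟩ := Subgroup.mem_zpowers_iff.mp (hgenk j j.2 hjinv (hχ1 j hj))
    rw [hπg, show j = (⟨k, hk⟩ : P) ^ r from Subtype.ext hr.symm, map_zpow]
    exact Subgroup.zpow_mem _ (Subgroup.mem_zpowers _) r
  have hsingle : ∀ g : P, (∀ h : P, π h ∈ Subgroup.zpowers (π g)) → False := by
    intro g hg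
    have htop : Subgroup.zpowers g = ⊤ := eq_top_of_pq hP (eq_top_iff.mpr fun q _ => by
      obtain ⟨h, rfl⟩ := pq_surjective p q
      rw [MonoidHom.map_zpowers]
      exact hg h)
    refine hB.not_comm fun s hs s' hs' => ?_
    obtain ⟨r, hr⟩ := Subgroup.mem_zpowers_iff.mp (htop ▸ Subgroup.mem_top (⟨s, hs⟩ : P))
    obtain ⟨r', hr'⟩ := Subgroup.mem_zpowers_iff.mp (htop ▸ Subgroup.mem_top (⟨s', hs'⟩ : P))
    have := ((Commute.refl g).zpow_zpow r r').eq
    rw [hr, hr'] at this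
    exact congrArg Subtype.val this
  obtain ⟨g0, hg0⟩ : ∃ g : P, π g ∉ K := by
    by_contra h
    push Not at h
    exact hsingle ⟨k, hk⟩ h
  -- the second eigenvector
  have hfiter : ∀ (n : ℕ) (g : P), (((hB.fx)^[n]) g : G) = x ^ n * g * (x ^ n)⁻¹ := by
    intro n
    induction n with
    | zero => simp
    | succ n ih =>
      intro g
      rw [Function.iterate_succ_apply', pow_succ']
      show x * (((hB.fx)^[n]) g : G) * x⁻¹ = _
      rw [ih]
      group
  have hfl : ∀ q : PQuot p P, (f^[orderOf x]) q = q := by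
    intro q
    obtain ⟨g, rfl⟩ := pq_surjective p q
    have hs : Function.Semiconj (pq p) hB.fx f := fun g => (pqMap_pq p hB.fx g).symm
    rw [← (hs.iterate_right (orderOf x)).eq g]
    exact congrArg _ (Subtype.ext (by rw [hfiter, pow_orderOf_eq_one]; simp))
  have hlp : (orderOf x : ZMod p) ≠ 0 := fun e => by
    have he : orderOf x = p :=
      ((Nat.prime_dvd_prime_iff_eq hp.out hx.prime).mp ((ZMod.natCast_eq_zero_iff _ p).mp e)).symm
    rw [he, ZMod.pow_card] at hτl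
    exact hτ1 hτl
  obtain ⟨q, hqK, bb, hbb⟩ := exists_eigen (pq_pow p) f hfl hτl hτ1 hx.prime hlp K hg0
  obtain ⟨g2, rfl⟩ := pq_surjective p q
  obtain ⟨c2, t, hg2, hc2u, htinv, hπt⟩ := hdec g2
  rw [← hπ, hπt] at hqK hbb
  have hq1 : π t ≠ 1 := fun e => hqK (e ▸ one_mem _)
  have hkq : π ⟨k, hk⟩ ∉ Subgroup.zpowers (π t) := fun h => by
    obtain ⟨r, hr⟩ := Subgroup.mem_zpowers_iff.mp h
    by_cases hpr : (p : ℤ) ∣ r
    · obtain ⟨r', rfl⟩ := hpr
      rw [zpow_mul, zpow_natCast, hπ, pq_pow, one_zpow] at hr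
      refine hsingle t fun g => ?_
      obtain ⟨n, hn⟩ := hχ t
      obtain ⟨m, hm⟩ := hχ g
      have hn0 : (n : ZMod p) ≠ 0 := fun e => by
        rw [pow_congr_zmod hzp (n := 0) (by rw [e, Nat.cast_zero]), pow_zero] at hn
        have h2 := hSK t hn
        rw [hK, ← hr, Subgroup.zpowers_one_eq_bot, Subgroup.mem_bot] at h2
        exact hq1 h2
      have hgt : π (g * (t ^ ((m : ZMod p) * (n : ZMod p)⁻¹).val)⁻¹) ∈ K := hSK _ (by
        rw [map_mul, map_inv, map_pow, hn, hm, ← pow_mul, mul_inv_eq_one]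
        exact pow_congr_zmod hzp (by
          rw [Nat.cast_mul, ZMod.natCast_val, ZMod.cast_id', id, mul_comm (m : ZMod p), ← mul_assoc,
            mul_inv_cancel₀ hn0, one_mul]))
      rw [hK, ← hr, Subgroup.zpowers_one_eq_bot, Subgroup.mem_bot, map_mul, map_inv, mul_inv_eq_one, map_pow] at hgt
      rw [hgt]
      exact Subgroup.pow_mem _ (Subgroup.mem_zpowers _) _
    · obtain ⟨s, s', hss⟩ := (Nat.prime_iff_prime_int.mp hp.out).coprime_iff_not_dvd.mpr hpr
      refine hqK ?_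
      have h1 : π t = π ⟨k, hk⟩ ^ s' := by
        rw [← hr, ← zpow_mul]
        calc π t = π t ^ (s * (p : ℤ) + s' * r) := by rw [hss, zpow_one]
          _ = _ := by rw [zpow_add, mul_comm s, zpow_mul, zpow_natCast, hπ, pq_pow, one_zpow, one_mul, mul_comm]
      rw [h1]
      exact Subgroup.zpow_mem _ (Subgroup.mem_zpowers _) _
  have hkK : π ⟨k, hk⟩ ≠ 1 := fun e => hkq (e ▸ one_mem _)
  obtain ⟨n, hn⟩ := hχ t
  have hn0 : (n : ZMod p) ≠ 0 := fun e => hqK (hSK t (by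
    rw [hn, pow_congr_zmod hzp (n := 0) (by rw [e, Nat.cast_zero]), pow_zero]))
  -- the two elements generate
  have hgenkt : Subgroup.closure ({(⟨k, hk⟩ : P), t} : Set P) = ⊤ := by
    refine eq_top_of_pq hP (eq_top_iff.mpr fun q _ => ?_)
    obtain ⟨g, rfl⟩ := pq_surjective p q
    obtain ⟨m, hm⟩ := hχ g
    set r := ((m : ZMod p) * (n : ZMod p)⁻¹).val with hr
    have h1 : π (g * (t ^ r)⁻¹) ∈ K := hSK _ (by
      rw [map_mul, map_inv, map_pow, hn, hm, ← pow_mul, mul_inv_eq_one]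
      exact pow_congr_zmod hzp (by
        rw [hr, Nat.cast_mul, ZMod.natCast_val, ZMod.cast_id', id, mul_comm (m : ZMod p), ← mul_assoc,
          mul_inv_cancel₀ hn0, one_mul]))
    obtain ⟨s, hs⟩ := Subgroup.mem_zpowers_iff.mp h1
    refine ⟨(⟨k, hk⟩ : P) ^ s * t ^ r,
      mul_mem (Subgroup.zpow_mem _ (Subgroup.subset_closure (Set.mem_insert _ _)) s)
        (Subgroup.pow_mem _ (Subgroup.subset_closure (Set.mem_insert_of_mem _ (Set.mem_singleton _))) r), ?_⟩
    rw [← hπ, map_mul, map_zpow, hs, map_mul, map_inv, inv_mul_cancel_right]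
  have hcomm2 : ∀ w ∈ P, w * k = k * w → w * (t : G) = t * w → ∀ g ∈ P, w * g = g * w := by
    intro w hw h1 h2 g hg
    have hle : Subgroup.closure ({(⟨k, hk⟩ : P), t} : Set P) ≤ Subgroup.centralizer ({⟨w, hw⟩} : Set P) :=
      (Subgroup.closure_le _).mpr fun v hv => by
        rcases hv with rfl | rfl
        · exact Subgroup.mem_centralizer_singleton_iff.mpr (Subtype.ext h1.symm)
        · exact Subgroup.mem_centralizer_singleton_iff.mpr (Subtype.ext h2.symm)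
    exact (congrArg Subtype.val (Subgroup.mem_centralizer_singleton_iff.mp
      (hle (hgenkt ▸ Subgroup.mem_top (⟨g, hg⟩ : P))))).symm
  -- the inverted kernel
  have hkerk : ∀ j (h : j ∈ P), u * j * u = j⁻¹ → π ⟨j, h⟩ = 1 → ∃ m : ℕ, j = (k ^ p) ^ m := by
    intro j h hjinv hπj
    obtain ⟨r, hr : k ^ r = j⟩ := mem_powers_iff_mem_zpowers.mpr (hgenk j h hjinv (hχ1 ⟨j, h⟩ (hχker _ hπj)))
    have h1 : π ⟨k, hk⟩ ^ r = π ⟨k, hk⟩ ^ 0 := by
      rw [← map_pow, pow_zero]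
      exact (congrArg π (Subtype.ext hr : (⟨k, hk⟩ : P) ^ r = ⟨j, h⟩)).trans hπj
    have h0 := zmod_of_pow_eq (pq_pow p _) hkK h1
    rw [Nat.cast_zero, ZMod.natCast_eq_zero_iff] at h0
    obtain ⟨m, rfl⟩ := h0
    exact ⟨m, by rw [← hr, pow_mul]⟩
  have hzy : z * y = y * z := (hzc y hy).symm
  obtain ⟨m, hm : k ^ m = z⟩ := mem_powers_iff_mem_zpowers.mpr (hgenk z hz hzinv hzy)
  have hpm : p ∣ m := by
    by_contra hnd
    obtain ⟨N, hN⟩ := hP ⟨k, hk⟩
    have hN' : k ^ p ^ N = 1 := congrArg Subtype.val hN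
    have hc : m.Coprime (orderOf k) :=
      (((hp.out.coprime_iff_not_dvd.mpr hnd).pow_left N).symm).coprime_dvd_right (orderOf_dvd_of_pow_eq_one hN')
    obtain ⟨r, hr⟩ := exists_pow_eq_self_of_coprime hc
    rw [hm] at hr
    have hkc : ∀ g ∈ P, k * g = g * k := fun g hg => by
      rw [← hr]
      exact ((show Commute g z from hzc g hg).pow_right r).symm.eq
    have htc : ∀ g ∈ P, (t : G) * g = g * t := hcomm2 t t.2 (hkc t t.2).symm rfl
    exact hB.not_comm fun s hs s' hs' => hcomm2 s hs (hkc s hs).symm (htc s hs).symm s' hs'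
  obtain ⟨m', rfl⟩ := hpm
  -- the proper subgroup over `t`
  set T := ((Subgroup.zpowers (π t)).comap π).map P.subtype with hTdef
  have hT : ∀ j (h : j ∈ P), j ∈ T ↔ π ⟨j, h⟩ ∈ Subgroup.zpowers (π t) := fun j h => by
    refine ⟨?_, fun e => ⟨⟨j, h⟩, e, rfl⟩⟩
    rintro ⟨⟨j', hj'⟩, e, rfl⟩
    exact e
  have hTP : T ≤ P := Subgroup.map_subtype_le _
  have htT : (t : G) ∈ T := (hT _ t.2).mpr (Subgroup.mem_zpowers _)
  have hTu : ∀ s ∈ T, u * s * u ∈ T := fun s hs => (hT _ (hPu s (hTP hs))).mpr (by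
    have h1 := inv_mem ((hT s (hTP hs)).mp hs)
    rwa [← hB.pq_fu hu.2 ⟨s, hTP hs⟩] at h1)
  have hTx : ∀ s ∈ T, x * s * x⁻¹ ∈ T := fun s hs => (hT _ (hPx s (hTP hs))).mpr (by
    obtain ⟨r, hr⟩ := Subgroup.mem_zpowers_iff.mp ((hT s (hTP hs)).mp hs)
    have e : π (hB.fx ⟨s, hTP hs⟩) = f (π t ^ r) := by rw [hr, hf, hπ, pqMap_pq]
    rw [map_zpow, hbb] at e
    show π (hB.fx ⟨s, hTP hs⟩) ∈ _
    rw [e]
    exact Subgroup.zpow_mem _ (Subgroup.pow_mem _ (Subgroup.mem_zpowers _) _) r)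
  have hTlt : T < P := lt_of_le_of_ne hTP fun e => hkq ((hT k hk).mp (e.symm ▸ hk))
  have hTc := hmin T hTlt hTu hTx
  -- powers of `k`
  have hpower : ∀ {v : G}, (∀ s ∈ P, v * s * v⁻¹ ∈ P) → v * u = u * v → v * k * v⁻¹ * y = y * (v * k * v⁻¹) →
      ∃ e : ℕ, v * k * v⁻¹ = k ^ e := by
    intro v hv hvu hvy
    have hinv : u * (v * k * v⁻¹) * u = (v * k * v⁻¹)⁻¹ := by
      have hvu' : Commute u v := hvu.symm
      calc u * (v * k * v⁻¹) * u = (u * v) * k * (v⁻¹ * u) := by group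
        _ = v * (u * k * u) * v⁻¹ := by rw [hvu'.eq, hvu'.inv_right.symm.eq]; group
        _ = _ := by rw [hkinv]; group
    obtain ⟨e, he : k ^ e = _⟩ := mem_powers_iff_mem_zpowers.mpr (hgenk _ (hv k hk) hinv hvy)
    exact ⟨e, he.symm⟩
  have hχk : χ ⟨k, hk⟩ = 1 := by
    show k * y * k⁻¹ * y⁻¹ = 1
    rw [hky, mul_inv_cancel_right, mul_inv_cancel]
  have hkC : ∀ w ∈ P, w * u = u * w → ∃ e : ℕ, w * k * w⁻¹ = k ^ e := fun w hw hwu =>
    hpower (fun s hs => mul_mem (mul_mem hw hs) (inv_mem hw)) hwu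
      (hχ1 (⟨w, hw⟩ * ⟨k, hk⟩ * (⟨w, hw⟩ : P)⁻¹) (by rw [map_mul, map_mul, hχk, mul_one, map_inv, mul_inv_cancel]))
  have hka : ∃ e : ℕ, x * k * x⁻¹ = k ^ e := by
    refine hpower hPx hxu.eq ?_
    have hcop : i.Coprime (orderOf y) := by
      rw [hyo]
      refine (hp.out.coprime_iff_not_dvd.mpr fun hd => hy1 ?_).symm
      obtain ⟨i', rfl⟩ := hd
      rw [pow_mul, hyp, one_pow, mul_inv_eq_one] at hi
      exact mul_left_cancel (hi.trans (mul_one x).symm)
    obtain ⟨r, hr⟩ := exists_pow_eq_self_of_coprime hcop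
    have h1 : Commute (x * k * x⁻¹) (y ^ i) := by
      rw [← hi]
      exact (show Commute k y from hky).map (MulAut.conj x).toMonoidHom
    have h2 := h1.pow_right r
    rw [hr] at h2
    exact h2.eq
  obtain ⟨a1, ha1⟩ := hka
  obtain ⟨e, hei, hC⟩ := Bad.cent_power hF hNB hBel hx hB hPD hy hyu hyo hz hzinv hzo hzc hi hTP hTc htT htinv
    (fun _ => hq1) hT hTx hk hkinv hkerk hcomm2 ⟨a1, ha1⟩ hkC ⟨m', by rw [← hm, pow_mul]⟩
  -- the weights
  have hw := hB.weight_eq hu.2 hxu.eq hodd (k := ⟨k, hk⟩) (kT := t) hkinv htinv hgenkt ha1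
    (b := bb) (by rw [map_pow, ← hπ, ← hbb, hf, hπ, pqMap_pq]) hC
  have haτ : (a1 : ZMod p) = τ := zmod_of_pow_eq hzp hz1 (by
    rw [← hτ]
    conv_rhs => rw [← hm, ← conj_pow, ha1, ← pow_mul, mul_comm, pow_mul, hm])
  have hχfx : χ (hB.fx t) = z ^ (n * bb) := by
    have h1 : χ ((t ^ bb)⁻¹ * hB.fx t) = 1 := hχker _ (by
      rw [map_mul, map_inv, inv_mul_eq_one, map_pow, ← hbb, hf, hπ, pqMap_pq])
    rwa [map_mul, map_inv, inv_mul_eq_one, map_pow, hn, ← pow_mul, eq_comm] at h1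
  have hbi : ((n * τ : ℕ) : ZMod p) = (n * bb * i : ℕ) := zmod_of_pow_eq hzp hz1 (by
    have h1 : Commute (z ^ (n * bb)) y := (show Commute z y from hzy).pow_left _
    have h2 : (x * t * x⁻¹) * y ^ i * (x * t * x⁻¹)⁻¹ = z ^ (n * bb * i) * y ^ i := by
      have h3 : (x * t * x⁻¹) * y * (x * t * x⁻¹)⁻¹ = z ^ (n * bb) * y := mul_inv_eq_iff_eq_mul.mp hχfx
      rw [← conj_pow, h3, h1.mul_pow, ← pow_mul]
    calc z ^ (n * τ) = x * (z ^ n) * x⁻¹ := by rw [← conj_pow, hτ, ← pow_mul, mul_comm]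
      _ = x * ((t : G) * y * (t : G)⁻¹ * y⁻¹) * x⁻¹ := by rw [← hn]; rfl
      _ = (x * t * x⁻¹) * (x * y * x⁻¹) * (x * t * x⁻¹)⁻¹ * (x * y * x⁻¹)⁻¹ := by group
      _ = _ := by rw [hi, h2, mul_inv_cancel_right])
  have hτ0 : (τ : ZMod p) ≠ 0 := fun e => by
    rw [e, zero_pow hx.prime.ne_zero] at hτl
    exact zero_ne_one hτl
  have hbb2 : (bb : ZMod p) ^ 2 = 1 := by
    rw [Nat.cast_mul, Nat.cast_mul, Nat.cast_mul, mul_assoc] at hbi
    have h1 := mul_left_cancel₀ hn0 hbi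
    rw [← hei, hw, Nat.cast_mul, haτ] at h1
    refine mul_left_cancel₀ hτ0 ?_
    rw [mul_one]
    conv_rhs => rw [h1]
    ring
  have hbbl : (bb : ZMod p) ^ orderOf x = 1 := by
    have hit : ∀ m : ℕ, (f^[m]) (π t) = π t ^ bb ^ m := by
      intro m
      induction m with
      | zero => simp
      | succ m ih => rw [Function.iterate_succ_apply', ih, map_pow, hbb, ← pow_mul, pow_succ']
    have h1 := hit (orderOf x)
    rw [hfl] at h1
    rw [← Nat.cast_pow, ← Nat.cast_one (R := ZMod p)]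
    exact zmod_of_pow_eq (pq_pow p _) hq1 (by rw [← h1, pow_one])
  have hbb1 : (bb : ZMod p) = 1 := by
    obtain ⟨d, hd⟩ := odd_orderOf (odd_two hF hx.hab.symm) hx.mem
    rw [hd, pow_succ, pow_mul, hbb2, one_pow, one_mul] at hbbl
    exact hbbl
  have hfix : π (hB.fx t) = π t := by
    rw [hπ, ← pqMap_pq, ← hπ, ← hf, hbb, pow_congr_zmod (pq_pow p _) (n := 1) (by rw [hbb1, Nat.cast_one]), pow_one]
  set N := π.ker.map P.subtype with hN
  have hmemN : ∀ v (h : v ∈ P), v ∈ N ↔ π ⟨v, h⟩ = 1 := fun v h => by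
    refine ⟨?_, fun e => ⟨⟨v, h⟩, e, rfl⟩⟩
    rintro ⟨⟨v', hv'⟩, e, rfl⟩
    exact e
  have hNP : N ≤ P := Subgroup.map_subtype_le _
  have htN : (t : G) ∈ N := by
    refine RankOneElt.mem_of_fixed hF hNB hx hPD hNP (fun s hs v hv => ?_) hPu (fun v hv => ?_) (fun v hv => ?_) t.2 ?_ ?_
    · refine (hmemN _ (mul_mem (mul_mem hs (hNP hv)) (inv_mem hs))).mpr ?_
      rw [show (⟨s * v * s⁻¹, mul_mem (mul_mem hs (hNP hv)) (inv_mem hs)⟩ : P) =
        ⟨s, hs⟩ * ⟨v, hNP hv⟩ * (⟨s, hs⟩ : P)⁻¹ from rfl, map_mul, map_mul, (hmemN v (hNP hv)).mp hv, mul_one,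
        map_inv, mul_inv_cancel]
    · refine (hmemN _ (hPu v (hNP hv))).mpr ?_
      have h1 := hB.pq_fu hu.2 ⟨v, hNP hv⟩
      rw [← hπ, (hmemN v (hNP hv)).mp hv, inv_one] at h1
      exact h1
    · refine (hmemN _ (hPx v (hNP hv))).mpr ?_
      show π (hB.fx ⟨v, hNP hv⟩) = 1
      rw [hπ, ← pqMap_pq, ← hπ, (hmemN v (hNP hv)).mp hv, map_one]
    · rw [htinv, inv_mul_cancel]
      exact one_mem N
    · refine (hmemN _ (mul_mem (inv_mem t.2) (hPx t t.2))).mpr ?_
      show π (t⁻¹ * hB.fx t) = 1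
      rw [map_mul, map_inv, hfix, inv_mul_cancel]
  exact hq1 ((hmemN t t.2).mp htN)

end CfsgLib.Bender.NC
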