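import Cfsg.Agent.Lib.Bender.FromB1.NC.Basics
import Cfsg.Agent.Lib.Bender.FromB1.Comm.Omega
import Cfsg.Agent.Lib.SuzukiRankOne.Basics

/-!
In a frame the inverted subgroup is regular on the involutions at a point; the elements of prime order of the
centraliser of the swapper commuting with one of its non-trivial elements are those with four group.

Blueprint: `blueprint/bender/A5b.md`, section 3.
-/

set_option autoImplicit false
set_option linter.unusedSectionVars false
set_option linter.style.haveILetI false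

namespace CfsgLib.Bender.NC

open MulAction Cfsg CfsgLib.Bender CfsgLib.Bender.OneFix CfsgLib.Bender.TwoClosed
open CfsgLib.Bender.B1 (FourIn)

universe u

variable {G Ω : Type u} [Group G] [MulAction G Ω] [Finite G] [FaithfulSMul G Ω] (hF : OneFix G Ω)
  (hNB : NoBad G Ω) {a b : Ω} {u : G} {F C : Subgroup G} (hFr : Frame a b u F C)
include hF hNB hFr

namespace Frame

theorem le_two : F ≤ two a b := fun y hy => ((hFr.mem_F y).mp hy).1

theorem inverted {f : G} (hf : f ∈ F) : u * f * u = f⁻¹ := ((hFr.mem_F f).mp hf).2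

theorem mem_C {c : G} : c ∈ C ↔ c ∈ two a b ∧ c * u = u * c := by
  rw [hFr.C_eq, Subgroup.mem_inf, Subgroup.mem_centralizer_singleton_iff]

theorem C_le : C ≤ two a b := fun _ hc => ((mem_C hF hNB hFr).mp hc).1

theorem conj_F_of_C {c f : G} (hc : c ∈ C) (hf : f ∈ F) : c * f * c⁻¹ ∈ F := by
  obtain ⟨hc1, hc2⟩ := (mem_C hF hNB hFr).mp hc
  refine (hFr.mem_F _).mpr ⟨mul_mem (mul_mem hc1 (le_two hF hNB hFr hf)) (inv_mem hc1), ?_⟩
  have hc3 : c⁻¹ * u = u * c⁻¹ := ((show Commute c u from hc2).inv_left).eq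
  calc u * (c * f * c⁻¹) * u = u * c * f * (c⁻¹ * u) := by group
    _ = c * u * f * (u * c⁻¹) := by rw [hc3, ← hc2]
    _ = c * (u * f * u) * c⁻¹ := by group
    _ = _ := by rw [inverted hF hNB hFr hf]; group

/-- `G_ab = F C`. -/
theorem exists_mul {d : G} (hd : d ∈ two a b) : ∃ f ∈ F, ∃ c ∈ C, d = f * c := by
  obtain ⟨⟨c, k⟩, ⟨hc, hk, hdck⟩, -⟩ := RankOne.Inverted.decomp (odd_two hF hFr.hab.symm)
    (swap_conj_two hF hFr.inv_u hFr.swap) hFr.inv_u.2 hd
  have hcC : c ∈ C := hFr.C_eq.symm.le hc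
  have hkF : k ∈ F := (hFr.mem_F k).mpr ⟨hk.1, by
    have h := hk.2
    rwa [hFr.inv_u.inv] at h⟩
  exact ⟨_, conj_F_of_C hF hNB hFr hcC hkF, c, hcC, by rw [show d = c * k from hdck]; group⟩

/-- `F` is normalised by the two-point stabiliser. -/
theorem conj_F {d f : G} (hd : d ∈ two a b) (hf : f ∈ F) : d * f * d⁻¹ ∈ F := by
  obtain ⟨f', hf', c, hc, rfl⟩ := exists_mul hF hNB hFr hd
  rw [show f' * c * f * (f' * c)⁻¹ = f' * (c * f * c⁻¹) * f'⁻¹ by group]
  exact mul_mem (mul_mem hf' (conj_F_of_C hF hNB hFr hc hf)) (inv_mem hf')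

theorem eq_one_of_mem {y : G} (hy : y ∈ F) (hy' : y ∈ C) : y = 1 := by
  refine eq_one_of_inv_eq ?_ (odd_orderOf (odd_two hF hFr.hab.symm) (le_two hF hNB hFr hy))
  rw [← inverted hF hNB hFr hy, mul_assoc, ((mem_C hF hNB hFr).mp hy').2, ← mul_assoc, hFr.inv_u.2, one_mul]

/-- A rank one element centralises nothing in `F`. -/
theorem cent_elt {x f : G} (hx : RankOneElt a b u x) (hf : f ∈ F) (h : f * x = x * f) : f = 1 :=
  RankOneElt.eq_one_of_commute hF hNB hx (le_two hF hNB hFr hf) (inverted hF hNB hFr hf) h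

theorem elt_mem {x : G} (hx : RankOneElt a b u x) : x ∈ C :=
  (mem_C hF hNB hFr).mpr ⟨hx.mem, hx.comm.symm⟩

/-- An element of `F` centralising an involution at `a` is trivial. -/
theorem eq_one_of_fix {f i : G} (hf : f ∈ F) (hi : IsInv i) (hia : i • a = a) (h : f * i = i * f) : f = 1 :=
  inverted_commute hF hFr.inv_u hi (odd_orderOf (odd_two hF hFr.hab.symm) (le_two hF hNB hFr hf))
    (inverted hF hNB hFr hf) h hia (by rw [hFr.swap]; exact hFr.hab)

theorem card_F : Nat.card F = Nat.card (InvAt G a) := by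
  have hu := hFr.inv_u
  have h := RankOne.Inverted.card_eq (odd_two hF hFr.hab.symm) (swap_conj_two hF hu hFr.swap) hu.2
  rw [card_two_eq hF hFr.hab hu hFr.swap, mul_comm] at h
  rw [Nat.eq_of_mul_eq_mul_left Nat.card_pos h]
  refine Nat.card_congr (Equiv.subtypeEquivRight fun y => ?_)
  rw [hFr.mem_F]
  simp [invertedBy, hu.inv]

/-- `F` is regular on the involutions at `a`. -/
theorem exists_unique_conj {i j : G} (hi : IsInv i) (hia : i • a = a) (hj : IsInv j) (hja : j • a = a) :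
    ∃! f : G, f ∈ F ∧ f * i * f⁻¹ = j := by
  let θ : F → InvAt G a := fun f => ⟨f * i * (f : G)⁻¹, hi.conj _, by
    rw [mul_smul, mul_smul, inv_smul_eq_iff.mpr (mem_two.mp (le_two hF hNB hFr f.2)).1.symm, hia,
      (mem_two.mp (le_two hF hNB hFr f.2)).1]⟩
  have hinj : Function.Injective θ := fun f f' e => by
    have e' : (f : G) * i * (f : G)⁻¹ = f' * i * (f' : G)⁻¹ := congrArg Subtype.val e
    have h1 := eq_one_of_fix hF hNB hFr (mul_mem (inv_mem f'.2) f.2) hi hia (by
      rw [← mul_inv_eq_iff_eq_mul, show (f' : G)⁻¹ * f * i * ((f' : G)⁻¹ * f)⁻¹ =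
        (f' : G)⁻¹ * ((f : G) * i * (f : G)⁻¹) * f' by group, e']
      group)
    exact Subtype.ext (inv_mul_eq_one.mp h1).symm
  haveI : Finite (InvAt G a) := inferInstance
  obtain ⟨f, hf⟩ := ((Nat.bijective_iff_injective_and_card θ).mpr ⟨hinj, card_F hF hNB hFr⟩).2 ⟨j, hj, hja⟩
  exact ⟨f, ⟨f.2, congrArg Subtype.val hf⟩, fun f' hf' => congrArg Subtype.val
    (hinj (show θ ⟨f', hf'.1⟩ = θ f from (Subtype.ext hf'.2).trans hf.symm))⟩

theorem exists_ne_one : ∃ f ∈ F, f ≠ 1 := by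
  obtain ⟨i, j, hi, hia, hj, hja, hne⟩ := exists_two_at hF a
  obtain ⟨f, ⟨hf, he⟩, -⟩ := exists_unique_conj hF hNB hFr hi hia hj hja
  exact ⟨f, hf, fun h => hne (by rw [← he, h]; group)⟩

/-- The centraliser in `G_a` of a non-trivial element of `F` fixes `b`. -/
theorem cent_le {f h : G} (hf : f ∈ F) (hf1 : f ≠ 1) (hha : h • a = a) (hc : h * f = f * h) : h ∈ two a b :=
  centralizer_inverted hF hNB hFr.hab hFr.inv_u (inverted hF hNB hFr hf) (le_two hF hNB hFr hf) hf1 hha hc

theorem third {c : G} (hc : c ∈ C) : Third a b c := by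
  obtain ⟨g, hg⟩ := exists_fix hF hFr.inv_u
  refine ⟨g, fun e => hFr.hab ?_, fun e => hFr.hab ?_,
    commute_fix hF hFr.inv_u hg ((mem_C hF hNB hFr).mp hc).2⟩
  · rw [← hFr.swap, ← e, hg]
  · have h := hFr.inv_u.swap_back hFr.swap
    rw [← e, hg] at h
    rw [← h, e]

/-- An element of prime order of `C` centralises an involution at `a`. -/
theorem exists_inv_cent {y : G} (hy : y ∈ C) (hp : (orderOf y).Prime) :
    ∃ i : G, IsInv i ∧ i • a = a ∧ i * y = y * i := by
  haveI := Fact.mk hp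
  obtain ⟨e, hea, heb, hey⟩ := third hF hNB hFr hy
  obtain ⟨hya, hyb⟩ := mem_two.mp (C_le hF hNB hFr hy)
  obtain ⟨z, hzC, hz, hza⟩ := exists_centre hF hNB (prime_ne_two hF hNB hFr.hab (C_le hF hNB hFr hy) hp) _
    (IsPGroup.of_card (n := 1) (by rw [Nat.card_zpowers, pow_one]) : IsPGroup (orderOf y) (Subgroup.zpowers y))
    a b e (mem_fixSet_zpowers hF hNB hya) (mem_fixSet_zpowers hF hNB hyb) (mem_fixSet_zpowers hF hNB hey)
    hFr.hab.symm hea.symm heb.symm
  exact ⟨z, hz, hza, (mem_cent_zpowers hF hNB).mp hzC⟩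

/-- The conjugates of one centralised involution by `F` that are centralised. -/
theorem commute_iff_conj {y f i : G} (hy : y ∈ C) (hf : f ∈ F) (hi : IsInv i) (hia : i • a = a) (hiy : i * y = y * i) :
    (f * i * f⁻¹) * y = y * (f * i * f⁻¹) ↔ f * y = y * f := by
  refine ⟨fun h => ?_, fun h => ?_⟩
  · have hya := (mem_two.mp (C_le hF hNB hFr hy)).1
    have hfa := (mem_two.mp (le_two hF hNB hFr hf)).1
    have hja : (f * i * f⁻¹) • a = a := by
      rw [mul_smul, mul_smul, inv_smul_eq_iff.mpr hfa.symm, hia, hfa]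
    obtain ⟨f₀, hf₀, huniq⟩ := exists_unique_conj hF hNB hFr hi hia (hi.conj f) hja
    have h1 : y * f * y⁻¹ = f₀ := huniq _ ⟨conj_F_of_C hF hNB hFr hy hf, by
      calc y * f * y⁻¹ * i * (y * f * y⁻¹)⁻¹ = y * f * (y⁻¹ * (i * y)) * f⁻¹ * y⁻¹ := by group
        _ = y * (f * i * f⁻¹) * y⁻¹ := by rw [hiy, inv_mul_cancel_left]; group
        _ = f * i * f⁻¹ := by rw [← h, mul_inv_cancel_right]⟩
    have h2 : f = f₀ := huniq f ⟨hf, rfl⟩
    rw [← h2] at h1
    exact (mul_inv_eq_iff_eq_mul.mp h1).symm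
  · exact (((show Commute f y from h).mul_left (show Commute i y from hiy)).mul_left
      (show Commute f y from h).inv_left).eq

/-- An element of prime order of `C` has a four group in its centraliser exactly when it centralises a non-trivial
element of `F`. -/
theorem four_iff {y : G} (hy : y ∈ C) (hp : (orderOf y).Prime) :
    FourIn (Subgroup.centralizer (Subgroup.zpowers y : Set G)) ↔ ∃ f ∈ F, f ≠ 1 ∧ f * y = y * f := by
  haveI := Fact.mk hp
  obtain ⟨e, hea, heb, hey⟩ := third hF hNB hFr hy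
  obtain ⟨hya, hyb⟩ := mem_two.mp (C_le hF hNB hFr hy)
  have hp2 := prime_ne_two hF hNB hFr.hab (C_le hF hNB hFr hy) hp
  have hX : IsPGroup (orderOf y) (Subgroup.zpowers y) :=
    IsPGroup.of_card (n := 1) (by rw [Nat.card_zpowers, pow_one])
  refine ⟨fun h4 => ?_, fun ⟨f, hf, hf1, hfy⟩ => ?_⟩
  · obtain ⟨s, hs, r, hr, hsI, hrI, hne, hsr⟩ := h4
    obtain ⟨c, hc⟩ := exists_fix hF hsI
    have hrc : r • c = c := commute_fix hF hsI hc hsr.symm
    have hsy := (mem_cent_zpowers hF hNB).mp hs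
    have hry := (mem_cent_zpowers hF hNB).mp hr
    have hyc : y • c = c := commute_fix hF hsI hc hsy.symm
    have hkey : ∀ i j : G, IsInv i → IsInv j → i • a = a → j • a = a → i * y = y * i → j * y = y * j →
        i ≠ j → ∃ f ∈ F, f ≠ 1 ∧ f * y = y * f := fun i j hi hj hia hja hiy hjy hij => by
      obtain ⟨f, ⟨hf, he⟩, -⟩ := exists_unique_conj hF hNB hFr hi hia hj hja
      refine ⟨f, hf, fun h => hij (by rw [← he, h]; group), (commute_iff_conj hF hNB hFr hy hf hi hia hiy).mp ?_⟩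
      rw [he]
      exact hjy
    rcases eq_or_ne c a with rfl | hca
    · exact hkey s r hsI hrI hc hrc hsy hry hne
    · obtain ⟨d, hd, hdc, hda⟩ : ∃ d : Ω, y • d = d ∧ d ≠ c ∧ d ≠ a := by
        rcases eq_or_ne c b with rfl | hcb
        · exact ⟨e, hey, heb, hea⟩
        · exact ⟨b, hyb, hcb.symm, hFr.hab⟩
      obtain ⟨v, hvC, hv, hvc⟩ := exists_swap_cent hF hNB hp2 hX (mem_fixSet_zpowers hF hNB hyc)
        (mem_fixSet_zpowers hF hNB hya) (mem_fixSet_zpowers hF hNB hd) hca hdc.symm hda.symm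
      have hvy := (mem_cent_zpowers hF hNB).mp hvC
      have hconj : ∀ {w : G}, w * y = y * w → v * w * v⁻¹ * y = y * (v * w * v⁻¹) := fun hw =>
        (((show Commute v y from hvy).mul_left hw).mul_left (show Commute v y from hvy).inv_left).eq
      have hfix : ∀ {w : G}, w • c = c → (v * w * v⁻¹) • a = a := fun hw => by
        rw [← hvc]
        exact smul_conj hw
      exact hkey _ _ (hsI.conj v) (hrI.conj v) (hfix hc) (hfix hrc) (hconj hsy) (hconj hry)
        fun he => hne (mul_left_cancel (mul_right_cancel he))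
  · by_contra h4
    obtain ⟨i, hi, hia, hiy⟩ := exists_inv_cent hF hNB hFr hy hp
    have hfa := (mem_two.mp (le_two hF hNB hFr hf)).1
    refine hf1 (eq_one_of_fix hF hNB hFr hf hi hia (mul_inv_eq_iff_eq_mul.mp ?_))
    exact (rank_one_case hF hNB hp2 hX (mem_fixSet_zpowers hF hNB hya) (mem_fixSet_zpowers hF hNB hyb)
      (mem_fixSet_zpowers hF hNB hey) hFr.hab.symm hea.symm heb.symm h4).1 _ _ (hi.conj f) hi
      ((mem_cent_zpowers hF hNB).mpr ((commute_iff_conj hF hNB hFr hy hf hi hia hiy).mpr hfy))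
      ((mem_cent_zpowers hF hNB).mpr hiy)
      (by rw [mul_smul, mul_smul, inv_smul_eq_iff.mpr hfa.symm, hia, hfa]) hia

variable (hBel : B1.Below.{u} (Nat.card G))
include hBel

/-- The involutions at `a` centralising an element with four group commute pairwise. -/
theorem comm_cent {y : G} (hy : y ∈ C) (hp : (orderOf y).Prime)
    (h4 : FourIn (Subgroup.centralizer (Subgroup.zpowers y : Set G))) {i j : G} (hi : IsInv i) (hia : i • a = a)
    (hiy : i * y = y * i) (hj : IsInv j) (hja : j • a = a) (hjy : j * y = y * j) : i * j = j * i := by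
  have hyD := C_le hF hNB hFr hy
  obtain ⟨K, hK, hmem, A, t, Q, hA, hS, -⟩ :=
    centraliser_setup hF hNB hBel hFr.hab hyD hp (third hF hNB hFr hy) h4
  haveI : Finite (B1.centresPerm Ω K).range := Finite.of_surjective _ (MonoidHom.rangeRestrict_surjective _)
  have h4K : FourIn K := by
    obtain ⟨s, hs, r, hr, hrest⟩ := h4
    exact ⟨s, (hK s).mpr ((mem_cent_zpowers hF hNB).mp hs), r, (hK r).mpr ((mem_cent_zpowers hF hNB).mp hr), hrest⟩
  let B : B1.centres Ω K := ⟨b, (hmem b).mpr (mem_two.mp hyD).2⟩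
  have hB : (B : Ω) ≠ (A : Ω) := by rw [hA]; exact hFr.hab
  have hF' := B1.oneFix_centres hF h4K A.2 B.2 hB
  let φ := (B1.centresPerm Ω K).rangeRestrict
  have hinv : ∀ (w : G) (hwy : w * y = y * w), IsInv w → w • a = a →
      φ ⟨w, (hK w).mpr hwy⟩ ∈ involutionsIn (stabilizer (B1.centresPerm Ω K).range A : Set _) := by
    intro w hwy hw hwa
    refine ⟨mem_stabilizer_iff.mpr (Subtype.ext (show w • (A : Ω) = A by rw [hA, hwa])), fun e => ?_, ?_⟩
    · have hwk : (⟨w, (hK w).mpr hwy⟩ : K) ∈ (B1.centresPerm Ω K).ker := congrArg Subtype.val e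
      exact hFr.hab (eq_of_fix hF hw (B1.centresPerm_eq_one hwk ((hmem b).mpr (mem_two.mp hyD).2)) hwa)
    · rw [← map_mul, show (⟨w, (hK w).mpr hwy⟩ : K) * ⟨w, (hK w).mpr hwy⟩ = 1 from Subtype.ext hw.2, map_one]
  let i' : K := ⟨i, (hK i).mpr hiy⟩
  let j' : K := ⟨j, (hK j).mpr hjy⟩
  have hcom : φ (i' * j' * i' * j') = 1 := by
    have h := SuzukiRankOne.invol_comm hS hF'.four (hinv i hiy hi hia) (hinv j hjy hj hja)
    have h1 : φ i' * φ i' = 1 := by rw [← map_mul, show i' * i' = 1 from Subtype.ext hi.2, map_one]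
    have h2 : φ j' * φ j' = 1 := by rw [← map_mul, show j' * j' = 1 from Subtype.ext hj.2, map_one]
    have h' : φ i' * φ j' = φ j' * φ i' := h
    rw [map_mul, map_mul, map_mul]
    calc φ i' * φ j' * φ i' * φ j' = φ i' * φ j' * (φ i' * φ j') := mul_assoc _ _ _
      _ = φ i' * φ j' * (φ j' * φ i') := by rw [← h']
      _ = φ i' * (φ j' * φ j') * φ i' := by simp only [mul_assoc]
      _ = 1 := by rw [h2, mul_one, h1]
  have hwk : (i' * j' * i' * j' : K) ∈ (B1.centresPerm Ω K).ker := congrArg Subtype.val hcom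
  have hwb : (i * j * i * j) • b = b := B1.centresPerm_eq_one hwk ((hmem b).mpr (mem_two.mp hyD).2)
  have hw1 := hNB i (i * j * i * j) a b hi hia (by
      simp only [mul_inv_rev, hi.inv, hj.inv, mul_assoc]
      rw [← mul_assoc i i, hi.2, one_mul])
    (by simp only [mul_smul, hja, hia]) hFr.hab hwb
  calc i * j = (i * j * i * j) * (j * i) := by
        simp only [mul_assoc, ← mul_assoc j j, hj.2, one_mul, hi.2, mul_one]
    _ = j * i := by rw [hw1, one_mul]

/-- An element of `C` centralising `F` forces the involutions at `a` to commute. -/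
theorem commAt_of_cent {c : G} (hc : c ∈ C) (hc1 : c ≠ 1) (hcF : ∀ f ∈ F, c * f = f * c) : CommAt G a := by
  obtain ⟨p, hp, hpd⟩ := Nat.exists_prime_and_dvd fun e => hc1 (orderOf_eq_one_iff.mp e)
  set y := c ^ (orderOf c / p)
  have hyo : orderOf y = p := orderOf_pow_orderOf_div (orderOf_pos c).ne' hpd
  have hyC : y ∈ C := pow_mem hc _
  have hyp : (orderOf y).Prime := by rwa [hyo]
  have hyF : ∀ f ∈ F, f * y = y * f := fun f hf => ((show Commute c f from hcF f hf).pow_left _).eq.symm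
  obtain ⟨f, hf, hf1⟩ := exists_ne_one hF hNB hFr
  have h4 := (four_iff hF hNB hFr hyC hyp).mpr ⟨f, hf, hf1, hyF f hf⟩
  obtain ⟨i₀, hi₀, hi₀a, hi₀y⟩ := exists_inv_cent hF hNB hFr hyC hyp
  have hall : ∀ j : G, IsInv j → j • a = a → j * y = y * j := fun j hj hja => by
    obtain ⟨g, ⟨hg, rfl⟩, -⟩ := exists_unique_conj hF hNB hFr hi₀ hi₀a hj hja
    exact (commute_iff_conj hF hNB hFr hyC hg hi₀ hi₀a hi₀y).mpr (hyF g hg)
  intro i j hi hj hia hja
  exact comm_cent hF hNB hFr hBel hyC hyp h4 hi hia (hall i hi hia) hj hja (hall j hj hja)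

end Frame

end CfsgLib.Bender.NC
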